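import Cfsg.Agent.PGLThree.Ctx

/-!
# The centraliser of an involution on its axis

An involution `u` of `P` is a homology. Its centraliser fixes centre and axis and, without
transvections in `P`, is faithful and of order prime to the characteristic on the axis.
-/

set_option autoImplicit false
set_option linter.unusedSectionVars false

namespace CfsgLib.PGLThree

open Matrix Cfsg.Geo CfsgLib.Aschbacher CfsgLib.MaxSub CfsgLib.SLThree

variable {F : Type*} [Field F] {P : Subgroup (GL (Fin 3) F)}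

theorem homMat_apply (e f x : Fin 3 → F) :
    homMat e f *ᵥ x = -x + ((2 : F) * (f ⬝ᵥ x)) • e := by
  rw [homMat, add_mulVec, neg_mulVec, one_mulVec, smul_mulVec, vecMulVec_mulVec', smul_smul]

theorem mat_coe_mul (g h : P) :
    mat ((g * h : P) : GL (Fin 3) F) = mat (g : GL (Fin 3) F) * mat (h : GL (Fin 3) F) :=
  Units.val_mul _ _

theorem ext_of_mulVec {g h : P}
    (H : ∀ x, mat (g : GL (Fin 3) F) *ᵥ x = mat (h : GL (Fin 3) F) *ᵥ x) : g = h :=
  Subtype.ext (Units.ext (Matrix.ext_iff_mulVec.2 H))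

/-- A non-trivial element whose difference with one has square zero is a transvection. -/
theorem flag_of_sq_zero {g : GL (Fin 3) F} (hg : g ∈ P) (hne : g ≠ 1)
    (h : (mat g - 1) * (mat g - 1) = 0) : ∃ v a, Flag P v a := by
  set N := mat g - 1 with hN
  have hN0 : N ≠ 0 := fun e => hne (Units.ext (by rw [Units.val_one]; exact sub_eq_zero.1 e))
  obtain ⟨y, hy⟩ : ∃ y, N *ᵥ y ≠ 0 := by
    by_contra! hall
    exact hN0 (Matrix.ext_iff_mulVec.2 fun x => by rw [hall x, zero_mulVec])
  have hNN : ∀ x, N *ᵥ (N *ᵥ x) = 0 := fun x => by rw [mulVec_mulVec, h, zero_mulVec]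
  have hall : ∀ z, ∃ c : F, c • (N *ᵥ y) = N *ᵥ z := by
    intro z
    refine (indep_or_smul hy (N *ᵥ z)).resolve_left fun hi => ?_
    have hli : LinearIndependent F ![N *ᵥ y, N *ᵥ z, y, z] := by
      rw [Fintype.linearIndependent_iff]
      intro c hc
      simp only [Fin.sum_univ_four, Matrix.cons_val] at hc
      obtain ⟨h2, h3⟩ := hi (c 2) (c 3) (by
        have := congrArg (N *ᵥ ·) hc
        simpa [mulVec_add, mulVec_smul, hNN] using this)
      rw [h2, h3, zero_smul, zero_smul, add_zero, add_zero] at hc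
      obtain ⟨h0, h1⟩ := hi (c 0) (c 1) hc
      intro i
      fin_cases i <;> assumption
    have := hli.fintype_card_le_finrank
    rw [Fintype.card_fin, Module.finrank_fin_fun] at this
    omega
  choose c hc using hall
  obtain ⟨a, ha⟩ : ∃ a : Fin 3 → F, a = fun j => c (Pi.single j 1) := ⟨_, rfl⟩
  have hNa : N = vecMulVec (N *ᵥ y) a := by
    ext i j
    have h' := congrFun (hc (Pi.single j 1)) i
    simp only [Pi.smul_apply, smul_eq_mul, mulVec_single_one, col_apply] at h'
    rw [← h', vecMulVec_apply, ha, mul_comm]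
  have ha0 : a ≠ 0 := fun e => hN0 (by rw [hNa, e]; simp)
  have hdot : a ⬝ᵥ (N *ᵥ y) = 0 := by
    have h' := h
    rw [hNa, vecMulVec_mul_vecMulVec, vecMulVec_smul] at h'
    rw [← hNa] at h'
    exact (smul_eq_zero.1 h').resolve_right hN0
  refine ⟨N *ᵥ y, a, flag_of_tv hdot hy ha0 ?_⟩
  convert hg using 1
  apply Units.ext
  rw [tv_coe hdot, ← hNa, hN]
  exact add_sub_cancel 1 (mat g)

/-- A centre and an axis of an involution. -/
structure Axis (u : P) where
  /-- the centre -/
  e : Fin 3 → F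
  /-- the axis -/
  f : Fin 3 → F
  dot : f ⬝ᵥ e = 1
  eq : mat (u : GL (Fin 3) F) = homMat e f
  two : (2 : F) ≠ 0

theorem Core.nonempty_axis (hc : Core P) (h2 : (2 : F) ≠ 0) {u : P} (hu : orderOf u = 2) :
    Nonempty (Axis u) := by
  have hu1 : (u : GL (Fin 3) F) ≠ 1 := fun h => by
    rw [show u = 1 from Subtype.ext h, orderOf_one] at hu; omega
  have huu : (u : GL (Fin 3) F) * u = 1 := by
    have h : u * u = 1 := by rw [← sq, ← hu, pow_orderOf_eq_one]
    exact congrArg Subtype.val h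
  obtain ⟨e, f, hef, z, hz, hze⟩ := exists_hom (M := Subgroup.zpowers (u : GL (Fin 3) F)) h2
    (Subgroup.mem_zpowers _) (hc.le_specialLinear u.2) huu hu1
  refine ⟨⟨e, f, hef, ?_, h2⟩⟩
  classical
  rw [IsOfFinOrder.mem_zpowers_iff_mem_range_orderOf
    (orderOf_pos_iff.1 (by rw [Subgroup.orderOf_coe, hu]; norm_num)), Subgroup.orderOf_coe, hu] at hz
  obtain ⟨k, hk, rfl⟩ := Finset.mem_image.1 hz
  rcases show k = 0 ∨ k = 1 by simp at hk; omega with rfl | rfl
  · exfalso
    have h0 : homMat e f = 1 := by rw [← hze, pow_zero, Units.val_one]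
    obtain ⟨x, hx, hfx⟩ := exists_ne_zero_dot f
    have := congrArg (· *ᵥ x) h0
    simp only [homMat_apply, hfx, mul_zero, zero_smul, add_zero, one_mulVec] at this
    have h' : (2 : F) • x = 0 := by
      rw [two_smul]
      nth_rw 1 [← this]
      exact neg_add_cancel x
    exact hx ((smul_eq_zero.1 h').resolve_left h2)
  · rw [← hze, pow_one]

namespace Axis

variable {u : P} (A : Axis u)

theorem mulVec_u (x : Fin 3 → F) :
    mat (u : GL (Fin 3) F) *ᵥ x = -x + ((2 : F) * (A.f ⬝ᵥ x)) • A.e := by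
  rw [A.eq, homMat_apply]

theorem u_e : mat (u : GL (Fin 3) F) *ᵥ A.e = A.e := by
  rw [A.mulVec_u, A.dot, mul_one, two_smul]; abel

theorem mulVec_e {g : P} (h : g * u = u * g) :
    mat (g : GL (Fin 3) F) *ᵥ A.e = (A.f ⬝ᵥ (mat (g : GL (Fin 3) F) *ᵥ A.e)) • A.e := by
  set y := mat (g : GL (Fin 3) F) *ᵥ A.e with hy
  have h1 : mat (u : GL (Fin 3) F) *ᵥ y = y := by
    rw [hy, mulVec_mulVec, ← mat_coe_mul, ← h, mat_coe_mul, ← mulVec_mulVec, A.u_e]
  rw [A.mulVec_u] at h1
  have h2 : (2 : F) • y = (2 : F) • ((A.f ⬝ᵥ y) • A.e) := by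
    rw [smul_smul, two_smul]
    nth_rw 2 [← h1]
    abel
  exact smul_right_injective _ A.two h2

theorem dot_mulVec {g : P} (h : g * u = u * g) (x : Fin 3 → F) :
    A.f ⬝ᵥ (mat (g : GL (Fin 3) F) *ᵥ x) =
      (A.f ⬝ᵥ x) * (A.f ⬝ᵥ (mat (g : GL (Fin 3) F) *ᵥ A.e)) := by
  have h1 : mat (g : GL (Fin 3) F) *ᵥ (mat (u : GL (Fin 3) F) *ᵥ x) =
      mat (u : GL (Fin 3) F) *ᵥ (mat (g : GL (Fin 3) F) *ᵥ x) := by
    rw [mulVec_mulVec, mulVec_mulVec, ← mat_coe_mul, ← mat_coe_mul, h]
  rw [A.mulVec_u, A.mulVec_u, mulVec_add, mulVec_neg, mulVec_smul] at h1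
  have h2 := congrArg (A.f ⬝ᵥ ·) h1
  simp only [dotProduct_add, dotProduct_neg, dotProduct_smul, smul_eq_mul, A.dot, mul_one] at h2
  refine mul_left_cancel₀ A.two ?_
  linear_combination -h2

/-- The axis as a plane. -/
def W : Submodule F (Fin 3 → F) := LinearMap.ker (dotProductEquiv F (Fin 3) A.f)

theorem mem_W {x : Fin 3 → F} : x ∈ A.W ↔ A.f ⬝ᵥ x = 0 := Iff.rfl

theorem sub_mem (x : Fin 3 → F) : x - (A.f ⬝ᵥ x) • A.e ∈ A.W := by
  rw [mem_W, dotProduct_sub, dotProduct_smul, A.dot, smul_eq_mul, mul_one, sub_self]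

/-- The space is the sum of centre and axis. -/
def split : (F × A.W) ≃ₗ[F] (Fin 3 → F) where
  toFun z := z.1 • A.e + z.2
  map_add' a b := by simp only [Prod.fst_add, Prod.snd_add, Submodule.coe_add, add_smul]; abel
  map_smul' c a := by simp [smul_smul, smul_add]
  invFun x := (A.f ⬝ᵥ x, ⟨x - (A.f ⬝ᵥ x) • A.e, A.sub_mem x⟩)
  left_inv := by
    rintro ⟨a, w, hw⟩
    rw [mem_W] at hw
    ext <;> simp [dotProduct_add, dotProduct_smul, A.dot, hw]
  right_inv x := by simp

theorem finrank_W : Module.finrank F A.W = 2 := by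
  have h := A.split.finrank_eq
  rw [Module.finrank_prod, Module.finrank_self, Module.finrank_fin_fun] at h
  omega

/-- The eigenvalue on the centre. -/
noncomputable def lam : Subgroup.centralizer ({u} : Set P) →* F where
  toFun g := A.f ⬝ᵥ (mat ((g : P) : GL (Fin 3) F) *ᵥ A.e)
  map_one' := by simp [mat, A.dot]
  map_mul' g h := by
    rw [Subgroup.coe_mul, mat_coe_mul, ← mulVec_mulVec,
      A.dot_mulVec (Subgroup.mem_centralizer_singleton_iff.1 g.2), mul_comm]

theorem mulVec_e' (g : Subgroup.centralizer ({u} : Set P)) :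
    mat ((g : P) : GL (Fin 3) F) *ᵥ A.e = A.lam g • A.e :=
  A.mulVec_e (Subgroup.mem_centralizer_singleton_iff.1 g.2)

theorem dot_mulVec' (g : Subgroup.centralizer ({u} : Set P)) (x : Fin 3 → F) :
    A.f ⬝ᵥ (mat ((g : P) : GL (Fin 3) F) *ᵥ x) = (A.f ⬝ᵥ x) * A.lam g :=
  A.dot_mulVec (Subgroup.mem_centralizer_singleton_iff.1 g.2) x

theorem mulVec_mem (g : Subgroup.centralizer ({u} : Set P)) {x : Fin 3 → F} (hx : x ∈ A.W) :
    mat ((g : P) : GL (Fin 3) F) *ᵥ x ∈ A.W := by
  rw [mem_W] at hx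
  rw [mem_W, A.dot_mulVec', hx, zero_mul]

/-- The action on the axis. -/
noncomputable def res : Subgroup.centralizer ({u} : Set P) →* Module.End F A.W where
  toFun g := (Matrix.toLin' (mat ((g : P) : GL (Fin 3) F))).restrict fun x hx => by
    simpa only [Matrix.toLin'_apply] using A.mulVec_mem g hx
  map_one' := by
    ext x : 2
    simp [mat, LinearMap.restrict_apply]
  map_mul' g h := by
    ext x : 2
    simp [LinearMap.restrict_apply, mat, mulVec_mulVec, Module.End.mul_apply]

theorem res_apply (g : Subgroup.centralizer ({u} : Set P)) (w : A.W) :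
    ((A.res g w : A.W) : Fin 3 → F) = mat ((g : P) : GL (Fin 3) F) *ᵥ (w : Fin 3 → F) := rfl

theorem mulVec_eq (g : Subgroup.centralizer ({u} : Set P)) (x : Fin 3 → F) :
    mat ((g : P) : GL (Fin 3) F) *ᵥ x = ((A.f ⬝ᵥ x) * A.lam g) • A.e +
      (A.res g ⟨x - (A.f ⬝ᵥ x) • A.e, A.sub_mem x⟩ : A.W) := by
  rw [A.res_apply, mulVec_sub, mulVec_smul, A.mulVec_e', smul_smul]
  simp

theorem ext {g h : Subgroup.centralizer ({u} : Set P)} (h1 : A.lam g = A.lam h)
    (h2 : A.res g = A.res h) : g = h :=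
  Subtype.ext (ext_of_mulVec fun x => by rw [A.mulVec_eq, A.mulVec_eq h, h1, h2])

/-- A basis of the axis. -/
noncomputable def basis : Module.Basis (Fin 2) F A.W :=
  Module.finBasisOfFinrankEq F A.W A.finrank_W

/-- The matrices on the axis. -/
noncomputable def rho : Subgroup.centralizer ({u} : Set P) →* GL (Fin 2) F :=
  (((LinearMap.toMatrixAlgEquiv A.basis) : Module.End F A.W →* Matrix (Fin 2) (Fin 2) F).comp
    A.res).toHomUnits

theorem coe_rho (g : Subgroup.centralizer ({u} : Set P)) :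
    (A.rho g : Matrix (Fin 2) (Fin 2) F) = LinearMap.toMatrixAlgEquiv A.basis (A.res g) := rfl

theorem res_eq_smul {g : Subgroup.centralizer ({u} : Set P)} {μ : F}
    (h : (A.rho g : Matrix (Fin 2) (Fin 2) F) = μ • 1) : A.res g = μ • 1 := by
  apply (LinearMap.toMatrixAlgEquiv A.basis).injective
  rw [← A.coe_rho, h, map_smul, map_one]

theorem lam_mul_det (hc : Core P) (g : Subgroup.centralizer ({u} : Set P)) :
    A.lam g * LinearMap.det (A.res g) = 1 := by
  have h : Matrix.toLin' (mat ((g : P) : GL (Fin 3) F)) =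
      A.split.conj ((A.lam g • (LinearMap.id : F →ₗ[F] F)).prodMap (A.res g)) := by
    apply LinearMap.ext
    intro x
    obtain ⟨⟨a, w⟩, rfl⟩ := A.split.surjective x
    rw [LinearEquiv.conj_apply_apply, LinearEquiv.symm_apply_apply, Matrix.toLin'_apply]
    show mat ((g : P) : GL (Fin 3) F) *ᵥ (a • A.e + (w : Fin 3 → F)) = _
    rw [mulVec_add, mulVec_smul, A.mulVec_e', ← A.res_apply]
    simp only [LinearMap.prodMap_apply, LinearMap.smul_apply, LinearMap.id_apply, smul_smul]
    show _ = (A.lam g * a) • A.e + (A.res g w : Fin 3 → F)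
    rw [mul_comm]
  have h1 := congrArg LinearMap.det h
  rw [LinearMap.det_toLin', hc.det_eq_one (g : P).2, LinearEquiv.conj_apply, LinearMap.comp_assoc,
    LinearMap.det_conj, LinearMap.det_prodMap, LinearMap.det_smul, LinearMap.det_id, mul_one,
    Module.finrank_self, pow_one] at h1
  exact h1.symm

theorem res_u : A.res ⟨u, Subgroup.mem_centralizer_singleton_iff.2 rfl⟩ = -1 := by
  ext w : 2
  rw [A.res_apply]
  show _ = -(w : Fin 3 → F)
  rw [A.mulVec_u, A.mem_W.1 w.2, mul_zero, zero_smul, add_zero]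

theorem rho_u :
    (A.rho ⟨u, Subgroup.mem_centralizer_singleton_iff.2 rfl⟩ : Matrix (Fin 2) (Fin 2) F) = -1 := by
  rw [A.coe_rho, A.res_u]
  exact (map_neg (LinearMap.toMatrixAlgEquiv A.basis) (1 : Module.End F A.W)).trans
    (congrArg Neg.neg (map_one (LinearMap.toMatrixAlgEquiv A.basis)))

theorem rho_injective (hc : Core P) : Function.Injective A.rho := by
  intro g h hgh
  have hr : A.res g = A.res h := (LinearMap.toMatrixAlgEquiv A.basis).injective
    (congrArg Units.val hgh)
  refine A.ext ?_ hr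
  have hg := A.lam_mul_det hc g
  rw [hr, ← A.lam_mul_det hc h] at hg
  refine mul_right_cancel₀ (fun h0 => ?_) hg
  have := A.lam_mul_det hc h
  rw [h0, mul_zero] at this
  exact zero_ne_one this

/-- An element scalar on the axis is trivial or `u` modulo scalars, if its scalar is a sixth root
of unity. -/
theorem proj_of_scalar (hc : Core P) {g : Subgroup.centralizer ({u} : Set P)} {μ : F}
    (hg : A.res g = μ • 1) (h6 : μ ^ 6 = 1) :
    proj P (g : P) = 1 ∨ proj P (g : P) = proj P u := by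
  have hd := A.lam_mul_det hc g
  rw [hg, LinearMap.det_smul, map_one, A.finrank_W, mul_one] at hd
  have hv : ∀ x, mat ((g : P) : GL (Fin 3) F) *ᵥ x =
      ((A.f ⬝ᵥ x) * A.lam g) • A.e + μ • (x - (A.f ⬝ᵥ x) • A.e) := fun x => by
    rw [A.mulVec_eq, hg]
    simp
  have h3 : (μ ^ 3) * (μ ^ 3) = 1 := by rw [← pow_add]; exact h6
  rcases mul_self_eq_one_iff.1 h3 with h | h
  · refine Or.inl (proj_eq_one_iff.2 (mem_Z_iff.2 ⟨μ, Matrix.ext_iff_mulVec.2 fun x => ?_⟩))
    have hl : A.lam g = μ := by linear_combination μ * hd - A.lam g * h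
    rw [hv, hl, smul_mulVec, one_mulVec, smul_sub, smul_smul, mul_comm μ]
    abel
  · have huu : u * u = 1 := ext_of_mulVec fun x => by
      rw [mat_coe_mul, A.eq, homMat_sq A.dot]
      simp [mat]
    have hl : A.lam g = -μ := by linear_combination (-μ) * hd + A.lam g * h
    have hz : (g : P) * u ∈ Z P := mem_Z_iff.2 ⟨-μ, Matrix.ext_iff_mulVec.2 fun x => by
      rw [mat_coe_mul, ← mulVec_mulVec, A.mulVec_u, mulVec_add, mulVec_neg, mulVec_smul,
        A.mulVec_e', hv, hl, smul_mulVec, one_mulVec]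
      ext i
      simp only [Pi.add_apply, Pi.neg_apply, Pi.smul_apply, Pi.sub_apply, smul_eq_mul]
      ring⟩
    right
    have h1 := proj_eq_one_iff.2 hz
    rw [map_mul] at h1
    rw [eq_inv_of_mul_eq_one_left h1, ← map_inv, inv_eq_of_mul_eq_one_right huu]

/-- A plane is spanned by any two independent vectors in it. -/
theorem exists_span {a b x : Fin 3 → F} (h : Indep a b) (ha : a ∈ A.W) (hb : b ∈ A.W)
    (hx : x ∈ A.W) : ∃ s t : F, s • a + t • b = x := by
  have hf : A.f ≠ 0 := fun h0 => by simpa [h0] using A.dot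
  exact exists_combination h hf (by rw [dotProduct_comm]; exact ha)
    (by rw [dotProduct_comm]; exact hb) (by rw [dotProduct_comm]; exact hx)

include A in
/-- Without transvections the centraliser has order prime to the characteristic. -/
theorem not_dvd_card {p : ℕ} [Fact p.Prime] [CharP F p] [Finite F] (hM : NoFlag P) :
    ¬ p ∣ Nat.card (Subgroup.centralizer ({u} : Set P)) := by
  classical
  intro hdvd
  obtain ⟨g, hg⟩ := exists_prime_orderOf_dvd_card' p hdvd
  have hp := (Fact.out : p.Prime)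
  have hgp : g ^ p = 1 := hg ▸ pow_orderOf_eq_one g
  have hg1 : ((g : P) : GL (Fin 3) F) ≠ 1 := fun h => by
    rw [show g = 1 from Subtype.ext (Subtype.ext h), orderOf_one] at hg
    exact hp.one_lt.ne hg
  set G := mat ((g : P) : GL (Fin 3) F) with hG
  set N := G - 1 with hN
  have hlam : A.lam g = 1 := by
    have h := sub_pow_char (p := p) (A.lam g) 1
    rw [← map_pow, hgp, map_one, one_pow, sub_self] at h
    exact sub_eq_zero.1 (eq_zero_of_pow_eq_zero h)
  have hNe : N *ᵥ A.e = 0 := by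
    rw [hN, sub_mulVec, hG, A.mulVec_e', hlam, one_smul, one_mulVec, sub_self]
  have hNW : ∀ x, N *ᵥ x ∈ A.W := fun x => by
    rw [mem_W, hN, sub_mulVec, dotProduct_sub, hG, A.dot_mulVec', hlam, mul_one, one_mulVec,
      sub_self]
  have hNp : N ^ p = 0 := by
    have hGp : G ^ p = 1 := by
      have h : (((g : P) : GL (Fin 3) F)) ^ p = 1 := by
        simpa using congrArg
          (fun z : Subgroup.centralizer ({u} : Set P) => ((z : P) : GL (Fin 3) F)) hgp
      rw [hG, show mat ((g : P) : GL (Fin 3) F) ^ p =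
        ((((g : P) : GL (Fin 3) F) ^ p : GL (Fin 3) F) : Matrix _ _ F) from
          (Units.val_pow_eq_pow_val _ _).symm, h, Units.val_one]
    rw [hN, sub_pow_char_of_commute (p := p) (Commute.one_right G), one_pow, hGp, sub_self]
  have hex : ∃ k, N ^ k = 0 := ⟨p, hNp⟩
  have hle : Nat.find hex ≤ 2 := by
    by_contra hgt
    obtain ⟨k, hk⟩ : ∃ k, Nat.find hex = k + 3 := ⟨Nat.find hex - 3, by omega⟩
    have h0 : N ^ (k + 3) = 0 := hk ▸ Nat.find_spec hex
    have h1 : N ^ (k + 2) ≠ 0 := Nat.find_min hex (by omega)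
    obtain ⟨x, hx⟩ : ∃ x, N ^ (k + 2) *ᵥ x ≠ 0 := by
      by_contra! hall
      exact h1 (Matrix.ext_iff_mulVec.2 fun x => by rw [hall x, zero_mulVec])
    set y := N ^ k *ᵥ x with hy
    have hy2 : N *ᵥ (N *ᵥ y) ≠ 0 := by
      rw [hy, mulVec_mulVec, mulVec_mulVec, ← pow_two, ← pow_add, add_comm]; exact hx
    have hy3 : N *ᵥ (N *ᵥ (N *ᵥ y)) = 0 := by
      rw [hy, mulVec_mulVec, mulVec_mulVec, mulVec_mulVec, ← pow_three',
        ← pow_add, add_comm, h0, zero_mulVec]
    have hind : Indep (N *ᵥ y) (N *ᵥ (N *ᵥ y)) := by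
      intro s t h
      have hs : s = 0 := by
        have := congrArg (N *ᵥ ·) h
        simp only [mulVec_add, mulVec_smul, hy3, smul_zero, add_zero, mulVec_zero] at this
        exact (smul_eq_zero.1 this).resolve_right hy2
      subst hs
      rw [zero_smul, zero_add] at h
      exact ⟨rfl, (smul_eq_zero.1 h).resolve_right hy2⟩
    obtain ⟨s, t, hst⟩ := A.exists_span hind (hNW _) (hNW _) (A.sub_mem y)
    have hval : N *ᵥ y = s • (N *ᵥ (N *ᵥ y)) := by
      have := congrArg (N *ᵥ ·) hst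
      simp only [mulVec_add, mulVec_smul, hy3, smul_zero, add_zero, mulVec_sub, hNe, sub_zero] at this
      exact this.symm
    exact one_ne_zero (hind 1 (-s) (by rw [one_smul, neg_smul, ← hval, add_neg_cancel])).1
  have hsq : N * N = 0 := by
    rw [← pow_two, ← Nat.sub_add_cancel hle, pow_add, Nat.find_spec hex, mul_zero]
  obtain ⟨v, a, hva⟩ := flag_of_sq_zero (g : P).2 hg1 hsq
  exact hM v a hva

/-- Distinct commuting involutions: the centre of one lies on the axis of the other. -/
theorem dot_eq_zero {v : P} (B : Axis v) (hne : u ≠ v) (h : u * v = v * u) :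
    B.f ⬝ᵥ A.e = 0 := by
  set c := A.f ⬝ᵥ (mat (v : GL (Fin 3) F) *ᵥ A.e) with hc
  have h1 : mat (v : GL (Fin 3) F) *ᵥ A.e = c • A.e := A.mulVec_e h.symm
  have hcc : c * c = 1 := by
    have h2 : mat (v : GL (Fin 3) F) *ᵥ (mat (v : GL (Fin 3) F) *ᵥ A.e) = A.e := by
      rw [mulVec_mulVec, B.eq, homMat_sq B.dot, one_mulVec]
    rw [h1, mulVec_smul, h1, smul_smul] at h2
    have h3 := congrArg (A.f ⬝ᵥ ·) h2
    simpa [dotProduct_smul, A.dot] using h3
  have he0 : A.e ≠ 0 := fun e => by simpa [e] using A.dot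
  rw [B.mulVec_u] at h1
  rcases mul_self_eq_one_iff.1 hcc with h' | h'
  · exfalso
    apply hne
    have he : A.e = (B.f ⬝ᵥ A.e) • B.e := by
      refine smul_right_injective _ A.two ?_
      simp only
      rw [smul_smul, two_smul]
      nth_rw 2 [show A.e = (1 : F) • A.e from (one_smul _ _).symm]
      rw [← h', ← h1]
      abel
    have hf : ∀ x, A.f ⬝ᵥ x = (A.f ⬝ᵥ B.e) * (B.f ⬝ᵥ x) := fun x => by
      have h2 := A.dot_mulVec h.symm x
      rw [← hc, h', mul_one, B.mulVec_u, dotProduct_add, dotProduct_neg, dotProduct_smul,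
        smul_eq_mul] at h2
      exact mul_left_cancel₀ A.two (by linear_combination -h2)
    have hprod : (A.f ⬝ᵥ B.e) * (B.f ⬝ᵥ A.e) = 1 := (hf A.e).symm.trans A.dot
    refine ext_of_mulVec fun x => ?_
    rw [A.mulVec_u, B.mulVec_u]
    nth_rw 1 [he]
    rw [smul_smul, hf x]
    congr 2
    linear_combination (2 * (B.f ⬝ᵥ x)) * hprod
  · rw [h', neg_one_smul, add_eq_left, smul_eq_zero] at h1
    rcases h1 with h1 | h1
    · exact (mul_eq_zero.1 h1).resolve_left A.two
    · exfalso
      have := B.dot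
      simp [h1] at this

end Axis

/-- Centres of pairwise commuting distinct involutions are independent. -/
theorem linearIndependent_centres {n : ℕ} {w : Fin n → P} (A : ∀ i, Axis (w i))
    (hw : Function.Injective w) (hcomm : ∀ i j, w i * w j = w j * w i) :
    LinearIndependent F fun i => (A i).e := by
  rw [Fintype.linearIndependent_iff]
  intro c hc i
  have := congrArg ((A i).f ⬝ᵥ ·) hc
  simp only [dotProduct_sum, dotProduct_smul, smul_eq_mul, dotProduct_zero] at this
  rw [Finset.sum_eq_single i] at this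
  · simpa [(A i).dot] using this
  · intro j _ hj
    rw [(A j).dot_eq_zero (A i) (fun h => hj (hw h)) (hcomm j i), mul_zero]
  · simp

/-- There are at most three pairwise commuting involutions. -/
theorem card_le_three (hc : Core P) (h2 : (2 : F) ≠ 0) {n : ℕ} {w : Fin n → P}
    (hord : ∀ i, orderOf (w i) = 2) (hw : Function.Injective w)
    (hcomm : ∀ i j, w i * w j = w j * w i) : n ≤ 3 := by
  have := (linearIndependent_centres (fun i => (hc.nonempty_axis h2 (hord i)).some) hw
    hcomm).fintype_card_le_finrank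
  rwa [Fintype.card_fin, Module.finrank_fin_fun] at this

/-- The common centraliser of three commuting involutions is abelian. -/
theorem commute_of_three (hc : Core P) (h2 : (2 : F) ≠ 0) {w : Fin 3 → P}
    (hord : ∀ i, orderOf (w i) = 2) (hw : Function.Injective w)
    (hcomm : ∀ i j, w i * w j = w j * w i) {g h : P} (hg : ∀ i, g * w i = w i * g)
    (hh : ∀ i, h * w i = w i * h) : g * h = h * g := by
  let A := fun i => (hc.nonempty_axis h2 (hord i)).some
  have hli := linearIndependent_centres A hw hcomm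
  let b := basisOfLinearIndependentOfCardEqFinrank hli
    (by rw [Fintype.card_fin, Module.finrank_fin_fun])
  have hlin : Matrix.toLin' (mat ((g * h : P) : GL (Fin 3) F)) =
      Matrix.toLin' (mat ((h * g : P) : GL (Fin 3) F)) := b.ext fun i => by
    simp only [b, coe_basisOfLinearIndependentOfCardEqFinrank, Matrix.toLin'_apply, mat_coe_mul,
      ← mulVec_mulVec]
    obtain ⟨a, ha⟩ : ∃ a : F, mat (g : GL (Fin 3) F) *ᵥ (A i).e = a • (A i).e :=
      ⟨_, (A i).mulVec_e (hg i)⟩
    obtain ⟨c, hc'⟩ : ∃ c : F, mat (h : GL (Fin 3) F) *ᵥ (A i).e = c • (A i).e :=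
      ⟨_, (A i).mulVec_e (hh i)⟩
    rw [hc', mulVec_smul, ha, mulVec_smul, hc', smul_comm]
  exact Subtype.ext (Units.ext (Matrix.toLin'.injective hlin))

end CfsgLib.PGLThree
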