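import Cfsg.Agent.PGLThree.Double.Frame
import Cfsg.Agent.PGLThree.Double.Star
import Cfsg.Agent.TwoGroups.Models

/-!
# Incident flags: characteristic two and dihedral Sylow subgroups of order eight

A double configuration forces `p = 2`; the centraliser of a rich transvection modulo scalars is
dihedral of order eight and is a Sylow subgroup of the quotient.
-/

set_option autoImplicit false
set_option linter.unusedSectionVars false

namespace CfsgLib.PGLThree

open Matrix Cfsg.Geo CfsgLib.MaxSub CfsgLib.SLThree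
open CfsgLib.Aschbacher (mat)

/-- A Sylow subgroup from a centraliser of order eight. -/
theorem dihedral_of_centralizer {S : Type*} [Group S] [Finite S] {t r s : S} (ht : t ≠ 1)
    (hr : r * r = t) (hs : s * s = 1) (ht2 : t * t = 1) (hsr : s * r * s⁻¹ = r⁻¹)
    (hrC : r ∈ Subgroup.centralizer {t}) (hsC : s ∈ Subgroup.centralizer {t})
    (hall : ∀ g ∈ Subgroup.centralizer {t},
      g = 1 ∨ g = t ∨ g = r ∨ g = r * t ∨ g = s ∨ g = s * t ∨ g = s * r ∨ g = s * r * t) :
    orderOf t = 2 ∧ IsPGroup 2 (Subgroup.centralizer {t}) ∧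
      ∀ T : Sylow 2 S, Nonempty (T ≃* DihedralGroup 4) := by
  classical
  haveI : Fact (Nat.Prime 2) := ⟨Nat.prime_two⟩
  set C := Subgroup.centralizer ({t} : Set S) with hC
  have hot : orderOf t = 2 := orderOf_eq_prime (by rw [pow_two, ht2]) ht
  have hr4 : orderOf r = 4 := by
    have := orderOf_eq_prime_pow (G := S) (p := 2) (n := 1) (x := r)
      (by rw [pow_one, pow_two, hr]; exact ht)
      (by rw [show (2 : ℕ) ^ (1 + 1) = 2 * 2 from rfl, pow_mul, pow_two r, hr, pow_two, ht2])
    simpa using this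
  have hnc : s * r ≠ r * s := fun h => ht (by
    rw [h, mul_inv_cancel_right] at hsr
    rw [← hr, eq_inv_iff_mul_eq_one.1 hsr])
  have hnot : s ∉ Subgroup.zpowers r := by
    rintro ⟨i, hi⟩
    exact hnc (by rw [← hi]; exact ((Commute.refl r).zpow_left i).eq)
  have hle : Nat.card C ≤ 8 := by
    let L : Finset S := {1, t, r, r * t, s, s * t, s * r, s * r * t}
    refine le_trans (Nat.card_le_card_of_injective (fun g : C => (⟨g.1, ?_⟩ : L)) ?_) ?_
    · have := hall g.1 g.2
      simp only [L, Finset.mem_insert, Finset.mem_singleton]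
      exact this
    · exact fun g g' h => Subtype.ext (congrArg Subtype.val h :)
    · rw [Nat.card_eq_finsetCard]
      exact le_trans (Finset.card_insert_le _ _) (Nat.succ_le_succ (le_trans (Finset.card_insert_le _ _)
        (Nat.succ_le_succ (le_trans (Finset.card_insert_le _ _) (Nat.succ_le_succ (le_trans
          (Finset.card_insert_le _ _) (Nat.succ_le_succ (le_trans (Finset.card_insert_le _ _)
            (Nat.succ_le_succ (le_trans (Finset.card_insert_le _ _) (Nat.succ_le_succ (le_trans
              (Finset.card_insert_le _ _) (Nat.succ_le_succ (Finset.card_singleton _).le)))))))))))))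
  have hzle : Subgroup.zpowers r ≤ C := Subgroup.zpowers_le.2 hrC
  have h4 : Nat.card (Subgroup.zpowers r) = 4 := by rw [Nat.card_zpowers, hr4]
  have hcard : Nat.card C = 8 := by
    obtain ⟨k, hk⟩ := Subgroup.card_dvd_of_le hzle
    rw [h4] at hk
    have hgt : 4 < Nat.card C := by
      rcases lt_or_eq_of_le (Subgroup.card_le_of_le hzle) with h | h
      · omega
      · exact absurd ((Subgroup.eq_of_le_of_card_ge hzle h.ge).symm ▸ hsC) hnot
    omega
  have hP : IsPGroup 2 C := IsPGroup.of_card (n := 3) (by rw [hcard]; norm_num)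
  refine ⟨hot, hP, fun T => ?_⟩
  obtain ⟨T₀, hT₀⟩ := hP.exists_le_sylow
  have htC : t ∈ C := Subgroup.mem_centralizer_singleton_iff.2 rfl
  -- the centre of the Sylow subgroup contains `t`
  have hT : (T₀ : Subgroup S) ≤ C := by
    haveI : Nontrivial T₀ := ⟨⟨⟨t, hT₀ htC⟩, 1, fun h => ht (congrArg Subtype.val h)⟩⟩
    haveI := T₀.2.center_nontrivial
    obtain ⟨z, hz⟩ := exists_prime_orderOf_dvd_card' (G := Subgroup.center T₀) 2 (by
      obtain ⟨n, hn⟩ := IsPGroup.iff_card.1 (T₀.2.to_subgroup (Subgroup.center T₀))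
      rw [hn]
      refine dvd_pow_self 2 fun h0 => ?_
      rw [h0, pow_zero] at hn
      exact (Finite.one_lt_card_iff_nontrivial.2 inferInstance).ne' hn)
    have hzc : ∀ g ∈ (T₀ : Subgroup S), g * ((z : T₀) : S) = ((z : T₀) : S) * g := fun g hg =>
      congrArg Subtype.val (Subgroup.mem_center_iff.1 z.2 ⟨g, hg⟩)
    have hz1 : ((z : T₀) : S) ≠ 1 := fun h => by
      have : z = 1 := Subtype.ext (Subtype.ext h)
      rw [this, orderOf_one] at hz
      omega
    have hz2 : ((z : T₀) : S) * ((z : T₀) : S) = 1 := by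
      have := pow_orderOf_eq_one z
      rw [hz, pow_two] at this
      exact congrArg (fun x : Subgroup.center T₀ => ((x : T₀) : S)) this
    have hzr := hzc r (hT₀ hrC)
    have hzs := hzc s (hT₀ hsC)
    have hzt : t * ((z : T₀) : S) = ((z : T₀) : S) * t := hzc t (hT₀ htC)
    have hzC : ((z : T₀) : S) ∈ C := Subgroup.mem_centralizer_singleton_iff.2 hzt.symm
    have hct : ∀ x ∈ C, x * t = t * x := fun x hx => Subgroup.mem_centralizer_singleton_iff.1 hx
    have hz_t : ((z : T₀) : S) = t := by
      set z₀ := ((z : T₀) : S)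
      have hxx : ∀ x : S, x ∈ C → (x * t) * (x * t) = x * x := fun x hx => by
        rw [mul_assoc, ← mul_assoc t, ← hct x hx, mul_assoc x t t, ht2, mul_one]
      have notcomm : ∀ x : S, (x = s ∨ x = s * t) → r * x = x * r → False := by
        rintro x (rfl | rfl) h
        · exact hnc h.symm
        · refine hnc (mul_right_cancel (b := t) ?_).symm
          rw [mul_assoc r s t, h, mul_assoc, mul_assoc, ← hct r hrC]
      have notcomm' : ∀ x : S, (x = s * r ∨ x = s * r * t) → r * x = x * r → False := by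
        rintro x (rfl | rfl) h
        · exact notcomm s (Or.inl rfl) (mul_right_cancel (b := r) (by rw [mul_assoc r s r, h]))
        · refine notcomm s (Or.inl rfl) (mul_right_cancel (b := r * t) ?_)
          rw [mul_assoc r s, ← mul_assoc s r t, h]
          simp only [mul_assoc, ← hct r hrC]
      rcases hall z₀ hzC with h | h | h | h | h | h | h | h
      · exact absurd h hz1
      · exact h
      · exact absurd (by rw [← hr, ← h]; exact hz2) ht
      · exact absurd (by rw [← hr, ← hxx r hrC, ← h]; exact hz2) ht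
      · exact (notcomm _ (Or.inl h) hzr).elim
      · exact (notcomm _ (Or.inr h) hzr).elim
      · exact (notcomm' _ (Or.inl h) hzr).elim
      · exact (notcomm' _ (Or.inr h) hzr).elim
    intro g hg
    exact Subgroup.mem_centralizer_singleton_iff.2 (hz_t ▸ hzc g hg)
  have he : (T₀ : Subgroup S) = C := le_antisymm hT hT₀
  obtain ⟨e⟩ := CfsgLib.TwoGroups.nonempty_equiv_dihedral (H := C) (a := r) (b := s) (m := 4) hrC hsC
    hr4 hs hsr hnot (by rw [hcard])
  exact ⟨(T.equiv T₀).trans ((MulEquiv.subgroupCongr he).trans e)⟩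

variable {F : Type*} [Field F] [Fintype F] {P : Subgroup (GL (Fin 3) F)}

/-- The rich transvection and its centraliser in the quotient. -/
theorem Star.quotient [CharP F 2] (hc : Ctx P) (hu : Uniform P 2) {v w a b : Fin 3 → F}
    (h : Star P v w a b) :
    (∃ t : P ⧸ Z P, orderOf t = 2 ∧ IsPGroup 2 (Subgroup.centralizer {t})) ∧
      ∀ T : Sylow 2 (P ⧸ Z P), Nonempty (T ≃* DihedralGroup 4) := by
  classical
  have h2 : ∀ x : Fin 3 → F, x + x = 0 := fun x => by
    rw [← two_smul F, CharTwo.two_eq_zero, zero_smul]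
  set t : P := ⟨_, h.mem⟩ with htdef
  set s₁ : P := ⟨_, h.mem₁⟩ with hs₁def
  set s₂ : P := ⟨_, h.mem₂⟩ with hs₂def
  have sq : ∀ {x d : Fin 3 → F}, d ⬝ᵥ x = 0 → tv x d * tv x d = 1 := fun {x d} hd => by
    rw [tv_mul_left hd hd, h2, tv_zero_left]
  have htt : t * t = 1 := Subtype.ext (sq h.av)
  have hs₁ : s₁ * s₁ = 1 := Subtype.ext (sq h.bv)
  have hs₂ : s₂ * s₂ = 1 := Subtype.ext (sq h.aw)
  have hts₁ : t * s₁ = s₁ * t := Subtype.ext (by
    show tv v a * tv v b = tv v b * tv v a
    rw [tv_mul_right h.av h.bv, tv_mul_right h.bv h.av, add_comm])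
  have hts₂ : t * s₂ = s₂ * t := Subtype.ext (by
    show tv v a * tv w a = tv w a * tv v a
    rw [tv_mul_left h.av h.aw, tv_mul_left h.aw h.av, add_comm])
  have hrr : (s₁ * s₂) * (s₁ * s₂) = t := Subtype.ext (by
    show tv v b * tv w a * (tv v b * tv w a) = tv v a
    have hconj : tv v b * tv w a * (tv v b)⁻¹ = tv (v + w) a := by
      rw [conj_tv, tv_inv, tv_mulVec h.bv, vecMul_tv (by simp [h.bv]), h.bw, one_smul,
        dotProduct_neg, h.av, neg_zero, zero_smul, add_zero, add_comm]
    have hinv : (tv v b)⁻¹ = tv v b := inv_eq_of_mul_eq_one_right (sq h.bv)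
    rw [hinv] at hconj
    rw [← mul_assoc, hconj, tv_mul_left (by simp [dotProduct_add, h.av, h.aw]) h.aw, add_assoc, h2,
      add_zero])
  have ht1 : proj P t ≠ 1 := fun e => by
    obtain ⟨c, hcm⟩ := mem_Z_iff.1 (proj_eq_one_iff.1 e)
    obtain ⟨x₀, hx₀⟩ := exists_dot_eq_one h.a_ne
    rw [dotProduct_comm] at hx₀
    have e1 := congrArg (fun X : Matrix (Fin 3) (Fin 3) F => a ⬝ᵥ (X *ᵥ x₀)) hcm
    simp [htdef, mat, tv_mulVec h.av, smul_mulVec, dotProduct_add, dotProduct_smul, h.av, hx₀] at e1
    refine tv_ne_one h.av h.v_ne h.a_ne (Units.ext ?_)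
    rw [Units.val_one]
    exact hcm.trans (by rw [← e1, one_smul])
  have memC : ∀ g : P, g * t = t * g → proj P g ∈ Subgroup.centralizer {proj P t} := fun g hg =>
    Subgroup.mem_centralizer_singleton_iff.2 (by rw [← map_mul, ← map_mul, hg])
  have hinv₁ : s₁⁻¹ = s₁ := inv_eq_of_mul_eq_one_right hs₁
  have hinv₂ : s₂⁻¹ = s₂ := inv_eq_of_mul_eq_one_right hs₂
  obtain ⟨hot, hP, hT⟩ := dihedral_of_centralizer (S := P ⧸ Z P) (t := proj P t)
    (r := proj P (s₁ * s₂)) (s := proj P s₁) ht1
    (by rw [← map_mul, hrr]) (by rw [← map_mul, hs₁, map_one]) (by rw [← map_mul, htt, map_one])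
    (by
      rw [← map_inv, ← map_mul, ← map_mul, ← map_inv]
      congr 1
      rw [_root_.mul_inv_rev, hinv₁, hinv₂, ← mul_assoc s₁ s₁, hs₁, one_mul])
    (memC _ (by rw [mul_assoc, ← hts₂, ← mul_assoc, ← hts₁, mul_assoc]))
    (memC _ hts₁.symm)
    (by
      intro g hg
      obtain ⟨g, rfl⟩ := QuotientGroup.mk'_surjective (Z P) g
      have hgt : g * t = t * g :=
        hc.core.commute_of_proj htt (Subgroup.mem_centralizer_singleton_iff.1 hg)
      obtain ⟨e, d, c, hk⟩ := h.centraliser hu (fun x hx => hc.core.det_eq_one hx) g.2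
        (congrArg Subtype.val hgt)
      set k : P := (if e then s₁ else 1) * (if d then s₂ else 1) with hkdef
      have hkg : proj P (k * g) = 1 ∨ proj P (k * g) = proj P t := by
        have hcoe : ((k * g : P) : GL (Fin 3) F) =
            (if e then tv v b else 1) * (if d then tv w a else 1) * (g : GL (Fin 3) F) := by
          cases e <;> cases d <;> rfl
        rcases hk with hk | hk
        · exact Or.inl (proj_eq_one_iff.2 (mem_Z_iff.2 ⟨c, by rw [hcoe]; exact hk⟩))
        · refine Or.inr (mul_inv_eq_one.1 ?_)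
          rw [← map_inv, ← map_mul, proj_eq_one_iff, mem_Z_iff]
          refine ⟨c, ?_⟩
          rw [Subgroup.coe_mul, hcoe]
          show (((_ : GL (Fin 3) F) * _ : GL (Fin 3) F) : Matrix (Fin 3) (Fin 3) F) = _
          rw [Units.val_mul, show ((_ : GL (Fin 3) F) : Matrix (Fin 3) (Fin 3) F) = _ from hk,
            smul_mul_assoc]
          congr 1
          show ((tv v a : GL (Fin 3) F) : Matrix (Fin 3) (Fin 3) F) *
            (((tv v a)⁻¹ : GL (Fin 3) F) : Matrix (Fin 3) (Fin 3) F) = 1
          exact Units.mul_inv _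
      have hgk : g = k⁻¹ * (k * g) := (inv_mul_cancel_left k g).symm
      have hproj : proj P g = proj P k⁻¹ ∨ proj P g = proj P k⁻¹ * proj P t := by
        rcases hkg with e' | e'
        · left; rw [hgk, map_mul, e', mul_one]
        · right; rw [hgk, map_mul, e']
      have hkinv : k⁻¹ = (if d then s₂ else 1) * (if e then s₁ else 1) := by
        cases e <;> cases d <;> simp [hkdef, hinv₁, hinv₂]
      have hs21 : proj P (s₂ * s₁) = proj P (s₁ * s₂) * proj P t := by
        rw [← map_mul, ← hrr, ← mul_assoc, ← pow_three']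
        congr 1
        have h4 : (s₁ * s₂) * (s₁ * s₂) * ((s₁ * s₂) * (s₁ * s₂)) = 1 := by rw [hrr, htt]
        rw [show s₂ * s₁ = (s₁ * s₂)⁻¹ by rw [_root_.mul_inv_rev, hinv₁, hinv₂]]
        exact inv_eq_of_mul_eq_one_right (by rw [pow_three', ← h4]; group)
      have hs2 : proj P s₂ = proj P s₁ * proj P (s₁ * s₂) := by
        rw [← map_mul, ← mul_assoc, hs₁, one_mul]
      rcases hproj with e' | e' <;> rw [e', hkinv] <;> cases e <;> cases d <;>
        simp only [if_true, if_false, Bool.false_eq_true, one_mul, mul_one, map_one, hs21, hs2,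
          true_or, or_true]
      all_goals
        have : proj P t * proj P t = 1 := by rw [← map_mul, htt, map_one]
        simp only [mul_assoc, this, mul_one, true_or, or_true])
  exact ⟨⟨_, hot, hP⟩, hT⟩

/-- **Incident flags.** -/
theorem double_cases {p : ℕ} [Fact p.Prime] [CharP F p] (hc : Ctx P) (hd : Double P) :
    p = 2 ∧ (∀ T : Sylow 2 (P ⧸ Z P), Nonempty (T ≃* DihedralGroup 4)) ∧
      ∃ t : P ⧸ Z P, orderOf t = 2 ∧ IsPGroup 2 (Subgroup.centralizer {t}) := by
  classical
  obtain ⟨q, hu, hq⟩ := exists_uniform p hc.core.irreducible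
  rcases hq with rfl | hq
  · have hp : p = 2 := by
      obtain ⟨v, a, -, -, hv, -⟩ := id hd
      obtain ⟨k, hk, hk0⟩ := hv.scal_ne_bot
      have h1 : addOrderOf (⟨k, hk⟩ : scal P v a hv.dot) ∣ 2 := by
        rw [← hu.card _ _ hv]
        exact addOrderOf_dvd_natCard _
      have h2 : addOrderOf (⟨k, hk⟩ : scal P v a hv.dot) = p := by
        rw [← AddSubgroup.addOrderOf_coe]
        exact addOrderOf_eq_prime (by rw [nsmul_eq_mul, CharP.cast_eq_zero, zero_mul]) hk0
      rw [h2] at h1
      exact (Nat.prime_dvd_prime_iff_eq Fact.out Nat.prime_two).1 h1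
    subst hp
    obtain ⟨v, w, a, b, hs⟩ := exists_star hu (rich_of_double hc.core.irreducible hd)
    obtain ⟨h1, h2⟩ := hs.quotient hc hu
    exact ⟨rfl, h2, h1⟩
  · exact (false_of_many p hc hd hu hq).elim

end CfsgLib.PGLThree
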