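import Cfsg.Agent.PGLThree.Ctx
import Cfsg.Agent.SLThree.Subfield

/-!
# Involutions in characteristic two are transvections
-/

set_option autoImplicit false
set_option linter.unusedSectionVars false

namespace CfsgLib.PGLThree

open Matrix Cfsg.Geo CfsgLib.MaxSub CfsgLib.SLThree

variable {K : Type*} [Field K]

/-- An involution of `GL₃` in characteristic two is a transvection. -/
theorem exists_tv_of_sq (h2 : (2 : K) = 0) {y : GL (Fin 3) K} (hy : y * y = 1) (hy1 : y ≠ 1) :
    ∃ u w : Fin 3 → K, w ⬝ᵥ u = 0 ∧ u ≠ 0 ∧ w ≠ 0 ∧ tv u w = y := by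
  set N := (y : Matrix (Fin 3) (Fin 3) K) - 1 with hN
  have hneg : ∀ a : K, -a = a := fun a => by linear_combination (-a) * h2
  have hsq : N * N = 0 := by
    rw [hN, sub_mul, mul_sub, one_mul, mul_one, ← Units.val_mul, hy, Units.val_one]
    ext i j
    simp only [Matrix.sub_apply, Matrix.zero_apply]
    linear_combination ((1 : Matrix (Fin 3) (Fin 3) K) i j - (y : Matrix (Fin 3) (Fin 3) K) i j) * h2
  set φ := toLin' N
  have hle : LinearMap.range φ ≤ LinearMap.ker φ := by
    rintro _ ⟨x, rfl⟩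
    simp [φ, mulVec_mulVec, hsq]
  have hr1 : Module.finrank K (LinearMap.range φ) ≤ 1 := by
    have h1 := Submodule.finrank_mono hle
    have h3 := φ.finrank_range_add_finrank_ker
    rw [Module.finrank_fin_fun] at h3
    omega
  obtain ⟨x, hx⟩ : ∃ x, N *ᵥ x ≠ 0 := by
    by_contra h
    push Not at h
    refine hy1 (gl_ext fun z => ?_)
    have := h z
    rw [hN, sub_mulVec, one_mulVec, sub_eq_zero] at this
    rw [this, Units.val_one, one_mulVec]
  set u := N *ᵥ x with hu
  have hu0 : u ≠ 0 := hx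
  have hspan : ∀ z, ∃ c : K, c • u = N *ᵥ z := by
    intro z
    have h1 : Module.finrank K (LinearMap.range φ) = 1 := by
      refine le_antisymm hr1 ?_
      rw [Submodule.one_le_finrank_iff]
      exact fun h => hu0 ((Submodule.eq_bot_iff _).1 h _ ⟨x, by simp [φ, hu]⟩)
    have := (finrank_eq_one_iff_of_nonzero' (⟨u, x, by simp [φ, hu]⟩ : LinearMap.range φ)
      (fun h => hu0 (congrArg Subtype.val h))).1 h1 ⟨N *ᵥ z, z, by simp [φ]⟩
    obtain ⟨c, hc⟩ := this
    exact ⟨c, congrArg Subtype.val hc⟩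
  choose c hc using hspan
  let w : Fin 3 → K := fun j => c (Pi.single j 1)
  have hNw : N = vecMulVec u w := by
    ext i j
    have h := congrFun (hc (Pi.single j 1)) i
    simp only [Pi.smul_apply, smul_eq_mul, mulVec_single_one, col_apply] at h
    rw [← h, vecMulVec_apply, mul_comm]
  have hwu : w ⬝ᵥ u = 0 := by
    have h : N *ᵥ (N *ᵥ x) = 0 := by rw [mulVec_mulVec, hsq, zero_mulVec]
    rw [← hu, hNw, vecMulVec_mulVec'] at h
    exact (smul_eq_zero.1 h).resolve_right hu0
  have hw0 : w ≠ 0 := fun h => hx (by rw [hu, hNw, h, vecMulVec_zero, zero_mulVec])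
  have hyt : y = tv u w := Units.ext (by rw [tv_coe hwu, ← hNw, hN]; abel)
  exact ⟨u, w, hwu, hu0, hw0, hyt.symm⟩

/-- An involution of the group gives a flag. -/
theorem exists_flag_of_sq (h2 : (2 : K) = 0) {P : Subgroup (GL (Fin 3) K)} {y : GL (Fin 3) K}
    (hP : y ∈ P) (hy : y * y = 1) (hy1 : y ≠ 1) :
    ∃ v a, ∃ h : SLThree.Flag P v a, tv v a = y ∧ (1 : K) ∈ scal P v a h.dot := by
  obtain ⟨u, w, h, hu, hw, he⟩ := exists_tv_of_sq h2 hy hy1
  exact ⟨u, w, flag_of_tv h hu hw (he ▸ hP), he, by rw [mem_scal, one_smul, he]; exact hP⟩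

end CfsgLib.PGLThree
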