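import Cfsg.Agent.PGLThree.Traces
import Cfsg.Agent.PGLThree.Involution

/-!
# The fields of `L₂(7)`, `A₆` and `A₇` in dimension three

From the classes of the three groups the action of the Frobenius automorphism on the traces, and
so the order of the field and whether a unitary form is fixed.
-/

set_option autoImplicit false
set_option linter.unusedSectionVars false

namespace CfsgLib.PGLThree

open Matrix Cfsg.Geo CfsgLib.MaxSub CfsgLib.SLThree
open CfsgLib.Aschbacher (mat)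

variable {F : Type*} [Field F] [Fintype F] {P : Subgroup (GL (Fin 3) F)}

theorem card_le_of_pow {Q : ℕ} (hQ : 1 < Q) (h : ∀ x : F, x ^ Q = x) : Fintype.card F ≤ Q := by
  classical
  have hf0 := FiniteField.X_pow_card_sub_X_ne_zero F hQ
  have hroot : ∀ x : F, x ∈ (Polynomial.X ^ Q - Polynomial.X : Polynomial F).roots.toFinset :=
    fun x => by rw [Multiset.mem_toFinset, Polynomial.mem_roots hf0]; simp [h x]
  have h1 := Finset.card_le_card (fun x (_ : x ∈ Finset.univ) => hroot x)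
  rw [Finset.card_univ] at h1
  refine h1.trans (le_trans (Multiset.toFinset_card_le _) (le_trans (Polynomial.card_roots' _) ?_))
  rw [FiniteField.X_pow_card_sub_X_natDegree_eq F hQ]

theorem card_cases (p : ℕ) [hp : Fact p.Prime] [CharP F p] (h : Fintype.card F ≤ p ^ 2) :
    Fintype.card F = p ∨ Fintype.card F = p ^ 2 := by
  obtain ⟨n, -, hn⟩ := FiniteField.card F p
  rw [hn] at h ⊢
  have h1 : (n : ℕ) ≤ 2 := (Nat.pow_le_pow_iff_right hp.out.one_lt).1 h
  rcases show (n : ℕ) = 1 ∨ (n : ℕ) = 2 by have := n.pos; omega with e | e <;> rw [e]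
  · exact Or.inl (pow_one p)
  · exact Or.inr rfl

theorem center_sl_three_two {x : Matrix.SpecialLinearGroup (Fin 3) (ZMod 2)}
    (hx : x ∈ Subgroup.center (Matrix.SpecialLinearGroup (Fin 3) (ZMod 2))) : x = 1 := by
  have key : ∀ r : ZMod 2, r ^ 3 = 1 → r = 1 := by decide
  obtain ⟨r, hr, hxr⟩ := Matrix.SpecialLinearGroup.mem_center_iff.1 hx
  rw [Fintype.card_fin] at hr
  apply Subtype.ext
  rw [← hxr, key r hr]
  simp

theorem exists_sl_three_two_involution :
    ∃ A : Matrix.SpecialLinearGroup (Fin 3) (ZMod 2), A * A = 1 ∧ A ≠ 1 :=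
  ⟨⟨!![1, 1, 0; 0, 1, 0; 0, 0, 1], by decide⟩, Subtype.ext (by decide), fun h =>
    absurd (congrArg Subtype.val h) (by decide)⟩

variable (p : ℕ) [hp : Fact p.Prime] [CharP F p]

include hp in
theorem card_of_frob (hc : Ctx P) (h : ∀ g : P, trc g ^ p = trc g) : Fintype.card F = p := by
  haveI : ExpChar F p := ExpChar.prime hp.out
  have h1 := hc.eq_refl_of_trace (τ := frobeniusEquiv F p) fun g hg => by
    show (mat g).trace ^ p = _
    exact h ⟨g, hg⟩
  have hle := card_le_of_pow hp.out.one_lt fun x => (RingEquiv.congr_fun h1 x : frobeniusEquiv F p x = x)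
  obtain ⟨n, -, hn⟩ := FiniteField.card F p
  refine le_antisymm hle (hn ▸ ?_)
  exact Nat.le_self_pow n.ne_zero p

include hp in
theorem card_of_frob_sq (hc : Ctx P) (h : ∀ g : P, trc g ^ p ^ 2 = trc g) :
    Fintype.card F = p ∨ Fintype.card F = p ^ 2 := by
  haveI : ExpChar F p := ExpChar.prime hp.out
  have h1 := hc.eq_refl_of_trace (τ := iterateFrobeniusEquiv F p 2) fun g hg => by
    rw [iterateFrobeniusEquiv_def]
    exact h ⟨g, hg⟩
  refine card_cases p (card_le_of_pow (Nat.one_lt_pow two_ne_zero hp.out.one_lt) fun x => ?_)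
  have := RingEquiv.congr_fun h1 x
  rwa [iterateFrobeniusEquiv_def] at this

include hp in
/-- If the Frobenius automorphism inverts, the field has `p²` elements and a unitary form is fixed. -/
theorem unitary_of_frob_inv (hc : Ctx P) (h : ∀ g : P, trc g ^ p = trc g⁻¹) :
    Fintype.card F = p ^ 2 ∧ ∃ σ f, IsUnitaryForm σ f ∧ FixesForm (matrixSet P) f := by
  haveI : ExpChar F p := ExpChar.prime hp.out
  obtain ⟨g, hg, hne⟩ := hc.exists_not_real
  have hσ : ∀ g ∈ P, frobeniusEquiv F p (mat g).trace = (mat g⁻¹).trace := fun g hg => h ⟨g, hg⟩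
  have hσne : frobeniusEquiv F p ≠ RingEquiv.refl F := fun e => hne (by
    rw [← hσ g hg, e]; rfl)
  constructor
  · refine (card_of_frob_sq p hc fun g => ?_).resolve_left fun hF => hσne (RingEquiv.ext fun x => ?_)
    · rw [pow_two p, pow_mul, h, h, inv_inv]
    · show x ^ p = x
      rw [← hF]; exact FiniteField.pow_card x
  · rcases exists_form_of_traces hc.core.absIrred _ (hc.involutive hσ) hσ with ⟨f, hf, hfix⟩ | ⟨-, hQ⟩
    · exact ⟨_, f, hf, hfix⟩
    · exact absurd hQ hc.noQuad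

include hp in
/-- The traces of all elements from those of the good lifts. -/
theorem trc_frob_all (hc : Ctx P) {g : P} {c : F} {g₀ : P} {m : ℕ} (hc3 : c ^ 3 = 1) (hm : p % 3 = m)
    (h1 : trc g = c * trc g₀) (hg₀ : trc g₀ ^ p = trc g₀) : trc g ^ p = c ^ m * trc g₀ := by
  rw [h1, mul_pow, hg₀, ← hm]
  conv_lhs => rw [← Nat.mod_add_div p 3, pow_add, pow_mul, hc3, one_pow, mul_one]

include hp in
/-- **`L₂(7)`.** -/
theorem endgame_seven (hc : Ctx P) (hZ : Z P = ⊥)
    (e : (P ⧸ Z P) ≃* Matrix.ProjectiveSpecialLinearGroup (Fin 3) (ZMod 2)) :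
    p ≠ 7 ∧ (((p % 7 = 1 ∨ p % 7 = 2 ∨ p % 7 = 4) ∧ p ≠ 2 ∧ Fintype.card F = p) ∨
      ((p % 7 = 3 ∨ p % 7 = 5 ∨ p % 7 = 6) ∧ Fintype.card F = p ^ 2 ∧
        ∃ σ f, IsUnitaryForm σ f ∧ FixesForm (matrixSet P) f)) := by
  have hinj : Function.Injective (proj P) := fun a b hab => by
    have : b⁻¹ * a ∈ Z P := proj_eq_one_iff.1 (by rw [map_mul, map_inv, hab, inv_mul_cancel])
    rw [hZ, Subgroup.mem_bot, inv_mul_eq_one] at this
    exact this.symm
  have hcl : ∀ g : P, ((g ^ 4 = 1 ∨ g ^ 3 = 1) ∧ IsConj g g⁻¹) ∨ (g ^ 7 = 1 ∧ IsConj g (g ^ 2)) := by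
    intro g
    have hb : Function.Bijective
        (QuotientGroup.mk' (Subgroup.center (Matrix.SpecialLinearGroup (Fin 3) (ZMod 2)))) := by
      refine ⟨?_, QuotientGroup.mk'_surjective _⟩
      rw [← MonoidHom.ker_eq_bot_iff, QuotientGroup.ker_mk', Subgroup.eq_bot_iff_forall]
      exact fun x hx => center_sl_three_two hx
    let e' : (P ⧸ Z P) ≃* Matrix.SpecialLinearGroup (Fin 3) (ZMod 2) :=
      e.trans (MulEquiv.ofBijective _ hb).symm
    obtain ⟨ψ, hψ⟩ : ∃ ψ : P →* Matrix.SpecialLinearGroup (Fin 3) (ZMod 2),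
        Function.Bijective ψ := ⟨e'.toMonoidHom.comp (proj P),
      e'.bijective.comp ⟨hinj, QuotientGroup.mk'_surjective _⟩⟩
    let E := MulEquiv.ofBijective ψ hψ
    have hback : ∀ x y, IsConj (E x) (E y) → IsConj x y := fun x y h => by
      simpa using E.symm.toMonoidHom.map_isConj h
    rcases sl_three_two_classes (E g) with ⟨h, hr⟩ | ⟨h, hr⟩
    · exact Or.inl ⟨h.imp (fun h => E.injective (by rw [map_pow, h, map_one]))
        (fun h => E.injective (by rw [map_pow, h, map_one])), hback _ _ (by rwa [map_inv])⟩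
    · exact Or.inr ⟨E.injective (by rw [map_pow, h, map_one]), hback _ _ (by rwa [map_pow])⟩
  have hp4 : p % 4 = 1 ∨ p % 4 + 1 = 4 ∨ p = 2 := by
    rcases hp.out.eq_two_or_odd with h | h
    · exact Or.inr (Or.inr h)
    · omega
  have hp3 : p % 3 = 1 ∨ p % 3 + 1 = 3 ∨ p = 3 := by
    rcases eq_or_ne (p % 3) 0 with h | h
    · exact Or.inr (Or.inr ((Nat.prime_dvd_prime_iff_eq Nat.prime_three hp.out).1 (Nat.dvd_of_mod_eq_zero h)).symm)
    · omega
  have hreal : ∀ g : P, IsConj g g⁻¹ → (g ^ 4 = 1 ∨ g ^ 3 = 1) → trc g ^ p = trc g := by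
    rintro g hr (h | h)
    · refine trc_frob_real p hr h (hp4.imp id fun h' => h'.imp id fun h' => ⟨2, ?_⟩)
      rw [h']; norm_num
    · refine trc_frob_real p hr h (hp3.imp id fun h' => h'.imp id fun h' => ⟨1, ?_⟩)
      rw [h', pow_one]
  have hp7 : p ≠ 7 := by
    rintro rfl
    obtain ⟨g, hg, hne⟩ := hc.exists_not_real
    rcases hcl ⟨g, hg⟩ with ⟨-, hr⟩ | ⟨h7, -⟩
    · exact hne (trc_conj hr)
    · have h1 := trc_of_pow_prime 7 (k := 1) (g := (⟨g, hg⟩ : P)) (by rw [pow_one]; exact h7)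
      have h2 := trc_of_pow_prime 7 (k := 1) (g := (⟨g, hg⟩ : P)⁻¹) (by rw [pow_one, inv_pow, h7, inv_one])
      exact hne (h1.trans h2.symm)
  refine ⟨hp7, ?_⟩
  have hp0 : p % 7 ≠ 0 := fun h => hp7
    ((Nat.prime_dvd_prime_iff_eq (by norm_num) hp.out).1 (Nat.dvd_of_mod_eq_zero h)).symm
  by_cases hA : p % 7 = 1 ∨ p % 7 = 2 ∨ p % 7 = 4
  · have hF : Fintype.card F = p := card_of_frob p hc fun g => by
      rcases hcl g with ⟨h, hr⟩ | ⟨h7, hr⟩
      · exact hreal g hr h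
      · exact (trc_frob_seven p h7 hr).1 hA
    refine Or.inl ⟨hA, fun h2 => ?_, hF⟩
    subst h2
    obtain ⟨s, hs⟩ : ∃ s : P ⧸ Z P, orderOf s = 2 := by
      haveI := Fintype.ofFinite (P ⧸ Z P)
      obtain ⟨A, hA⟩ := exists_sl_three_two_involution
      refine ⟨e.symm (QuotientGroup.mk' _ A), orderOf_eq_prime ?_ fun h => hA.2 ?_⟩
      · rw [← map_pow, ← map_pow, pow_two, hA.1, map_one, map_one]
      · exact center_sl_three_two
          ((QuotientGroup.eq_one_iff A).1 (e.symm.injective (h.trans (map_one _).symm)))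
    obtain ⟨u, hu, -⟩ := hc.core.exists_involution_lift hs
    have hu1 : (u : GL (Fin 3) F) ≠ 1 := fun h => by
      rw [show u = 1 from Subtype.ext h, orderOf_one] at hu
      omega
    obtain ⟨v, a, hfl, -⟩ := exists_flag_of_sq (by exact_mod_cast CharP.cast_eq_zero F 2) u.2
      (by rw [← Subgroup.coe_mul, ← pow_two, ← hu, pow_orderOf_eq_one]; rfl) hu1
    exact hc.noRoot v a hfl.centre_ne hfl.axis_ne (hfl.rootIn_of_prime hF)
  · have hB : p % 7 = 3 ∨ p % 7 = 5 ∨ p % 7 = 6 := by omega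
    obtain ⟨hF, hf⟩ := unitary_of_frob_inv p hc fun g => by
      rcases hcl g with ⟨h, hr⟩ | ⟨h7, hr⟩
      · rw [hreal g hr h, trc_inv_of_real hr]
      · exact (trc_frob_seven p h7 hr).2 hB
    exact Or.inr ⟨hB, hF, hf⟩

theorem trc_sq (hc : Core P) (g : P) : trc (g ^ 2) = trc g ^ 2 - 2 * trc g⁻¹ ∧
    mat (g : GL (Fin 3) F) ^ 3 - trc g • mat (g : GL (Fin 3) F) ^ 2 +
      trc g⁻¹ • mat (g : GL (Fin 3) F) - 1 = 0 := by
  have hd := hc.det_eq_one g.2
  set M := mat (g : GL (Fin 3) F) with hM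
  have hinv : trc g⁻¹ = M.adjugate.trace := by
    have e : mat ((g⁻¹ : P) : GL (Fin 3) F) = M.adjugate := by
      have h1 : mat ((g⁻¹ : P) : GL (Fin 3) F) * M = 1 := by
        show (((g⁻¹ : P) : GL (Fin 3) F) : Matrix (Fin 3) (Fin 3) F) * _ = 1
        rw [InvMemClass.coe_inv]; exact Units.inv_mul _
      calc mat ((g⁻¹ : P) : GL (Fin 3) F) = mat ((g⁻¹ : P) : GL (Fin 3) F) * (M * M.adjugate) := by
            rw [Matrix.mul_adjugate, hd, one_smul, mul_one]
        _ = M.adjugate := by rw [← mul_assoc, h1, one_mul]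
    rw [trc_def, e]
  have h2 : trc (g ^ 2) = (M * M).trace := by
    rw [trc_def, ← pow_two]
    show (((g ^ 2 : P) : GL (Fin 3) F) : Matrix (Fin 3) (Fin 3) F).trace = _
    rw [SubmonoidClass.coe_pow, Units.val_pow_eq_pow_val]
  rw [Matrix.det_fin_three] at hd
  refine ⟨?_, ?_⟩
  · rw [h2, hinv, trc_def, ← hM]
    simp [Matrix.trace_fin_three, Matrix.mul_apply, Fin.sum_univ_three, Matrix.adjugate_fin_three]
    ring
  · rw [hinv, trc_def, ← hM]
    ext i j
    fin_cases i <;> fin_cases j <;>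
      simp [pow_succ, Matrix.mul_apply, Fin.sum_univ_three, Matrix.trace_fin_three,
        Matrix.adjugate_fin_three] <;>
      first | linear_combination hd | ring

include hp in
/-- **`A₆`.** -/
theorem endgame_six (hc : Ctx P) (hZ : Z P ≠ ⊥) (hp3 : p ≠ 3)
    (e : (P ⧸ Z P) ≃* alternatingGroup (Fin 6)) :
    ((p % 15 = 1 ∨ p % 15 = 4) ∧ Fintype.card F = p) ∨
      ((p % 15 = 11 ∨ p % 15 = 14 ∨ p = 5) ∧ Fintype.card F = p ^ 2 ∧
        ∃ σ f, IsUnitaryForm σ f ∧ FixesForm (matrixSet P) f) ∨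
      ((p % 5 = 2 ∨ p % 5 = 3) ∧ Fintype.card F = p ^ 2 ∧
        ¬ ∀ g ∈ P, (mat g).trace ^ p = (mat g⁻¹).trace) := by
  have hback : ∀ x y, IsConj (e x) (e y) → IsConj x y := fun x y h => by
    simpa using e.symm.toMonoidHom.map_isConj h
  have hcl : ∀ s : P ⧸ Z P, ((∃ n, (n = 4 ∨ n = 3 ∨ n = 5) ∧ s ^ n = 1) ∧ IsConj s s⁻¹) ∨
      (s ^ 7 = 1 ∧ IsConj s (s ^ 2)) := fun s => by
    obtain ⟨h, hr⟩ := alt_six_classes (e s)
    refine Or.inl ⟨?_, hback _ _ (by rwa [map_inv])⟩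
    rcases h with h | h | h
    · exact ⟨4, Or.inl rfl, e.injective (by rw [map_pow, h, map_one])⟩
    · exact ⟨3, Or.inr (Or.inl rfl), e.injective (by rw [map_pow, h, map_one])⟩
    · exact ⟨5, Or.inr (Or.inr rfl), e.injective (by rw [map_pow, h, map_one])⟩
  have hreal : ∀ g : P, ∃ (c : F) (g₀ : P), c ^ 3 = 1 ∧ trc g = c * trc g₀ ∧
      trc g⁻¹ = c ^ 2 * trc g₀ ∧ IsConj g₀ g₀⁻¹ ∧ (g₀ ^ 4 = 1 ∨ g₀ ^ 3 = 1 ∨ g₀ ^ 5 = 1) := by
    intro g
    obtain ⟨c, g₀, h3, h1, h2, ⟨⟨n, hn, hpow⟩, hr⟩ | ⟨h7, -⟩⟩ := hc.core.exists_decomp hcl g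
    · refine ⟨c, g₀, h3, h1, by rw [h2, trc_inv_of_real hr], hr, ?_⟩
      rcases hn with rfl | rfl | rfl
      exacts [Or.inl hpow, Or.inr (Or.inl hpow), Or.inr (Or.inr hpow)]
    · have hx : g₀ = 1 := by
        obtain ⟨h, -⟩ := alt_six_classes (e (proj P g₀))
        have h7' : e (proj P g₀) ^ 7 = 1 := by rw [← map_pow, ← map_pow, h7, map_one, map_one]
        have h1' : proj P g₀ = 1 := e.injective (by
          rw [map_one]
          rcases h with h | h | h
          all_goals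
            refine orderOf_eq_one_iff.1 (Nat.dvd_one.1 ?_)
            have := Nat.dvd_gcd (orderOf_dvd_of_pow_eq_one h) (orderOf_dvd_of_pow_eq_one h7')
            simpa using this)
        have h3' := hc.core.pow_three (proj_eq_one_iff.1 h1')
        rw [show (7 : ℕ) = 3 * 2 + 1 from rfl, pow_add, pow_mul, h3', one_pow, one_mul, pow_one] at h7
        exact h7
      subst hx
      exact ⟨c, 1, h3, h1, by rw [h2, inv_one], by rw [inv_one], Or.inl (one_pow _)⟩
  obtain ⟨z, hz, hz1⟩ := (Subgroup.bot_or_exists_ne_one (Z P)).resolve_left hZ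
  obtain ⟨c₀, hc₀⟩ := mem_Z_iff.1 hz
  have hc3 : c₀ ^ 3 = 1 := hc.core.scalar_pow z.2 hc₀
  have hc1 : c₀ ≠ 1 := fun h => hz1 (Subtype.ext (Units.ext (by
    rw [show ((z : GL (Fin 3) F) : Matrix (Fin 3) (Fin 3) F) = c₀ • 1 from hc₀, h, one_smul]; rfl)))
  have h3F : (3 : F) ≠ 0 := fun h => hp3 ((Nat.prime_dvd_prime_iff_eq hp.out Nat.prime_three).1
    ((CharP.cast_eq_zero_iff F p 3).1 (by exact_mod_cast h)))
  have hp3' : p % 3 = 1 ∨ p % 3 = 2 := by
    rcases eq_or_ne (p % 3) 0 with h | h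
    · exact absurd ((Nat.prime_dvd_prime_iff_eq Nat.prime_three hp.out).1 (Nat.dvd_of_mod_eq_zero h)).symm hp3
    · omega
  have hp4 : p % 4 = 1 ∨ p % 4 + 1 = 4 ∨ p = 2 := by
    rcases hp.out.eq_two_or_odd with h | h
    · exact Or.inr (Or.inr h)
    · omega
  have hfix : ∀ g₀ : P, IsConj g₀ g₀⁻¹ → (g₀ ^ 4 = 1 ∨ g₀ ^ 3 = 1 ∨ g₀ ^ 5 = 1) →
      ((g₀ ^ 5 = 1 → p % 5 = 1 ∨ p % 5 + 1 = 5 ∨ p = 5) → trc g₀ ^ p = trc g₀) ∧
        trc g₀ ^ p ^ 2 = trc g₀ := by
    rintro g₀ hr (h | h | h)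
    · have := trc_frob_real p hr h (hp4.imp id fun h' => h'.imp id fun h' => ⟨2, by rw [h']; norm_num⟩)
      exact ⟨fun _ => this, by rw [pow_two, pow_mul, this, this]⟩
    · have := trc_frob_real p hr h (hp3'.imp id fun h' => Or.inl (by omega))
      exact ⟨fun _ => this, by rw [pow_two, pow_mul, this, this]⟩
    · refine ⟨fun h5 => trc_frob_real p hr h ((h5 h).imp id fun h' => h'.imp id fun h' =>
        ⟨1, by rw [h', pow_one]⟩), ?_⟩
      rw [← trc_pow_pow p g₀ 2, pow_frob h, pow_two]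
      rw [Nat.mul_mod]
      have h5 := Nat.mod_lt p (show 5 > 0 by norm_num)
      rcases show p % 5 = 0 ∨ p % 5 = 1 ∨ p % 5 = 2 ∨ p % 5 = 3 ∨ p % 5 = 4 by omega with e' | e' | e' | e' | e'
        <;> rw [e']
      · rw [pow_zero, trc_one, trc_of_pow_prime p (k := 1) (g := g₀)
          (by rw [pow_one, pow_frob h, e', pow_zero])]
      · rw [pow_one]
      · rw [show (2 * 2 % 5) = 4 from rfl, show g₀ ^ 4 = g₀⁻¹ from
          eq_inv_of_mul_eq_one_left (by rw [← pow_succ]; exact h), trc_inv_of_real hr]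
      · rw [show (3 * 3 % 5) = 4 from rfl, show g₀ ^ 4 = g₀⁻¹ from
          eq_inv_of_mul_eq_one_left (by rw [← pow_succ]; exact h), trc_inv_of_real hr]
      · rw [show (4 * 4 % 5) = 1 from rfl, pow_one]
  by_cases h5 : p % 5 = 1 ∨ p % 5 + 1 = 5 ∨ p = 5
  · have hall : ∀ g : P, ∃ c : F, ∃ t : F, c ^ 3 = 1 ∧ trc g = c * t ∧ trc g⁻¹ = c ^ 2 * t ∧ t ^ p = t := by
      intro g
      obtain ⟨c, g₀, h3, h1, h2, hr, hpow⟩ := hreal g
      exact ⟨c, trc g₀, h3, h1, h2, (hfix g₀ hr hpow).1 fun _ => h5⟩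
    have hcp : ∀ c : F, c ^ 3 = 1 → c ^ p = c ^ (p % 3) := fun c h => by
      conv_lhs => rw [← Nat.mod_add_div p 3, pow_add, pow_mul, h, one_pow, mul_one]
    rcases hp3' with h3 | h3
    · refine Or.inl ⟨?_, card_of_frob p hc fun g => ?_⟩
      · omega
      · obtain ⟨c, t, hc', h1, -, ht⟩ := hall g
        rw [h1, mul_pow, ht, hcp c hc', h3, pow_one]
    · obtain ⟨hF, hf⟩ := unitary_of_frob_inv p hc fun g => by
        obtain ⟨c, t, hc', h1, h2, ht⟩ := hall g
        rw [h1, h2, mul_pow, ht, hcp c hc', h3]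
      exact Or.inr (Or.inl ⟨by omega, hF, hf⟩)
  · have h23 : p % 5 = 2 ∨ p % 5 = 3 := by
      have h0 : p % 5 ≠ 0 := fun h => h5 (Or.inr (Or.inr
        ((Nat.prime_dvd_prime_iff_eq (by norm_num) hp.out).1 (Nat.dvd_of_mod_eq_zero h)).symm))
      omega
    -- an element of order five has a trace moved by the Frobenius automorphism
    obtain ⟨u, hu5, hu1, hur⟩ : ∃ u : P, u ^ 5 = 1 ∧ u ≠ 1 ∧ IsConj u u⁻¹ := by
      obtain ⟨s, hs5, hs1⟩ := alt_six_exists_five
      obtain ⟨g, hg⟩ := QuotientGroup.mk'_surjective (Z P) (e.symm s)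
      obtain ⟨-, hr⟩ := alt_six_classes (e (proj P g))
      obtain ⟨g₀, h1, h2, h3⟩ := hc.core.exists_real_lift (g := g) (hback _ _ (by rwa [map_inv]))
      refine ⟨g₀, h3 5 (by rw [show proj P g = e.symm s from hg, ← map_pow, hs5, map_one]), fun h => hs1 ?_, h2⟩
      have : e.symm s = 1 := by rw [← hg, ← show proj P g₀ = proj P g from h1, h, map_one]
      simpa using congrArg e this
    have hu : trc u ^ p ≠ trc u := by
      intro hfr
      have h2 : trc (u ^ 2) = trc u := by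
        rw [← trc_pow, pow_frob hu5] at hfr
        rcases h23 with h | h <;> rw [h] at hfr
        · exact hfr
        · have e3 : (u ^ 2)⁻¹ = u ^ 3 := inv_eq_of_mul_eq_one_right (by rw [← pow_add]; exact hu5)
          obtain ⟨w, hw⟩ := isConj_iff.1 hur
          have : IsConj (u ^ 2) (u ^ 3) := isConj_iff.2 ⟨w, by rw [← conj_pow, hw, inv_pow, e3]⟩
          rw [trc_conj this, hfr]
      obtain ⟨hsq, hcay⟩ := trc_sq hc.core u
      rw [trc_inv_of_real hur] at hsq hcay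
      rw [h2] at hsq
      set M := mat (u : GL (Fin 3) F) with hM
      have ht : trc u = 0 ∨ trc u = 3 := by
        have : trc u * (trc u - 3) = 0 := by linear_combination -hsq
        exact (mul_eq_zero.1 this).imp id sub_eq_zero.1
      have hM5 : M ^ 5 = 1 := by
        show ((u : GL (Fin 3) F) : Matrix (Fin 3) (Fin 3) F) ^ 5 = 1
        rw [← Units.val_pow_eq_pow_val, ← SubmonoidClass.coe_pow, hu5]; rfl
      refine hu1 (Subtype.ext (Units.ext (show M = 1 from ?_)))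
      rcases ht with ht | ht <;> rw [ht] at hcay
      · rw [zero_smul, zero_smul, sub_zero, add_zero, sub_eq_zero] at hcay
        calc M = (M ^ 3) ^ 2 := by
              rw [← pow_mul, show 3 * 2 = 5 + 1 from rfl, pow_add, hM5, one_mul, pow_one]
          _ = 1 := by rw [hcay, one_pow]
      · have hN : (M - 1) ^ 3 = 0 := by
          rw [← hcay, show (3 : F) • M ^ 2 = (3 : ℕ) • M ^ 2 by rw [← Nat.cast_smul_eq_nsmul F]; norm_num,
            show (3 : F) • M = (3 : ℕ) • M by rw [← Nat.cast_smul_eq_nsmul F]; norm_num]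
          noncomm_ring
        have hk : ∃ k, 3 ≤ p ^ k := ⟨2, by have := hp.out.two_le; nlinarith⟩
        obtain ⟨k, hk⟩ := hk
        haveI : ExpChar F p := ExpChar.prime hp.out
        haveI : CharP (Matrix (Fin 3) (Fin 3) F) p := inferInstance
        have hMk : M ^ p ^ k = 1 := by
          have h := sub_pow_char_pow_of_commute (p := p) (n := k) (Commute.one_right M)
          rw [one_pow, pow_eq_zero_of_le hk hN] at h
          exact (sub_eq_zero.1 h.symm)
        have hcop : Nat.Coprime (p ^ k) 5 :=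
          Nat.Coprime.pow_left k ((Nat.coprime_primes hp.out (by norm_num)).2 fun h => by omega)
        have h1 := Nat.dvd_gcd (orderOf_dvd_of_pow_eq_one hMk) (orderOf_dvd_of_pow_eq_one hM5)
        rw [hcop.gcd_eq_one, Nat.dvd_one] at h1
        exact orderOf_eq_one_iff.1 h1
    refine Or.inr (Or.inr ⟨h23, ?_, fun h => ?_⟩)
    · refine (card_of_frob_sq p hc fun g => ?_).resolve_left fun hF => hu (hF ▸ FiniteField.pow_card _)
      obtain ⟨c, g₀, h3, h1, -, hr, hpow⟩ := hreal g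
      have hc2 : c ^ p ^ 2 = c := by
        have : p ^ 2 % 3 = 1 := by rcases hp3' with h | h <;> rw [Nat.pow_mod, h]
        rw [← Nat.mod_add_div (p ^ 2) 3, this, pow_add, pow_mul, h3, one_pow, mul_one, pow_one]
      rw [h1, mul_pow, hc2, (hfix g₀ hr hpow).2]
    · exact hu ((h _ u.2).trans (trc_inv_of_real hur))

include hp in
/-- **`A₇`.** -/
theorem endgame_alt_seven (hc : Ctx P) (hp5 : p = 5) (e : (P ⧸ Z P) ≃* alternatingGroup (Fin 7)) :
    Fintype.card F = p ^ 2 ∧ ∃ σ f, IsUnitaryForm σ f ∧ FixesForm (matrixSet P) f := by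
  subst hp5
  have hback : ∀ x y, IsConj (e x) (e y) → IsConj x y := fun x y h => by
    simpa using e.symm.toMonoidHom.map_isConj h
  have hcl : ∀ s : P ⧸ Z P, ((∃ n, (n = 4 ∨ n = 5 ∨ n = 6) ∧ s ^ n = 1) ∧ IsConj s s⁻¹) ∨
      (s ^ 7 = 1 ∧ IsConj s (s ^ 2)) := fun s => by
    rcases alt_seven_classes (e s) with ⟨h, hr⟩ | ⟨h, hr⟩
    · refine Or.inl ⟨?_, hback _ _ (by rwa [map_inv])⟩
      rcases h with h | h | h
      · exact ⟨4, Or.inl rfl, e.injective (by rw [map_pow, h, map_one])⟩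
      · exact ⟨5, Or.inr (Or.inl rfl), e.injective (by rw [map_pow, h, map_one])⟩
      · exact ⟨6, Or.inr (Or.inr rfl), e.injective (by rw [map_pow, h, map_one])⟩
    · exact Or.inr ⟨e.injective (by rw [map_pow, h, map_one]), hback _ _ (by rwa [map_pow])⟩
  refine unitary_of_frob_inv 5 hc fun g => ?_
  obtain ⟨c, g₀, h3, h1, h2, hcase⟩ := hc.core.exists_decomp hcl g
  rw [h1, h2, mul_pow, show c ^ 5 = c ^ 2 by rw [show 5 = 3 + 2 from rfl, pow_add, h3, one_mul]]
  congr 1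
  rcases hcase with ⟨⟨n, hn, hpow⟩, hr⟩ | ⟨h7, hr⟩
  · rw [trc_inv_of_real hr]
    refine trc_frob_real 5 hr hpow ?_
    rcases hn with rfl | rfl | rfl
    · exact Or.inl rfl
    · exact Or.inr (Or.inr ⟨1, rfl⟩)
    · exact Or.inr (Or.inl rfl)
  · exact (trc_frob_seven 5 h7 hr).2 (by norm_num)

end CfsgLib.PGLThree
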