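import Cfsg.Agent.PGLThree.FriendshipCoords

/-!
# Centralisers of involutions and the friendship graph

Let `P` contain no transvection and have one class of involutions, and let `h` centralise the
involution `t` and act as the scalar `μ` on its axis with `μ ^ 6 ≠ 1`. Then two involutions have
exactly one common neighbour in the commuting graph. A regular friendship graph is a triangle, and
a perfect irreducible group does not act on three involutions.
-/

set_option autoImplicit false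
set_option linter.unusedSectionVars false

namespace CfsgLib.PGLThree

open Matrix Cfsg.Geo CfsgLib.Aschbacher CfsgLib.MaxSub CfsgLib.SLThree
open scoped commutatorElement

/-- **Regular friendship graphs are triangles.** -/
theorem friendship_three {V : Type*} [Fintype V] [Nontrivial V] (A : V → V → Prop)
    (hsymm : ∀ a b, A a b → A b a) (hirr : ∀ a, ¬ A a a)
    (hun : ∀ a b, a ≠ b → ∃! x, A a x ∧ A b x)
    (hhom : ∀ a b, ∃ g : V ≃ V, g a = b ∧ ∀ x y, A (g x) (g y) ↔ A x y) :
    ∃ a b c : V, ∀ x, x = a ∨ x = b ∨ x = c := by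
  classical
  obtain ⟨a₀, b₀, hab₀⟩ := exists_pair_ne V
  set d := (Finset.univ.filter (A a₀)).card with hd
  have hdeg : ∀ a, (Finset.univ.filter (A a)).card = d := by
    intro a
    obtain ⟨g, hga, hg⟩ := hhom a a₀
    refine Finset.card_equiv g fun x => ?_
    simp [← hga, hg]
  have hd2 : 2 ≤ d := by
    obtain ⟨w, ⟨h1, h2⟩, -⟩ := hun a₀ b₀ hab₀
    rw [← hdeg w]
    exact Finset.one_lt_card.2 ⟨a₀, by simp [hsymm _ _ h1], b₀, by simp [hsymm _ _ h2], hab₀⟩
  have hd' : d = 2 := by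
    by_contra hne
    obtain ⟨r, hr, hrd⟩ := Nat.exists_prime_and_dvd (show d - 1 ≠ 1 by omega)
    haveI : Fact r.Prime := ⟨hr⟩
    have hd1 : (d : ZMod r) = 1 := by
      rw [show d = d - 1 + 1 by omega, Nat.cast_add, (CharP.cast_eq_zero_iff (ZMod r) r _).2 hrd,
        Nat.cast_one, zero_add]
    let M : Matrix V V (ZMod r) := Matrix.of fun a b => if A a b then 1 else 0
    let J : Matrix V V (ZMod r) := Matrix.of fun _ _ => 1
    have hrow : ∀ a, ∑ b, M a b = 1 := fun a => by
      simp only [M, Matrix.of_apply, Finset.sum_boole, hdeg, hd1]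
    have hMJ : M * J = J := by
      ext a b
      simp [Matrix.mul_apply, J, hrow a]
    have hMM : M * M = J := by
      ext a b
      rw [Matrix.mul_apply]
      have hh : ∀ x, M a x * M x b = if A a x ∧ A b x then 1 else 0 := fun x => by
        have : A x b ↔ A b x := ⟨hsymm _ _, hsymm _ _⟩
        by_cases h1 : A a x <;> by_cases h2 : A b x <;> simp [M, h1, h2, this]
      rw [Finset.sum_congr rfl fun x _ => hh x, Finset.sum_boole]
      rcases eq_or_ne a b with rfl | hab
      · simp only [and_self, hdeg, hd1, J, Matrix.of_apply]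
      · obtain ⟨x, hx, hux⟩ := hun a b hab
        have : Finset.univ.filter (fun y => A a y ∧ A b y) = {x} :=
          Finset.eq_singleton_iff_unique_mem.2 ⟨by simp [hx], fun y hy => hux y (by simpa using hy)⟩
        simp [this, J]
    have hJJ : J * J = J := by
      conv_lhs => arg 1; rw [← hMM]
      rw [mul_assoc, hMJ, hMJ]
    have hcard : (Fintype.card V : ZMod r) = 1 := by
      have := congrFun (congrFun hJJ a₀) a₀
      simpa [Matrix.mul_apply, J] using this
    have hpow : ∀ n, M ^ (n + 2) = J := by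
      intro n
      induction n with
      | zero => rw [pow_two, hMM]
      | succ n ih => rw [show n + 1 + 2 = (n + 2) + 1 by omega, pow_succ', ih, hMJ]
    obtain ⟨k, hk⟩ : ∃ k, r = k + 2 := ⟨r - 2, by have := hr.two_le; omega⟩
    have h1 := ZMod.trace_pow_card M
    have htr : M.trace = 0 := Finset.sum_eq_zero fun a _ => by simp [M, hirr a]
    have hJ : J.trace = 1 := by simp [Matrix.trace, J, hcard]
    rw [htr, zero_pow hr.ne_zero, (congrArg (M ^ ·) hk).trans (hpow k), hJ] at h1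
    exact one_ne_zero h1
  have hnb : ∀ a, ∃ x y, ∀ z, A a z ↔ (z = x ∨ z = y) := by
    intro a
    obtain ⟨x, y, -, he⟩ := Finset.card_eq_two.1 ((hdeg a).trans hd')
    refine ⟨x, y, fun z => ?_⟩
    have := Finset.ext_iff.1 he z
    simpa using this
  obtain ⟨b, c, hbc⟩ := hnb a₀
  have hab : A a₀ b := (hbc b).2 (Or.inl rfl)
  have hac : A a₀ c := (hbc c).2 (Or.inr rfl)
  have hne : a₀ ≠ b := fun e => hirr _ (e ▸ hab : A b b)
  obtain ⟨w, ⟨haw, hbw⟩, -⟩ := hun a₀ b hne
  have hbc' : A b c := by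
    rcases (hbc w).1 haw with rfl | rfl
    · exact absurd hbw (hirr _)
    · exact hbw
  have key : ∀ u v, A a₀ u → A u v → A a₀ v → ∀ z, A u z → z = a₀ ∨ z = v := by
    intro u v hau huv hav z huz
    obtain ⟨x, y, hxy⟩ := hnb u
    have hne' : a₀ ≠ v := fun e => hirr _ (e ▸ hav : A v v)
    rcases (hxy a₀).1 (hsymm _ _ hau) with h | h <;> rcases (hxy v).1 huv with h' | h' <;>
      rcases (hxy z).1 huz with h'' | h'' <;> simp_all
  refine ⟨a₀, b, c, fun x => ?_⟩
  by_cases hx : a₀ = x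
  · exact Or.inl hx.symm
  obtain ⟨y, ⟨hay, hxy⟩, -⟩ := hun a₀ x hx
  rcases (hbc y).1 hay with rfl | rfl
  · rcases key y c hab hbc' hac x (hsymm _ _ hxy) with h | h
    · exact Or.inl h
    · exact Or.inr (Or.inr h)
  · rcases key y b hac (hsymm _ _ hbc') hab x (hsymm _ _ hxy) with h | h
    · exact Or.inl h
    · exact Or.inr (Or.inl h)

variable {F : Type*} [Field F] {P : Subgroup (GL (Fin 3) F)}

theorem homMat_mulVec (e f x : Fin 3 → F) :
    homMat e f *ᵥ x = -x + ((2 : F) * (f ⬝ᵥ x)) • e := by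
  rw [homMat, add_mulVec, neg_mulVec, one_mulVec, smul_mulVec, vecMulVec_mulVec', smul_smul]

/-- The fixed vectors of a reflection. -/
theorem fixed_homMat (h2 : (2 : F) ≠ 0) {e f x : Fin 3 → F} (h : homMat e f *ᵥ x = x) :
    x = (f ⬝ᵥ x) • e := by
  rw [homMat_mulVec, mul_smul, neg_add_eq_iff_eq_add, ← two_smul F x] at h
  exact smul_right_injective _ h2 h.symm

theorem homMat_mulVec_centre {e f : Fin 3 → F} (h : f ⬝ᵥ e = 1) : homMat e f *ᵥ e = e := by
  rw [homMat_mulVec, h, mul_one, two_smul]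
  abel

/-- An involution is a reflection. -/
theorem exists_homMat (h2 : (2 : F) ≠ 0) (hdet : ∀ g ∈ P, (mat g).det = 1) (u : P)
    (hu : orderOf u = 2) :
    ∃ e f, Hom P e f ∧ mat (u : GL (Fin 3) F) = homMat e f := by
  have hsq : (u : GL (Fin 3) F) * u = 1 := by
    rw [← Subgroup.coe_mul, ← pow_two, ← hu, pow_orderOf_eq_one, Subgroup.coe_one]
  have hne : (u : GL (Fin 3) F) ≠ 1 := fun e => by
    rw [Subtype.ext (a1 := u) (a2 := 1) e, orderOf_one] at hu
    omega
  obtain ⟨e, f, h1, g, hg, he⟩ := exists_hom (M := Subgroup.zpowers (u : GL (Fin 3) F)) h2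
    (Subgroup.mem_zpowers _) (mem_specialLinear_iff.2 (hdet _ u.2)) hsq hne
  obtain ⟨k, rfl⟩ := Subgroup.mem_zpowers_iff.1 hg
  have hu' : ∀ k : ℤ, (u : GL (Fin 3) F) ^ k = 1 ∨ (u : GL (Fin 3) F) ^ k = u := by
    intro k
    induction k with
    | zero => exact Or.inl (zpow_zero _)
    | succ n ih => rcases ih with h | h <;> simp [_root_.zpow_add_one, h, hsq]
    | pred n ih =>
      rcases ih with h | h <;> simp [_root_.zpow_sub_one, h, inv_eq_of_mul_eq_one_right hsq, hsq]
  rcases hu' k with h | h <;> rw [h] at he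
  · exfalso
    obtain ⟨x, hx0, hx⟩ := exists_ne_zero_dot f
    have := congrArg (· *ᵥ x) he
    simp only [Units.val_one, one_mulVec, homMat_mulVec, hx, mul_zero, zero_smul, add_zero] at this
    refine hx0 ((smul_eq_zero.1 ?_).resolve_left h2)
    rw [two_smul]
    exact eq_neg_iff_add_eq_zero.1 this
  · exact ⟨e, f, ⟨h1, _, u.2, he⟩, he⟩

theorem commute_of_mat {x y : P}
    (h : mat (x : GL (Fin 3) F) * mat (y : GL (Fin 3) F) = mat (y : GL (Fin 3) F) * mat (x : GL (Fin 3) F)) :
    x * y = y * x :=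
  Subtype.ext (Units.ext (by simpa [mat] using h))

section Pair

variable (h2 : (2 : F) ≠ 0) (hM : NoFlag P) {x y : P} {e f e' f' : Fin 3 → F}
  (hx : Hom P e f) (hy : Hom P e' f')
  (ex : mat (x : GL (Fin 3) F) = homMat e f) (ey : mat (y : GL (Fin 3) F) = homMat e' f')

include h2 hM hx hy ex ey

theorem commute_of_dot (hd : f ⬝ᵥ e' = 0) : x * y = y * x := by
  refine commute_of_mat ?_
  have hd' := hx.dot_symm h2 hM hy hd
  have hp : vecMulVec e f * vecMulVec e' f' = 0 := by
    rw [vecMulVec_mul_vecMulVec, hd, zero_smul, vecMulVec_zero]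
  have hp' : vecMulVec e' f' * vecMulVec e f = 0 := by
    rw [vecMulVec_mul_vecMulVec, hd', zero_smul, vecMulVec_zero]
  rw [ex, ey, homMat, homMat]
  simp only [add_mul, mul_add, neg_mul, mul_neg, one_mul, mul_one, neg_neg, smul_mul_assoc,
    mul_smul_comm, hp, hp', smul_zero, smul_neg, neg_zero]
  module

theorem eq_of_smul {k : F} (hk : k • e' = e) : x = y := by
  have hk0 : k ≠ 0 := fun h => hx.ne_left (by rw [← hk, h, zero_smul])
  have h := hy.smul hk0
  rw [hk] at h
  have hf := hx.axis_unique h2 hM h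
  refine Subtype.ext (Units.ext ?_)
  exact ex.trans (by rw [← hk, hf, homMat_smul hk0, ← ey])

theorem axis_indep (hne : x ≠ y) : Indep f f' := by
  refine (indep_or_smul hx.ne_right f').resolve_right fun ⟨c, hc⟩ => hne ?_
  have hc0 : c ≠ 0 := fun h => hy.ne_right (by rw [← hc, h, zero_smul])
  have h := hy.smul hc0
  rw [← hc, inv_smul_smul₀ hc0] at h
  exact eq_of_smul h2 hM hx hy ex ey (hx.centre_unique h2 hM h).symm

theorem dot_of_commute (hc : x * y = y * x) (hne : x ≠ y) : f ⬝ᵥ e' = 0 := by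
  by_contra hd
  have hm : mat (x : GL (Fin 3) F) * mat (y : GL (Fin 3) F) =
      mat (y : GL (Fin 3) F) * mat (x : GL (Fin 3) F) := by
    simpa [mat] using congrArg (fun g : P => mat (g : GL (Fin 3) F)) hc
  rw [ex, ey] at hm
  have hfix : homMat e' f' *ᵥ (homMat e f *ᵥ e') = homMat e f *ᵥ e' := by
    rw [mulVec_mulVec, ← hm, ← mulVec_mulVec, homMat_mulVec_centre hy.1]
  have h := fixed_homMat h2 hfix
  set c := f' ⬝ᵥ (homMat e f *ᵥ e')
  rw [homMat_mulVec, neg_add_eq_iff_eq_add] at h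
  refine hne (eq_of_smul h2 hM hx hy ex ey (k := ((2 : F) * (f ⬝ᵥ e'))⁻¹ * (1 + c)) ?_)
  rw [mul_smul, add_smul, one_smul, ← h, inv_smul_smul₀ (mul_ne_zero h2 hd)]

end Pair

/-- The matrix with given columns. -/
theorem frame_mulVec (a b c v : Fin 3 → F) :
    (Matrix.of ![a, b, c])ᵀ *ᵥ v = v 0 • a + v 1 • b + v 2 • c := by
  ext i
  simp [mulVec, dotProduct, Fin.sum_univ_three, mul_comm]

/-- Two involutions which do not commute commute with a third one, if the first has an element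
scalar on its axis with scalar of order not dividing six. -/
theorem exists_common [Fintype F] {p : ℕ} [Fact p.Prime] [CharP F p] (h2 : (2 : F) ≠ 0)
    (hdet : ∀ g ∈ P, (mat g).det = 1) (hM : NoFlag P) {t u h : P} {e f : Fin 3 → F}
    (ht : Hom P e f) (he : mat (t : GL (Fin 3) F) = homMat e f) (hu : orderOf u = 2)
    (htu : t * u ≠ u * t) (hcomm : h * t = t * h) {μ : F}
    (hμ : ∀ x, f ⬝ᵥ x = 0 → mat (h : GL (Fin 3) F) *ᵥ x = μ • x) (hμ6 : μ ^ 6 ≠ 1) :
    ∃ x : P, orderOf x = 2 ∧ x * t = t * x ∧ x * u = u * x := by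
  obtain ⟨e', f', hu', heu⟩ := exists_homMat h2 hdet u hu
  have hne : t ≠ u := fun e => htu (by rw [e])
  have hs : f ⬝ᵥ e' ≠ 0 := fun h0 => htu (commute_of_dot h2 hM ht hu' he heu h0)
  have hg0 : f' ⬝ᵥ e ≠ 0 := fun h0 => htu (commute_of_dot h2 hM hu' ht heu he h0).symm
  have hfe := ht.1
  have hfe' := hu'.1
  set s := f ⬝ᵥ e' with hsdef
  set g0 := f' ⬝ᵥ e with hg0def
  set x0 := e' - s • e with hx0def
  have hfx0 : f ⬝ᵥ x0 = 0 := by
    rw [hx0def, dotProduct_sub, dotProduct_smul, hfe, ← hsdef]; simp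
  set g1 := f' ⬝ᵥ x0 with hg1def
  have hsum : g0 * s + g1 = 1 := by
    rw [hg1def, hx0def, dotProduct_sub, dotProduct_smul, hfe', ← hg0def, smul_eq_mul]; ring
  have hi := axis_indep h2 hM ht hu' he heu hne
  have hx0 : x0 ≠ 0 := fun h0 => by
    have hk : s • e = e' := (sub_eq_zero.1 h0).symm
    exact hne (eq_of_smul h2 hM hu' ht heu he hk).symm
  -- the action of `h` on the centre
  have hhe : mat (h : GL (Fin 3) F) *ᵥ e = (f ⬝ᵥ (mat (h : GL (Fin 3) F) *ᵥ e)) • e := by
    refine fixed_homMat h2 ?_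
    have hm : mat (h : GL (Fin 3) F) * mat (t : GL (Fin 3) F) =
        mat (t : GL (Fin 3) F) * mat (h : GL (Fin 3) F) := by
      simpa [mat] using congrArg (fun g : P => mat (g : GL (Fin 3) F)) hcomm
    rw [mulVec_mulVec, ← he, ← hm, ← mulVec_mulVec, he, homMat_mulVec_centre hfe]
  set l := f ⬝ᵥ (mat (h : GL (Fin 3) F) *ᵥ e)
  -- a third vector
  obtain ⟨q, w, hfq, hfq', hcase⟩ : ∃ (q : Fin 3 → F) (w : F), f ⬝ᵥ q = 0 ∧ f' ⬝ᵥ q = w ∧
      ((g1 ≠ 0 ∧ w = 0 ∧ q ≠ 0) ∨ (g1 = 0 ∧ w = 1)) := by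
    by_cases h1 : g1 = 0
    · obtain ⟨z, hz, hz'⟩ := exists_dot_eq_zero_one (a := f) (b := f') fun c hc => by
        exact one_ne_zero (neg_eq_zero.1 (hi c (-1) (by rw [hc]; simp)).2)
      exact ⟨z, 1, hz, hz', Or.inr ⟨h1, rfl⟩⟩
    · exact ⟨crossProduct f f', 0, dot_self_cross _ _, dot_cross_self _ _,
        Or.inl ⟨h1, rfl, hi.cross_ne_zero⟩⟩
  set Bm : Matrix (Fin 3) (Fin 3) F := (Matrix.of ![e, x0, q])ᵀ with hBm
  have hB0 : Bm.det ≠ 0 := by
    intro h0
    obtain ⟨v, hv0, hv⟩ := Matrix.exists_mulVec_eq_zero_iff.2 h0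
    rw [hBm, frame_mulVec] at hv
    have k1 := congrArg (f ⬝ᵥ ·) hv
    have k2 := congrArg (f' ⬝ᵥ ·) hv
    simp only [dotProduct_add, dotProduct_smul, smul_eq_mul, hfe, hfx0, hfq, ← hg0def, ← hg1def,
      hfq', dotProduct_zero, mul_zero, add_zero, mul_one] at k1 k2
    rw [k1, zero_mul, zero_add] at k2
    rw [k1, zero_smul, zero_add] at hv
    rcases hcase with ⟨h1, rfl, hq⟩ | ⟨h1, rfl⟩
    · have h4 : v 1 = 0 := (mul_eq_zero.1 (by simpa using k2)).resolve_right h1
      rw [h4, zero_smul, zero_add] at hv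
      exact hv0 (funext fun i => by
        fin_cases i <;> simp [k1, h4, (smul_eq_zero.1 hv).resolve_right hq])
    · have h4 : v 2 = 0 := by simpa [h1] using k2
      rw [h4, zero_smul, add_zero] at hv
      exact hv0 (funext fun i => by
        fin_cases i <;> simp [k1, h4, (smul_eq_zero.1 hv).resolve_right hx0])
  set B := Matrix.GeneralLinearGroup.mkOfDetNeZero Bm hB0 with hB
  have hBc : mat B = Bm := rfl
  let φ : GL (Fin 3) F ≃* GL (Fin 3) F := MulAut.conj B⁻¹
  have hφ : ∀ g, φ g = B⁻¹ * g * B := fun g => by simp [φ]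
  have hmat : ∀ (g : GL (Fin 3) F) (X : Matrix (Fin 3) (Fin 3) F),
      (∀ v, mat g *ᵥ (Bm *ᵥ v) = Bm *ᵥ (X *ᵥ v)) → mat (φ g) = X := by
    intro g X h0
    have h1 : mat g * Bm = Bm * X := Matrix.ext_iff_mulVec.2 fun v => by
      rw [← mulVec_mulVec, ← mulVec_mulVec, h0]
    rw [hφ, mat, Units.val_mul, Units.val_mul, mul_assoc,
      show ((B : GL (Fin 3) F) : Matrix (Fin 3) (Fin 3) F) = Bm from rfl, h1, ← mul_assoc]
    change mat B⁻¹ * mat B * X = X
    rw [mat_inv_mul, one_mul]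
  have hdot : ∀ v, f ⬝ᵥ (Bm *ᵥ v) = v 0 ∧ f' ⬝ᵥ (Bm *ᵥ v) = v 0 * g0 + v 1 * g1 + v 2 * w := by
    intro v
    rw [hBm, frame_mulVec]
    simp [dotProduct_add, dotProduct_smul, hfe, hfx0, hfq, ← hg0def, ← hg1def, hfq']
  have eT : mat (φ t) = !![1, 0, 0; 0, -1, 0; 0, 0, -1] := hmat _ _ fun v => by
    rw [he, homMat_mulVec, (hdot v).1, hBm, frame_mulVec, frame_mulVec]
    simp [mulVec, dotProduct, Fin.sum_univ_three]
    module
  have eU : mat (φ u) = !![2 * g0 * s - 1, 2 * g1 * s, 2 * w * s; 2 * g0, 2 * g1 - 1, 2 * w;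
      0, 0, -1] := hmat _ _ fun v => by
    have he' : e' = s • e + x0 := by rw [hx0def]; abel
    rw [heu, homMat_mulVec, (hdot v).2, hBm, frame_mulVec, frame_mulVec, he']
    simp [mulVec, dotProduct, Fin.sum_univ_three]
    module
  have eD : mat (φ h) = !![l, 0, 0; 0, μ, 0; 0, 0, μ] := hmat _ _ fun v => by
    rw [hBm, frame_mulVec, frame_mulVec, mulVec_add, mulVec_add, mulVec_smul, mulVec_smul,
      mulVec_smul, hhe, hμ _ hfx0, hμ _ hfq]
    simp [mulVec, dotProduct, Fin.sum_univ_three]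
    module
  set P' := P.map φ.toMonoidHom with hP'
  have hmem : ∀ g : P, φ g ∈ P' := fun g => Subgroup.mem_map_of_mem _ g.2
  have hdet' : ∀ g ∈ P', (mat g).det = 1 := by
    rintro _ ⟨g, hg, rfl⟩
    rw [MulEquiv.coe_toMonoidHom, hφ, mat, Units.val_mul, Units.val_mul, det_mul, det_mul,
      mul_right_comm, ← det_mul]
    change (mat B⁻¹ * mat B).det * _ = 1
    rw [mat_inv_mul, det_one, one_mul]
    exact hdet g hg
  have hM' : NoFlag P' := by
    rintro v a ⟨h0, hv, ha, c, hc0, hm⟩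
    obtain ⟨g, hg, hge⟩ := hm
    have hge' : g = B * MaxSub.tv (c • v) a * B⁻¹ := by
      rw [← hge, MulEquiv.coe_toMonoidHom, hφ]; group
    rw [conj_tv, mulVec_smul] at hge'
    refine hM _ _ ⟨by rw [dot_conj, h0], ?_, ?_, c, hc0, hge' ▸ hg⟩
    · intro e0
      apply hv
      have := congrArg (mat B⁻¹ *ᵥ ·) e0
      simpa [mulVec_mulVec, mat] using this
    · intro e0
      apply ha
      have := congrArg (· ᵥ* (B : Matrix (Fin 3) (Fin 3) F)) e0
      simpa [vecMul_vecMul] using this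
  rcases hcase with ⟨h1, rfl, -⟩ | ⟨h1, rfl⟩
  · rw [mul_zero, zero_mul] at eU
    obtain ⟨g, hg, hge⟩ := exists_neg_blk (p := p) h2 hdet' hM' hs hg0 h1 hsum hμ6 (hmem t) (hmem u)
      (hmem h) eT eU eD
    obtain ⟨x, hxP, rfl⟩ := hg
    rw [MulEquiv.coe_toMonoidHom] at hge
    have hinj : ∀ a b : P, mat (φ a) = mat (φ b) → a = b :=
      fun a b e0 => Subtype.ext (φ.injective (Units.ext e0))
    have hmul : ∀ a b : P, mat (φ (a * b : P)) = mat (φ a) * mat (φ b) := fun a b => by
      simp [mat, map_mul]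
    refine ⟨⟨x, hxP⟩, orderOf_eq_prime ?_ fun e0 => ?_, hinj _ _ ?_, hinj _ _ ?_⟩
    · rw [pow_two]
      refine hinj _ _ ?_
      rw [hmul, hge]
      ext i j
      fin_cases i <;> fin_cases j <;> simp [mat, Matrix.mul_apply, Fin.sum_univ_three]
    · have hx1 : x = 1 := congrArg Subtype.val e0
      have := congrFun (congrFun hge 0) 0
      rw [hx1] at this
      simp [mat] at this
      exact h2 (by linear_combination this)
    · rw [hmul, hmul, hge, eT]
      ext i j
      fin_cases i <;> fin_cases j <;> simp [Matrix.mul_apply, Fin.sum_univ_three]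
    · rw [hmul, hmul, hge, eU]
      ext i j
      fin_cases i <;> fin_cases j <;> simp [Matrix.mul_apply, Fin.sum_univ_three]
  · rw [h1, add_zero] at hsum
    have eU' : mat (φ u) = !![1, 0, 2 * s; 2 * g0, -1, 2; 0, 0, -1] := by
      rw [eU, h1]
      ext i j
      fin_cases i <;> fin_cases j <;> simp
      linear_combination (2 : F) * hsum
    obtain ⟨v, a, hva⟩ := flag_of_tangent h2 hdet' hsum hμ6 (hmem t) (hmem u) (hmem h) eT eU' eD
    exact absurd hva (hM' v a)

/-- A perfect irreducible group does not centralise an involution. -/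
theorem exists_not_commute (hirr : CfsgLib.MaxSub.Irreducible P) (h2 : (2 : F) ≠ 0) {t : P}
    {e f : Fin 3 → F} (ht : Hom P e f) (he : mat (t : GL (Fin 3) F) = homMat e f) :
    ∃ g : P, g * t ≠ t * g := by
  by_contra! hall
  rcases hirr (Submodule.span F {e}) (fun g hg x hx => by
    obtain ⟨c, rfl⟩ := Submodule.mem_span_singleton.1 hx
    have hm : mat g * mat (t : GL (Fin 3) F) = mat (t : GL (Fin 3) F) * mat g := by
      simpa [mat] using congrArg (fun k : P => mat (k : GL (Fin 3) F)) (hall ⟨g, hg⟩)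
    have hfix : homMat e f *ᵥ (mat g *ᵥ e) = mat g *ᵥ e := by
      rw [← he, mulVec_mulVec, ← hm, ← mulVec_mulVec, he, homMat_mulVec_centre ht.1]
    rw [mulVec_smul]
    refine Submodule.smul_mem _ _ ?_
    rw [fixed_homMat h2 hfix]
    exact Submodule.smul_mem _ _ (Submodule.mem_span_singleton_self e)) with h | h
  · exact ht.ne_left (by simpa using h)
  · have := congrArg (fun W : Submodule F (Fin 3 → F) => Module.finrank F W) h
    simp [finrank_span_singleton ht.ne_left] at this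

/-- A perfect group acts trivially on three points. -/
theorem eq_one_of_perfect {G V : Type*} [Group G] (hperf : commutator G = ⊤)
    (ψ : G →* Equiv.Perm V) {a b c : V} (hV : ∀ x, x = a ∨ x = b ∨ x = c) (g : G) : ψ g = 1 := by
  classical
  haveI : Fintype V := ⟨{a, b, c}, fun x => by simpa using hV x⟩
  obtain ⟨ι⟩ : Nonempty (V ↪ Fin 3) := Function.Embedding.nonempty_of_card_le (by
    rw [Fintype.card_fin]
    exact (Finset.card_le_card fun x _ => (by simpa using hV x : x ∈ ({a, b, c} : Finset V))).trans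
      Finset.card_le_three)
  let θ : G →* Equiv.Perm (Fin 3) := (Equiv.Perm.viaEmbeddingHom ι).comp ψ
  have hA : ∀ σ τ : Equiv.Perm (Fin 3), Equiv.Perm.sign σ = 1 → Equiv.Perm.sign τ = 1 →
      σ * τ = τ * σ := by decide
  have hle : ∀ {H : Type} [Group H] (χ : G →* H), (∀ x y : G, χ x * χ y = χ y * χ x) →
      ∀ x : G, χ x = 1 := by
    intro H _ χ hχ x
    have : commutator G ≤ χ.ker := by
      rw [commutator_def, Subgroup.commutator_le]
      intro x _ y _
      rw [MonoidHom.mem_ker, map_commutatorElement]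
      exact commutatorElement_eq_one_iff_commute.2 (hχ x y)
    exact MonoidHom.mem_ker.1 (this (hperf ▸ Subgroup.mem_top x))
  have hsign := hle (Equiv.Perm.sign.comp θ) fun x y => mul_comm _ _
  have hθ := hle θ fun x y => hA _ _ (hsign x) (hsign y)
  exact Equiv.Perm.viaEmbeddingHom_injective ι ((hθ g).trans (map_one _).symm)

/-- **The scalar on the axis of an involution.** -/
theorem axis_scalar [Fintype F] {p : ℕ} [Fact p.Prime] [CharP F p] (hc : Ctx P) (h2 : (2 : F) ≠ 0)
    (hM : NoFlag P) (hone : ∀ s t : P, orderOf s = 2 → orderOf t = 2 → IsConj s t)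
    {t : P} (ht : orderOf t = 2) {e f : Fin 3 → F}
    (he : mat (t : GL (Fin 3) F) = homMat e f) (hef : f ⬝ᵥ e = 1)
    {h : P} (hcomm : h * t = t * h) {μ : F}
    (hμ : ∀ x, f ⬝ᵥ x = 0 → mat (h : GL (Fin 3) F) *ᵥ x = μ • x) : μ ^ 6 = 1 := by
  by_contra hμ6
  have hdet : ∀ g ∈ P, (mat g).det = 1 := fun g hg => hc.core.det_eq_one hg
  have hte : Hom P e f := ⟨hef, _, t.2, he⟩
  let V := {x : P // orderOf x = 2}
  let A : V → V → Prop := fun x y => x.1 * y.1 = y.1 * x.1 ∧ x ≠ y
  haveI : Finite V := inferInstance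
  letI : Fintype V := Fintype.ofFinite V
  let ψ : P →* Equiv.Perm V :=
    { toFun := fun g => (MulAut.conj g).toEquiv.subtypeEquiv fun x =>
        iff_of_eq (congrArg (· = 2) (orderOf_injective (MulAut.conj g).toMonoidHom
          (MulAut.conj g).injective x).symm)
      map_one' := by ext x; simp
      map_mul' := fun g k => by ext x; simp [mul_assoc] }
  have hψ : ∀ g (x : V), (ψ g x).1 = g * x.1 * g⁻¹ := fun g x => rfl
  have hex : ∀ x : V, ∃ g, ψ g ⟨t, ht⟩ = x := by
    intro x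
    obtain ⟨g, hg⟩ := isConj_iff.1 (hone t x.1 ht x.2)
    exact ⟨g, Subtype.ext ((hψ _ _).trans hg)⟩
  obtain ⟨g₀, hg₀⟩ := exists_not_commute hc.core.irreducible h2 hte he
  haveI : Nontrivial V := ⟨⟨t, ht⟩, ψ g₀ ⟨t, ht⟩, fun e0 => hg₀ (by
    have := congrArg Subtype.val e0
    rw [hψ] at this
    exact mul_inv_eq_iff_eq_mul.1 this.symm)⟩
  have hun : ∀ a b : V, a ≠ b → ∃! x, A a x ∧ A b x := by
    intro a b hab
    refine existsUnique_of_exists_of_unique ?_ ?_
    · by_cases hcab : a.1 * b.1 = b.1 * a.1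
      · have ha2 : a.1 * a.1 = 1 := by rw [← pow_two]; exact orderOf_dvd_iff_pow_eq_one.1 a.2.dvd
        have hb2 : b.1 * b.1 = 1 := by rw [← pow_two]; exact orderOf_dvd_iff_pow_eq_one.1 b.2.dvd
        have hne : a.1 * b.1 ≠ 1 := fun e0 => hab (Subtype.ext (by
          calc a.1 = a.1 * (b.1 * b.1) := by rw [hb2, mul_one]
            _ = b.1 := by rw [← mul_assoc, e0, one_mul]))
        have ho : orderOf (a.1 * b.1) = 2 := orderOf_eq_prime (by
          rw [pow_two, mul_assoc, ← mul_assoc b.1, ← hcab, mul_assoc a.1 b.1 b.1, hb2, mul_one, ha2]) hne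
        refine ⟨⟨_, ho⟩, ⟨?_, fun e0 => ?_⟩, ?_, fun e0 => ?_⟩
        · show a.1 * (a.1 * b.1) = a.1 * b.1 * a.1
          rw [mul_assoc a.1 b.1 a.1, ← hcab]
        · have hb1 : b.1 = 1 := by
            have := congrArg Subtype.val e0
            simpa using this.symm
          have h' := b.2
          rw [hb1, orderOf_one] at h'
          omega
        · show b.1 * (a.1 * b.1) = a.1 * b.1 * b.1
          rw [← mul_assoc, ← hcab]
        · have ha1 : a.1 = 1 := by
            have := congrArg Subtype.val e0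
            simpa using this.symm
          have h' := a.2
          rw [ha1, orderOf_one] at h'
          omega
      · obtain ⟨g, rfl⟩ := hex a
        obtain ⟨b', rfl⟩ := (ψ g).surjective b
        have hnc : t * b'.1 ≠ b'.1 * t := fun e0 => hcab (by
          rw [hψ, hψ]
          have := congrArg (fun z => g * z * g⁻¹) e0
          simpa [mul_assoc] using this)
        obtain ⟨x, hx, hxt, hxb⟩ := exists_common (p := p) h2 hdet hM hte he b'.2 hnc hcomm hμ hμ6
        have hx1 : x ≠ t := fun e0 => hnc (by rw [← e0, hxb])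
        have hx2 : x ≠ b'.1 := fun e0 => hnc (by rw [← e0, hxt])
        refine ⟨ψ g ⟨x, hx⟩, ⟨?_, fun e0 => hx1 ?_⟩, ?_, fun e0 => hx2 ?_⟩
        · simp only [hψ]
          simpa [mul_assoc] using congrArg (fun z => g * z * g⁻¹) hxt.symm
        · exact (congrArg Subtype.val ((ψ g).injective e0)).symm
        · simp only [hψ]
          simpa [mul_assoc] using congrArg (fun z => g * z * g⁻¹) hxb.symm
        · exact (congrArg Subtype.val ((ψ g).injective e0)).symm
    · rintro x y ⟨⟨hax, nax⟩, hbx, nbx⟩ ⟨⟨hay, nay⟩, hby, nby⟩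
      obtain ⟨ea, fa, ha, hma⟩ := exists_homMat h2 hdet a.1 a.2
      obtain ⟨eb, fb, hb, hmb⟩ := exists_homMat h2 hdet b.1 b.2
      obtain ⟨ex, fx, hx, hmx⟩ := exists_homMat h2 hdet x.1 x.2
      obtain ⟨ey, fy, hy, hmy⟩ := exists_homMat h2 hdet y.1 y.2
      have hi := axis_indep h2 hM ha hb hma hmb fun e0 => hab (Subtype.ext e0)
      obtain ⟨k, hk⟩ := exists_smul_of_dot hi hy.ne_left
        (dot_of_commute h2 hM ha hy hma hmy hay fun e0 => nay (Subtype.ext e0))
        (dot_of_commute h2 hM hb hy hmb hmy hby fun e0 => nby (Subtype.ext e0))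
        (dot_of_commute h2 hM ha hx hma hmx hax fun e0 => nax (Subtype.ext e0))
        (dot_of_commute h2 hM hb hx hmb hmx hbx fun e0 => nbx (Subtype.ext e0))
      exact Subtype.ext (eq_of_smul h2 hM hx hy hmx hmy hk)
  obtain ⟨a, b, c, hV⟩ := friendship_three A (fun x y h => ⟨h.1.symm, h.2.symm⟩)
    (fun x h => h.2 rfl) hun fun a b => by
      obtain ⟨g, rfl⟩ := hex a
      obtain ⟨k, rfl⟩ := hex b
      refine ⟨ψ (k * g⁻¹), by rw [← Equiv.Perm.mul_apply, ← map_mul, inv_mul_cancel_right],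
        fun x y => ?_⟩
      simp only [A, hψ, (ψ (k * g⁻¹)).injective.ne_iff]
      refine and_congr_left fun _ => ⟨fun e0 => ?_, fun e0 => ?_⟩
      · have := congrArg (fun z => (k * g⁻¹)⁻¹ * z * (k * g⁻¹)) e0
        simpa [mul_assoc] using this
      · simpa [mul_assoc] using congrArg (fun z => (k * g⁻¹) * z * (k * g⁻¹)⁻¹) e0
  have hperf : commutator P = ⊤ := by
    refine Subgroup.map_injective P.subtype_injective ?_
    rw [commutator_def, Subgroup.map_commutator, ← MonoidHom.range_eq_map, P.range_subtype,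
      hc.core.perfect]
  have h1 := eq_one_of_perfect hperf ψ hV g₀
  apply hg₀
  have h' : (ψ g₀ ⟨t, ht⟩).1 = t := by rw [h1]; rfl
  rw [hψ] at h'
  exact mul_inv_eq_iff_eq_mul.1 h'

end CfsgLib.PGLThree
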