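import Cfsg.Agent.S3304
import Cfsg.Agent.TwoGroups.Models

/-!
# Central extensions of `S₄` by a group of order two

Such a group of 2-rank at most two with a second involution is `GL(2, 3)`.
-/

set_option autoImplicit false

set_option synthInstance.maxSize 4000

namespace CfsgLib.PGLThree.Octahedral

open Subgroup Equiv

/-- Membership in the four group of `S₄`. -/
abbrev InV (π : Perm (Fin 4)) : Prop := π * π = 1 ∧ (π = 1 ∨ ∀ k, π k ≠ k)

theorem inV_one : InV 1 := by decide
theorem inV_mul : ∀ π ρ : Perm (Fin 4), InV π → InV ρ → InV (π * ρ) := by decide +kernel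
theorem inV_conj : ∀ π ρ : Perm (Fin 4), InV π → InV (ρ * π * ρ⁻¹) := by decide +kernel

/-- The four group of `S₄`. -/
def four : Subgroup (Perm (Fin 4)) where
  carrier := {π | InV π}
  one_mem' := inV_one
  mul_mem' := inV_mul _ _
  inv_mem' := fun {π} h => by
    show InV π⁻¹
    rw [inv_eq_of_mul_eq_one_right h.1]
    exact h

instance four_normal : four.Normal := ⟨fun π h ρ => inV_conj π ρ h⟩

theorem card_four : Nat.card four = 4 := by
  rw [show Nat.card four = Nat.card {π : Perm (Fin 4) // InV π} from rfl, Nat.card_eq_fintype_card]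
  decide +kernel

theorem four_orbit : ∀ π ρ σ : Perm (Fin 4), InV π → π ≠ 1 → ρ ^ 3 = 1 → ρ ≠ 1 → InV σ → σ ≠ 1 →
    σ = π ∨ σ = ρ * π * ρ⁻¹ ∨ σ = ρ * (ρ * π * ρ⁻¹) * ρ⁻¹ := by decide +kernel

theorem four_centralizer : ∀ π : Perm (Fin 4), (∀ σ, InV σ → π * σ = σ * π) → InV π := by
  decide +kernel

theorem exists_three_product : ∀ π : Perm (Fin 4), ¬ InV π →
    ∃ ρ : Perm (Fin 4), (π * (ρ * π * ρ⁻¹)) ^ 3 = 1 ∧ π * (ρ * π * ρ⁻¹) ≠ 1 := by decide +kernel

theorem commute_three : ∀ π ρ : Perm (Fin 4), π * π = 1 → ρ ^ 3 = 1 → ρ ≠ 1 → π * ρ = ρ * π →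
    π = 1 := by decide +kernel

theorem exists_inv_three : ∀ ρ : Perm (Fin 4), ρ ^ 3 = 1 → ∃ π, π * ρ * π⁻¹ = ρ⁻¹ := by
  decide +kernel

theorem q16_invol : ∀ a b : QuaternionGroup 4, a * a = 1 → b * b = 1 → a = 1 ∨ b = 1 ∨ a = b := by
  decide +kernel

variable {C : Type*} [Group C] [Finite C] {t : C} {e : C →* Perm (Fin 4)}

theorem eq_or_eq_of_ker (ht : orderOf t = 2) (hk : e.ker = zpowers t) {c : C} (h : e c = 1) :
    c = 1 ∨ c = t := by
  have hc : c ∈ zpowers t := hk ▸ h
  classical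
  rw [mem_zpowers_iff_mem_range_orderOf, ht] at hc
  obtain ⟨i, hi, rfl⟩ := Finset.mem_image.1 hc
  rcases show i = 0 ∨ i = 1 by simp at hi; omega with rfl | rfl
  · exact Or.inl (pow_zero t)
  · exact Or.inr (pow_one t)

theorem map_t (hk : e.ker = zpowers t) : e t = 1 := by
  have h : t ∈ e.ker := hk.symm ▸ mem_zpowers t
  exact h

theorem card_eq (ht : orderOf t = 2) (he : Function.Surjective e) (hk : e.ker = zpowers t) :
    Nat.card C = 48 := by
  rw [← e.ker.card_mul_index, index_ker, MonoidHom.range_eq_top.2 he, Subgroup.card_top,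
    Nat.card_perm, Nat.card_fin, hk, Nat.card_zpowers, ht]
  rfl

theorem ne_one_of_three (ht : orderOf t = 2) (hk : e.ker = zpowers t) {x : C}
    (hx : orderOf x = 3) : e x ≠ 1 := fun h => by
  rcases eq_or_eq_of_ker ht hk h with rfl | rfl
  · simp at hx
  · omega

/-- An involution commuting with an element of order three is central. -/
theorem invol_eq_of_commute (ht : orderOf t = 2) (hk : e.ker = zpowers t) {x u : C}
    (hx : orderOf x = 3) (hu : u * u = 1) (hc : u * x = x * u) : u = 1 ∨ u = t :=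
  eq_or_eq_of_ker ht hk <| commute_three (e u) (e x) (by rw [← map_mul, hu, map_one])
    (by rw [← map_pow, ← hx, pow_orderOf_eq_one, map_one]) (ne_one_of_three ht hk hx)
    (by rw [← map_mul, hc, map_mul])

/-- An element of order three is inverted. -/
theorem exists_inverter (ht : orderOf t = 2) (hz : t ∈ center C) (he : Function.Surjective e)
    (hk : e.ker = zpowers t) {x : C} (hx : orderOf x = 3) : ∃ s, s * x * s⁻¹ = x⁻¹ := by
  obtain ⟨π, hπ⟩ := exists_inv_three (e x) (by rw [← map_pow, ← hx, pow_orderOf_eq_one, map_one])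
  obtain ⟨s, rfl⟩ := he π
  refine ⟨s, ?_⟩
  rcases eq_or_eq_of_ker ht hk (c := s * x * s⁻¹ * x)
    (by simp only [map_mul, map_inv]; rw [hπ, inv_mul_cancel]) with h | h
  · exact eq_inv_of_mul_eq_one_left h
  · exfalso
    have h2 : s * x * s⁻¹ = t * x⁻¹ := eq_mul_inv_of_mul_eq h
    have h3 : (s * x * s⁻¹) ^ 3 = 1 := by
      rw [conj_pow, ← hx, pow_orderOf_eq_one, mul_one, mul_inv_cancel]
    rw [h2, Commute.mul_pow (mem_center_iff.1 hz x⁻¹).symm, inv_pow, ← hx,
      pow_orderOf_eq_one, inv_one, mul_one, hx, pow_succ, ← ht, pow_orderOf_eq_one, one_mul] at h3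
    rw [h3, orderOf_one] at ht
    omega

theorem nonempty_gl23 (t : C) (ht : orderOf t = 2) (hz : t ∈ center C)
    (e : C →* Perm (Fin 4)) (he : Function.Surjective e) (hk : e.ker = zpowers t)
    (h2 : Cfsg.PRankLE 2 2 C) (hs : ∃ s, orderOf s = 2 ∧ s ≠ t) :
    Nonempty (C ≃* GL (Fin 2) (ZMod 3)) := by
  classical
  haveI : Fact (Nat.Prime 2) := ⟨Nat.prime_two⟩
  haveI : Fact (Nat.Prime 3) := ⟨Nat.prime_three⟩
  have htt : t * t = 1 := by rw [← sq, ← ht, pow_orderOf_eq_one]
  have ht1 : t ≠ 1 := fun h => by rw [h, orderOf_one] at ht; omega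
  have htc : ∀ c, c * t = t * c := mem_center_iff.1 hz
  have hC := card_eq ht he hk
  let R : Subgroup C := four.comap e
  have hmemR : ∀ c, c ∈ R ↔ InV (e c) := fun c => Iff.rfl
  have htR : t ∈ R := (hmemR t).2 (by rw [map_t hk]; exact inV_one)
  have hR8 : Nat.card R = 8 := by
    have h1 : R.index = 6 := by
      rw [index_comap_of_surjective _ he]
      have := four.card_mul_index
      rw [card_four, Nat.card_eq_fintype_card, Fintype.card_perm, Fintype.card_fin,
        show Nat.factorial 4 = 24 from rfl] at this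
      omega
    have := R.card_mul_index
    rw [h1, hC] at this
    omega
  obtain ⟨x, hx⟩ := exists_prime_orderOf_dvd_card' (G := C) 3 (hC ▸ by norm_num)
  -- no involution of `R` outside the kernel
  have hinv : ∀ r ∈ R, r * r = 1 → r = 1 ∨ r = t := by
    intro r hr hr2
    refine eq_or_eq_of_ker ht hk (by_contra fun hne => ?_)
    have hsq : ∀ s ∈ R, s * s = 1 := by
      intro s hs
      by_cases hs1 : e s = 1
      · rcases eq_or_eq_of_ker ht hk hs1 with rfl | rfl
        · exact one_mul 1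
        · exact htt
      obtain ⟨w, hw2, hw⟩ : ∃ w : C, w * w = 1 ∧ e w = e s := by
        rcases four_orbit (e r) (e x) (e s) hr hne
          (by rw [← map_pow, ← hx, pow_orderOf_eq_one, map_one]) (ne_one_of_three ht hk hx) hs hs1
          with h | h | h
        · exact ⟨r, hr2, h.symm⟩
        · refine ⟨x * r * x⁻¹, ?_, by rw [h]; simp⟩
          rw [show x * r * x⁻¹ * (x * r * x⁻¹) = x * (r * r) * x⁻¹ by group, hr2, mul_one,
            mul_inv_cancel]
        · refine ⟨x * (x * r * x⁻¹) * x⁻¹, ?_, by rw [h]; simp⟩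
          rw [show x * (x * r * x⁻¹) * x⁻¹ * (x * (x * r * x⁻¹) * x⁻¹) =
            x * (x * (r * r) * x⁻¹) * x⁻¹ by group, hr2, mul_one, mul_inv_cancel, mul_one,
            mul_inv_cancel]
      rcases eq_or_eq_of_ker ht hk (c := w⁻¹ * s) (by rw [map_mul, map_inv, hw, inv_mul_cancel])
        with h | h
      · rw [← inv_mul_eq_one.1 h, hw2]
      · rw [inv_mul_eq_iff_eq_mul.1 h,
          show w * t * (w * t) = w * (t * w) * t by group, ← htc w,
          show w * (w * t) * t = w * w * (t * t) by group, hw2, htt, one_mul]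
    have hcomm : IsMulCommutative R := ⟨⟨fun a b => by
      have key : ∀ c : R, c⁻¹ = c := fun c =>
        inv_eq_of_mul_eq_one_right (Subtype.ext (hsq c c.2))
      calc a * b = (a * b)⁻¹ := (key _).symm
        _ = b⁻¹ * a⁻¹ := _root_.mul_inv_rev a b
        _ = b * a := by rw [key, key]⟩⟩
    have := h2 R hcomm fun a ha => by rw [sq]; exact hsq a ha
    omega
  -- `R` is quaternion
  have hsqt : ∀ a ∈ R, e a ≠ 1 → a * a = t := fun a ha hne => by
    refine (eq_or_eq_of_ker ht hk (by rw [map_mul]; exact ((hmemR a).1 ha).1)).resolve_left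
      fun h => hne ?_
    rcases hinv a ha h with rfl | rfl
    · exact map_one e
    · exact map_t hk
  obtain ⟨a, haR, hae⟩ : ∃ a ∈ R, e a ≠ 1 := by
    by_contra! hall
    have hle : R ≤ zpowers t := fun r hr => hk ▸ hall r hr
    have := Subgroup.card_le_of_le hle
    rw [Nat.card_zpowers, ht, hR8] at this
    omega
  have ha4 : orderOf a = 4 := by
    have h1 : a ^ 4 = 1 := by rw [show 4 = 2 * 2 from rfl, pow_mul, sq a, hsqt a haR hae, sq, htt]
    exact orderOf_eq_prime_pow (p := 2) (n := 1)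
      (by rw [pow_one, sq, hsqt a haR hae]; exact ht1) (by norm_num; exact h1)
  obtain ⟨b, hbR, hbA⟩ : ∃ b ∈ R, b ∉ zpowers a := by
    by_contra! hall
    have := Subgroup.card_le_of_le (show R ≤ zpowers a from hall)
    rw [Nat.card_zpowers, ha4, hR8] at this
    omega
  have htA : t ∈ zpowers a := hsqt a haR hae ▸ mul_mem (mem_zpowers a) (mem_zpowers a)
  have hbe : e b ≠ 1 := fun h => by
    rcases eq_or_eq_of_ker ht hk h with rfl | rfl
    · exact hbA (one_mem _)
    · exact hbA htA
  have hab : e (a * b) ≠ 1 := fun h => by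
    rcases eq_or_eq_of_ker ht hk h with h | h
    · exact hbA ((eq_inv_of_mul_eq_one_right h) ▸ inv_mem (mem_zpowers a))
    · exact hbA ((eq_inv_mul_of_mul_eq h) ▸ mul_mem (inv_mem (mem_zpowers a)) htA)
  have hba : b * a * b⁻¹ = a⁻¹ := by
    have h1 : a * b * (a * b) = t := hsqt _ (mul_mem haR hbR) hab
    have hainv : a⁻¹ * t = a := by rw [← hsqt a haR hae, inv_mul_cancel_left]
    have h3 : b * a * b = a := by
      calc b * a * b = a⁻¹ * (a * b * (a * b)) := by group
        _ = a := by rw [h1, hainv]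
    have hbt : b⁻¹ * b⁻¹ = t := by
      rw [← _root_.mul_inv_rev, hsqt b hbR hbe]
      exact inv_eq_of_mul_eq_one_right htt
    calc b * a * b⁻¹ = b * a * b * (b⁻¹ * b⁻¹) := by group
      _ = a * t := by rw [h3, hbt]
      _ = a⁻¹ := eq_inv_of_mul_eq_one_left (by
          rw [mul_assoc, ← htc a, ← mul_assoc, hsqt a haR hae, htt])
  obtain ⟨eQ⟩ := CfsgLib.TwoGroups.nonempty_equiv_quaternion (H := R) (m := 2) haR hbR ha4
    (by rw [hsqt b hbR hbe, sq, hsqt a haR hae]) hba hbA hR8
  haveI : R.Normal := Subgroup.Normal.comap four_normal e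
  have hCR : centralizer (R : Set C) ≤ R := fun c hc => (hmemR c).2 <|
    four_centralizer (e c) fun σ hσ => by
      obtain ⟨r, rfl⟩ := he σ
      rw [← map_mul, ← map_mul, mem_centralizer_iff.1 hc r hσ]
  have hcore : ∀ N : Subgroup C, N.Normal → IsPGroup 2 N → N ≤ R := by
    intro N hN hN2 c hc
    refine (hmemR c).2 (by_contra fun hne => ?_)
    obtain ⟨ρ, h3, h1⟩ := exists_three_product (e c) hne
    obtain ⟨r, rfl⟩ := he ρ
    set w := c * (r * c * r⁻¹) with hw
    obtain ⟨k, hk2⟩ := hN2 ⟨w, mul_mem hc (hN.conj_mem c hc r)⟩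
    have hd : orderOf (e w) ∣ 2 ^ k := orderOf_dvd_of_pow_eq_one (by
      rw [← map_pow, show w ^ 2 ^ k = 1 from congrArg Subtype.val hk2, map_one])
    have hw' : e w = e c * (e r * e c * (e r)⁻¹) := by simp [hw]
    rw [hw', orderOf_eq_prime h3 h1] at hd
    have := Nat.prime_three.dvd_of_dvd_pow hd
    omega
  have hncl : ¬ ∃ P : Sylow 2 C, (P : Subgroup C).Normal := by
    rintro ⟨P, hP⟩
    have := Subgroup.card_le_of_le (hcore P hP P.isPGroup')
    rw [hR8, P.card_eq_multiplicity, hC, show (48 : ℕ) = 2 ^ 4 * 3 by norm_num,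
      Nat.factorization_mul (by norm_num) (by norm_num), Nat.factorization_pow,
      Finsupp.coe_add, Pi.add_apply, Finsupp.smul_apply, Nat.prime_two.factorization_self,
      Nat.prime_three.factorization, Finsupp.single_eq_of_ne (by norm_num)] at this
    norm_num at this
  rcases Cfsg.Agent.S3304.structure_q8 R hcore hCR eQ hncl with h | ⟨-, -, -, hQ16⟩
  · exact h
  exfalso
  obtain ⟨s, hs, hst⟩ := hs
  have hss : s * s = 1 := by rw [← sq, ← hs, pow_orderOf_eq_one]
  obtain ⟨P, hP⟩ := ((IsPGroup.of_card (n := 1) (by rw [Nat.card_zpowers, hs, pow_one]) :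
    IsPGroup 2 (zpowers s))).exists_le_sylow
  have hsP : s ∈ (P : Subgroup C) := hP (mem_zpowers s)
  have htP : t ∈ (P : Subgroup C) := by
    haveI : (zpowers t).Normal := hk ▸ inferInstance
    have h2t : IsPGroup 2 (zpowers t) := IsPGroup.of_card (n := 1) (by
      rw [Nat.card_zpowers, ht, pow_one])
    exact (P.3 (P.isPGroup'.to_sup_of_normal_right h2t) le_sup_left).le
      ((le_sup_right : zpowers t ≤ _) (mem_zpowers t))
  obtain ⟨f⟩ := hQ16 P
  rcases q16_invol (f ⟨s, hsP⟩) (f ⟨t, htP⟩)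
    (by rw [← map_mul, EmbeddingLike.map_eq_one_iff]; exact Subtype.ext hss)
    (by rw [← map_mul, EmbeddingLike.map_eq_one_iff]; exact Subtype.ext htt) with h | h | h
  · have h' : s = 1 := congrArg Subtype.val (EmbeddingLike.map_eq_one_iff.1 h)
    rw [h', orderOf_one] at hs; omega
  · exact ht1 (congrArg Subtype.val (EmbeddingLike.map_eq_one_iff.1 h))
  · exact hst (congrArg Subtype.val (f.injective h))

end CfsgLib.PGLThree.Octahedral
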