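import Cfsg.Agent.PGLThree.AxisRep
import Cfsg.Agent.PGLThree.Octahedral
import Cfsg.Agent.PGLThree.Involution
import Cfsg.Agent.PGLThree.Friendship
import Cfsg.Agent.TwoGroups.NoIndexTwoSimple
import Cfsg.Agent.DicksonPSL2.CoprimeCase
import Cfsg.Agent.DicksonPSL2.PGLStructure
import Cfsg.Agent.S0197
import Cfsg.Agent.S0204
import Cfsg.Agent.S0516
import Cfsg.Agent.S1248
import Mathlib.FieldTheory.Finite.GaloisField

/-!
# Without transvections the Sylow 2-subgroup is dihedral

The simple quotient has 2-rank at most two. Wreathed Sylow subgroups give an element acting as a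
scalar of order four on an axis, the quasi-dihedral ones an involution centraliser `GL(2, 3)` in
which an element of order three has too small a centraliser for the order of the group.
-/

set_option autoImplicit false
set_option linter.unusedSectionVars false

namespace CfsgLib.PGLThree

open Matrix Cfsg.Geo CfsgLib.Aschbacher CfsgLib.SLThree
open scoped MatrixGroups

variable {F : Type*} [Field F] {P : Subgroup (GL (Fin 3) F)}

/-- On the axis of an involution only sixth roots of unity occur as scalars. -/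
def SixScalar (P : Subgroup (GL (Fin 3) F)) : Prop :=
  ∀ (u : P) (A : Axis u) (g : Subgroup.centralizer ({u} : Set P)) (μ : F),
    A.res g = μ • 1 → μ ^ 6 = 1

theorem two_ne_zero_of_noFlag [Finite F] (hc : Core P) (hM : NoFlag P) : (2 : F) ≠ 0 := by
  intro h2
  haveI := hc.simple
  have hncyc : ¬ IsCyclic (P ⧸ Z P) := fun h => hc.nonabelian
    (letI := h.commGroup; ⟨⟨mul_comm⟩⟩)
  obtain ⟨E, hE⟩ := Cfsg.Agent.S0204.result hncyc
  haveI : Fact (Nat.Prime 2) := ⟨Nat.prime_two⟩
  obtain ⟨a, ha⟩ := exists_prime_orderOf_dvd_card' (G := E) 2 (by rw [hE.card_four]; norm_num)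
  obtain ⟨u, hu, -⟩ := hc.exists_involution_lift (s := (a : P ⧸ Z P))
    (by rw [Subgroup.orderOf_coe, ha])
  obtain ⟨v, b, h, -⟩ := exists_flag_of_sq h2 u.2
    (congrArg Subtype.val (by rw [← sq, ← hu, pow_orderOf_eq_one] : u * u = 1))
    (fun h => by rw [show u = 1 from Subtype.ext h, orderOf_one] at hu; omega)
  exact hM v b h

theorem pRankLE_two [Finite F] (hc : Core P) (h2 : (2 : F) ≠ 0) :
    Cfsg.PRankLE 2 2 (P ⧸ Z P) := by
  intro A hA hexp
  by_contra hcard
  haveI := hA
  haveI : Fintype A := Fintype.ofFinite A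
  classical
  have hle : Fintype.card (Fin 4) ≤ Fintype.card {a : A // a ≠ 1} := by
    rw [Fintype.card_fin, Fintype.card_subtype_compl, Fintype.card_subtype_eq]
    rw [Nat.card_eq_fintype_card] at hcard
    omega
  obtain ⟨ι⟩ := Function.Embedding.nonempty_of_card_le hle
  have hord : ∀ i, orderOf (((ι i).1 : A) : P ⧸ Z P) = 2 := fun i =>
    orderOf_eq_prime (hexp _ (ι i).1.2) fun h => (ι i).2 (Subtype.ext h)
  choose w hw hwp using fun i => hc.exists_involution_lift (hord i)
  have := card_le_three hc h2 (w := w) hw (fun i j h => ι.injective (Subtype.ext (Subtype.ext (by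
    rw [← hwp i, ← hwp j, h])))) fun i j => by
      refine hc.commute_of_proj (by rw [← sq, ← hw j, pow_orderOf_eq_one]) ?_
      rw [hwp, hwp]
      exact congrArg Subtype.val (hA.is_comm.comm (ι i).1 (ι j).1)
  omega

/-- Elements commuting modulo scalars commute, if one has two-power order there. -/
theorem commute_of_proj_two (hc : Core P) {g h : P} {k : ℕ} (hk : proj P g ^ 2 ^ k = 1)
    (hcomm : proj P g * proj P h = proj P h * proj P g) : g * h = h * g := by
  set c := h * g * h⁻¹ * g⁻¹ with hcdef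
  have hcZ : c ∈ Z P := proj_eq_one_iff.1 (by
    rw [hcdef, map_mul, map_mul, map_mul, map_inv, map_inv, ← hcomm, mul_inv_cancel_right,
      mul_inv_cancel])
  have hgZ : g ^ 2 ^ k ∈ Z P := proj_eq_one_iff.1 (by rw [map_pow, hk])
  have e : h * g * h⁻¹ = c * g := by rw [hcdef, inv_mul_cancel_right]
  have h1 : c ^ 2 ^ k = 1 := by
    have e2 : (h * g * h⁻¹) ^ 2 ^ k = (c * g) ^ 2 ^ k := by rw [e]
    have hl : (h * g * h⁻¹) ^ 2 ^ k = g ^ 2 ^ k := by
      rw [conj_pow, ← comm_of_mem_Z hgZ h, mul_inv_cancel_right]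
    rw [hl, Commute.mul_pow (comm_of_mem_Z hcZ g)] at e2
    exact (mul_eq_right (b := g ^ 2 ^ k)).1 e2.symm
  have h3 : orderOf c ∣ Nat.gcd (2 ^ k) 3 := Nat.dvd_gcd (orderOf_dvd_of_pow_eq_one h1)
    (orderOf_dvd_of_pow_eq_one (hc.pow_three hcZ))
  rw [(Nat.Coprime.pow_left k (by norm_num : Nat.Coprime 2 3)).gcd_eq_one, Nat.dvd_one,
    orderOf_eq_one_iff] at h3
  rw [h3, one_mul] at e
  calc g * h = h * g * h⁻¹ * h := by rw [e]
    _ = h * g := inv_mul_cancel_right _ _

theorem two_pow_of_mem {G : Type*} [Group G] {T : Subgroup G} (hT : IsPGroup 2 T) {s : G}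
    (hs : s ∈ T) : ∃ k : ℕ, s ^ 2 ^ k = 1 := by
  obtain ⟨k, hk⟩ := hT ⟨s, hs⟩
  exact ⟨k, congrArg Subtype.val hk⟩

/-- No Sylow 2-subgroup of `U₃(4)` type. -/
theorem no_center_four [Finite F] (hc : Core P) (h2 : (2 : F) ≠ 0) (T : Sylow 2 (P ⧸ Z P))
    (h4 : IsKleinFour (Subgroup.center (T : Subgroup (P ⧸ Z P))))
    (hnc : ¬ IsMulCommutative (T : Subgroup (P ⧸ Z P))) : False := by
  classical
  haveI : Fintype (Subgroup.center (T : Subgroup (P ⧸ Z P))) := Fintype.ofFinite _
  set C4 := Subgroup.center (T : Subgroup (P ⧸ Z P))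
  have hle : Fintype.card (Fin 3) ≤ Fintype.card {a : C4 // a ≠ 1} := by
    rw [Fintype.card_fin, Fintype.card_subtype_compl, Fintype.card_subtype_eq,
      ← Nat.card_eq_fintype_card, h4.card_four]
  obtain ⟨ι⟩ := Function.Embedding.nonempty_of_card_le hle
  have hord : ∀ i, orderOf (((ι i).1 : (T : Subgroup (P ⧸ Z P))) : P ⧸ Z P) = 2 := fun i => by
    rw [Subgroup.orderOf_coe, Subgroup.orderOf_coe]
    refine orderOf_eq_prime ?_ (ι i).2
    have h := Monoid.pow_exponent_eq_one (ι i).1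
    rwa [h4.exponent_two] at h
  choose w hw hwp using fun i => hc.exists_involution_lift (hord i)
  have hcen : ∀ i, ∀ y : (T : Subgroup (P ⧸ Z P)),
      (y : P ⧸ Z P) * proj P (w i) = proj P (w i) * y := fun i y => by
    rw [hwp]
    exact congrArg Subtype.val (Subgroup.mem_center_iff.1 (ι i).1.2 y)
  have hwc : ∀ (i : Fin 3) (g : P), proj P g ∈ (T : Subgroup (P ⧸ Z P)) → g * w i = w i * g :=
    fun i g hg => hc.commute_of_proj (by rw [← sq, ← hw i, pow_orderOf_eq_one]) (hcen i ⟨_, hg⟩)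
  refine hnc ⟨⟨fun a b => Subtype.ext ?_⟩⟩
  obtain ⟨g, hg⟩ := QuotientGroup.mk'_surjective (Z P) (a : P ⧸ Z P)
  obtain ⟨h, hh⟩ := QuotientGroup.mk'_surjective (Z P) (b : P ⧸ Z P)
  have := commute_of_three hc h2 (w := w) hw
    (fun i j h => ι.injective (Subtype.ext (Subtype.ext (Subtype.ext (by rw [← hwp i, ← hwp j, h])))))
    (fun i j => hwc j (w i) (by rw [hwp]; exact ((ι i).1 : (T : Subgroup (P ⧸ Z P))).2))
    (g := g) (h := h) (fun i => hwc i g (by rw [hg]; exact a.2))
    (fun i => hwc i h (by rw [hh]; exact b.2))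
  rw [Subgroup.coe_mul, Subgroup.coe_mul, ← hg, ← hh, ← map_mul, ← map_mul, this]

theorem no_index_two [Finite F] (hc : Core P) (H : Subgroup (P ⧸ Z P)) : H.index ≠ 2 := by
  intro h
  haveI := hc.simple
  haveI := Subgroup.normal_of_index_eq_two h
  rcases (inferInstance : H.Normal).eq_bot_or_eq_top with rfl | rfl
  · rw [Subgroup.index_bot] at h
    haveI : Fact (Nat.Prime 2) := ⟨Nat.prime_two⟩
    haveI := isCyclic_of_prime_card h
    exact hc.nonabelian (letI := IsCyclic.commGroup (α := P ⧸ Z P); ⟨⟨mul_comm⟩⟩)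
  · rw [Subgroup.index_top] at h; omega

/-- One class of involutions in the quotient gives one class in the group. -/
theorem isConj_of_proj (hc : Core P)
    (h : ∀ a b : P ⧸ Z P, orderOf a = 2 → orderOf b = 2 → IsConj a b) (s t : P)
    (hs : orderOf s = 2) (ht : orderOf t = 2) : IsConj s t := by
  have sq_one : ∀ {x : P}, orderOf x = 2 → x * x = 1 := fun hx => by
    rw [← sq, ← hx, pow_orderOf_eq_one]
  have hp : ∀ {x : P}, orderOf x = 2 → orderOf (proj P x) = 2 := fun {x} hx => by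
    refine orderOf_eq_prime (by rw [sq, ← map_mul, sq_one hx, map_one]) fun he => ?_
    have h3 := hc.pow_three (proj_eq_one_iff.1 he)
    have := orderOf_dvd_of_pow_eq_one h3
    rw [hx] at this
    omega
  obtain ⟨c, hcc⟩ := isConj_iff.1 (h _ _ (hp hs) (hp ht))
  obtain ⟨k, rfl⟩ := QuotientGroup.mk'_surjective (Z P) c
  refine isConj_iff.2 ⟨k, ?_⟩
  obtain ⟨w, -, huniq⟩ := hc.exists_sq_lift (g := t) (by rw [sq_one ht]; exact one_mem _)
  refine (huniq _ ⟨?_, by rw [← hcc, map_mul, map_mul, map_inv]⟩).trans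
    (huniq t ⟨sq_one ht, rfl⟩).symm
  rw [show k * s * k⁻¹ * (k * s * k⁻¹) = k * (s * s) * k⁻¹ by group, sq_one hs, mul_one,
    mul_inv_cancel]

/-- Matrices commuting with a non-scalar matrix of size two commute. -/
theorem scalar_of_commute_two {A B C : Matrix (Fin 2) (Fin 2) F} (hB : A * B = B * A)
    (hC : A * C = C * A) (hBC : B * C ≠ C * B) : A = A 0 0 • 1 := by
  have b00 := congrFun (congrFun hB 0) 0
  have b01 := congrFun (congrFun hB 0) 1
  have b10 := congrFun (congrFun hB 1) 0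
  have c00 := congrFun (congrFun hC 0) 0
  have c01 := congrFun (congrFun hC 0) 1
  have c10 := congrFun (congrFun hC 1) 0
  simp only [Matrix.mul_apply, Fin.sum_univ_two] at b00 b01 b10 c00 c01 c10
  by_contra hne
  apply hBC
  -- the three minors
  have e1 : B 0 1 * C 1 0 = B 1 0 * C 0 1 := by
    by_cases hx : A 0 1 = 0
    · by_cases hy : A 1 0 = 0
      · have hz : A 0 0 - A 1 1 ≠ 0 := fun e => hne (by
          ext i j; fin_cases i <;> fin_cases j <;>
            first | (simp [hx, hy]; done) | (simp; linear_combination -e))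
        have k1 : B 0 1 = 0 := (mul_eq_zero.1 (show (A 0 0 - A 1 1) * B 0 1 = 0 by
          linear_combination b01 + (B 0 0 - B 1 1) * hx)).resolve_left hz
        have k2 : C 0 1 = 0 := (mul_eq_zero.1 (show (A 0 0 - A 1 1) * C 0 1 = 0 by
          linear_combination c01 + (C 0 0 - C 1 1) * hx)).resolve_left hz
        rw [k1, k2, zero_mul, mul_zero]
      · refine mul_left_cancel₀ hy ?_
        linear_combination (-C 1 0) * b00 + B 1 0 * c00
    · refine mul_left_cancel₀ hx ?_
      linear_combination B 0 1 * c00 - C 0 1 * b00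
  have e2 : B 0 1 * (C 1 1 - C 0 0) = C 0 1 * (B 1 1 - B 0 0) := by
    by_cases hx : A 0 1 = 0
    · by_cases hz : A 0 0 - A 1 1 = 0
      · have hy : A 1 0 ≠ 0 := fun e => hne (by
          ext i j; fin_cases i <;> fin_cases j <;>
            first | (simp [hx, e]; done) | (simp; linear_combination -hz))
        have k1 : B 0 1 = 0 := (mul_eq_zero.1 (show A 1 0 * B 0 1 = 0 by
          linear_combination -b00 + B 1 0 * hx)).resolve_left hy
        have k2 : C 0 1 = 0 := (mul_eq_zero.1 (show A 1 0 * C 0 1 = 0 by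
          linear_combination -c00 + C 1 0 * hx)).resolve_left hy
        rw [k1, k2, zero_mul, zero_mul]
      · have k1 : B 0 1 = 0 := (mul_eq_zero.1 (show (A 0 0 - A 1 1) * B 0 1 = 0 by
          linear_combination b01 + (B 0 0 - B 1 1) * hx)).resolve_left hz
        have k2 : C 0 1 = 0 := (mul_eq_zero.1 (show (A 0 0 - A 1 1) * C 0 1 = 0 by
          linear_combination c01 + (C 0 0 - C 1 1) * hx)).resolve_left hz
        rw [k1, k2, zero_mul, zero_mul]
    · refine mul_left_cancel₀ hx ?_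
      linear_combination B 0 1 * c01 - C 0 1 * b01
  have e3 : B 1 0 * (C 1 1 - C 0 0) = C 1 0 * (B 1 1 - B 0 0) := by
    by_cases hy : A 1 0 = 0
    · by_cases hz : A 0 0 - A 1 1 = 0
      · have hx : A 0 1 ≠ 0 := fun e => hne (by
          ext i j; fin_cases i <;> fin_cases j <;>
            first | (simp [hy, e]; done) | (simp; linear_combination -hz))
        have k1 : B 1 0 = 0 := (mul_eq_zero.1 (show A 0 1 * B 1 0 = 0 by
          linear_combination b00 + B 0 1 * hy)).resolve_left hx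
        have k2 : C 1 0 = 0 := (mul_eq_zero.1 (show A 0 1 * C 1 0 = 0 by
          linear_combination c00 + C 0 1 * hy)).resolve_left hx
        rw [k1, k2, zero_mul, zero_mul]
      · have k1 : B 1 0 = 0 := (mul_eq_zero.1 (show (A 0 0 - A 1 1) * B 1 0 = 0 by
          linear_combination -b10 + (B 0 0 - B 1 1) * hy)).resolve_left hz
        have k2 : C 1 0 = 0 := (mul_eq_zero.1 (show (A 0 0 - A 1 1) * C 1 0 = 0 by
          linear_combination -c10 + (C 0 0 - C 1 1) * hy)).resolve_left hz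
        rw [k1, k2, zero_mul, zero_mul]
    · refine mul_left_cancel₀ hy ?_
      linear_combination C 1 0 * b10 - B 1 0 * c10
  ext i j
  fin_cases i <;> fin_cases j <;> simp [Matrix.mul_apply, Fin.sum_univ_two]
  · linear_combination e1
  · linear_combination e2
  · linear_combination -e3
  · linear_combination -e1

/-- An element in the centre of a non-abelian 2-subgroup whose square is an involution. -/
theorem no_four_center [Finite F] (hc : Core P) (h2 : (2 : F) ≠ 0) (hsix : SixScalar P)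
    (T : Subgroup (P ⧸ Z P)) (hT : IsPGroup 2 T) (hnc : ¬ IsMulCommutative T) {z : P ⧸ Z P}
    (hzT : z ∈ T) (hzc : ∀ y ∈ T, y * z = z * y) (hz : orderOf (z * z) = 2) : False := by
  obtain ⟨u, hu, hup⟩ := hc.exists_involution_lift hz
  obtain ⟨A⟩ := hc.nonempty_axis h2 hu
  obtain ⟨g, hg⟩ := QuotientGroup.mk'_surjective (Z P) z
  have hmem : ∀ y ∈ T, ∀ a : P, proj P a = y → a ∈ Subgroup.centralizer ({u} : Set P) := by
    intro y hy a ha
    refine Subgroup.mem_centralizer_singleton_iff.2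
      (hc.commute_of_proj (by rw [← sq, ← hu, pow_orderOf_eq_one]) ?_)
    rw [ha, hup, ← mul_assoc, hzc y hy, mul_assoc, hzc y hy, mul_assoc]
  obtain ⟨a, ha, b, hb, hab⟩ : ∃ a ∈ T, ∃ b ∈ T, a * b ≠ b * a := by
    by_contra! hall
    exact hnc ⟨⟨fun a b => Subtype.ext (hall a a.2 b b.2)⟩⟩
  obtain ⟨a', rfl⟩ := QuotientGroup.mk'_surjective (Z P) a
  obtain ⟨b', rfl⟩ := QuotientGroup.mk'_surjective (Z P) b
  obtain ⟨k, hk⟩ := two_pow_of_mem hT hzT
  have hga : g * a' = a' * g :=
    commute_of_proj_two hc (k := k) (by rw [hg, hk]) (by rw [hg]; exact (hzc _ ha).symm)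
  have hgb : g * b' = b' * g :=
    commute_of_proj_two hc (k := k) (by rw [hg, hk]) (by rw [hg]; exact (hzc _ hb).symm)
  have hab' : a' * b' ≠ b' * a' := fun h => hab (by rw [← map_mul, h, map_mul])
  let G : Subgroup.centralizer ({u} : Set P) := ⟨g, hmem z hzT g hg⟩
  let A' : Subgroup.centralizer ({u} : Set P) := ⟨a', hmem _ ha a' rfl⟩
  let B' : Subgroup.centralizer ({u} : Set P) := ⟨b', hmem _ hb b' rfl⟩
  have hsc := scalar_of_commute_two (A := (A.rho G : Matrix (Fin 2) (Fin 2) F))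
    (B := (A.rho A' : Matrix (Fin 2) (Fin 2) F)) (C := (A.rho B' : Matrix (Fin 2) (Fin 2) F))
    (by rw [← Units.val_mul, ← Units.val_mul, ← map_mul, ← map_mul,
      show G * A' = A' * G from Subtype.ext hga])
    (by rw [← Units.val_mul, ← Units.val_mul, ← map_mul, ← map_mul,
      show G * B' = B' * G from Subtype.ext hgb])
    (fun h => hab' (by
      rw [← Units.val_mul, ← Units.val_mul, ← map_mul, ← map_mul] at h
      exact congrArg Subtype.val (A.rho_injective hc (Units.ext h))))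
  set μ := (A.rho G : Matrix (Fin 2) (Fin 2) F) 0 0
  have hres := A.res_eq_smul hsc
  have h6 := hsix u A G μ hres
  have hzZ : u * (g * g) ∈ Z P := proj_eq_one_iff.1 (by
    rw [map_mul, map_mul, hup, hg, ← sq, ← hz, pow_orderOf_eq_one])
  obtain ⟨c, hcz⟩ := mem_Z_iff.1 hzZ
  have hc3 := hc.scalar_pow (u * (g * g)).2 hcz
  obtain ⟨x, hx, hfx⟩ := exists_ne_zero_dot A.f
  have hgx : ∀ y, A.f ⬝ᵥ y = 0 → mat (g : GL (Fin 3) F) *ᵥ y = μ • y := fun y hy => by
    have h := A.res_apply G ⟨y, hy⟩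
    rw [hres] at h
    exact h.symm
  have h := congrArg (· *ᵥ x) hcz
  simp only [mat_coe_mul, ← mulVec_mulVec, hgx x hfx, mulVec_smul, smul_mulVec, one_mulVec,
    A.mulVec_u, hfx, dotProduct_smul, smul_eq_mul, mul_zero, zero_smul, add_zero, smul_neg, smul_smul, ← neg_smul] at h
  have hμc : -(μ * μ) = c := smul_left_injective F hx h
  apply h2
  linear_combination -h6 - hc3 + (c ^ 2 + c * (-(μ * μ)) + (μ * μ) ^ 2) * (-hμc)

section PSL

variable [Fintype F] {p : ℕ} [Fact p.Prime] [CharP F p]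

/-- The centraliser of an involution of the quotient, modulo the involution, in `PSL₂`. -/
theorem exists_psl_hom (hc : Core P) (h2 : (2 : F) ≠ 0) (hM : NoFlag P) (hsix : SixScalar P)
    {u : P} (A : Axis u) (hu : u * u = 1) :
    ∃ (E : Type) (_ : Field E) (_ : Fintype E) (_ : CharP E p)
      (θ : Subgroup.centralizer ({proj P u} : Set (P ⧸ Z P)) →* PSL(2, E)),
      (∀ c, θ c = 1 ↔ (c : P ⧸ Z P) ∈ Subgroup.zpowers (proj P u)) ∧
      ¬ p ∣ Nat.card θ.range := by
  have hodd : Odd (Fintype.card F) := Nat.odd_iff.2 (FiniteField.odd_card_of_char_ne_two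
    fun h => h2 (by
      rw [ringChar.eq F p] at h
      have h' := CharP.cast_eq_zero F p
      rw [h] at h'
      exact_mod_cast h'))
  obtain ⟨E, iF, iT, iC, -, Φ, hΦ, -, -, -, -⟩ :=
    DicksonPSL2.exists_embedding (p := p) (F := F) hodd
  refine ⟨E, iF, iT, iC, ?_⟩
  let π : Subgroup.centralizer ({u} : Set P) →*
      Subgroup.centralizer ({proj P u} : Set (P ⧸ Z P)) :=
    ((proj P).comp (Subgroup.centralizer ({u} : Set P)).subtype).codRestrict _ fun g =>
      Subgroup.mem_centralizer_singleton_iff.2 (by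
        rw [MonoidHom.comp_apply, ← map_mul, ← map_mul]
        exact congrArg _ (Subgroup.mem_centralizer_singleton_iff.1 g.2))
  have hπ : Function.Surjective π := fun c => by
    obtain ⟨g, hg⟩ := QuotientGroup.mk'_surjective (Z P) (c : P ⧸ Z P)
    refine ⟨⟨g, Subgroup.mem_centralizer_singleton_iff.2 (hc.commute_of_proj hu ?_)⟩,
      Subtype.ext hg⟩
    rw [hg]
    exact Subgroup.mem_centralizer_singleton_iff.1 c.2
  let θ0 : Subgroup.centralizer ({u} : Set P) →* PSL(2, E) :=
    (Φ.comp Matrix.ProjGenLinGroup.mk).comp A.rho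
  have h0 : ∀ g, θ0 g = 1 ↔ A.rho g ∈ Subgroup.center (GL (Fin 2) F) := fun g => by
    show Φ _ = 1 ↔ _
    rw [map_eq_one_iff Φ hΦ, Matrix.ProjGenLinGroup.mk_eq_one]
  have hker : π.ker ≤ θ0.ker := fun g hg => by
    have hgZ : (g : P) ∈ Z P := proj_eq_one_iff.1 (congrArg Subtype.val hg)
    obtain ⟨c, hcg⟩ := mem_Z_iff.1 hgZ
    have hres : A.res g = c • 1 := by
      ext w : 2
      rw [A.res_apply, hcg]
      simp [smul_mulVec]
    rw [MonoidHom.mem_ker, h0, Subgroup.mem_center_iff]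
    intro y
    apply Units.ext
    rw [Units.val_mul, Units.val_mul, A.coe_rho, hres, map_smul, map_one, Matrix.mul_smul,
      Matrix.smul_mul, mul_one, one_mul]
  let θ := π.liftOfSurjective hπ ⟨θ0, hker⟩
  have hθ : ∀ g, θ (π g) = θ0 g := fun g => MonoidHom.liftOfRightInverse_comp_apply π _ _ _ g
  refine ⟨θ, fun c => ?_, ?_⟩
  · obtain ⟨g, rfl⟩ := hπ c
    rw [hθ, h0]
    constructor
    · intro h
      obtain ⟨r, hr⟩ := Matrix.GeneralLinearGroup.mem_center_iff_val_mem_range_scalar.1 h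
      have hres := A.res_eq_smul (g := g) (μ := r) (by
        rw [← hr, Matrix.scalar_apply, Matrix.smul_one_eq_diagonal])
      show proj P (g : P) ∈ _
      rcases A.proj_of_scalar hc hres (hsix u A g r hres) with h' | h'
      · rw [h']; exact one_mem _
      · rw [h']; exact Subgroup.mem_zpowers _
    · intro h
      obtain ⟨k, hk⟩ := h
      have hk' : θ (π g) = θ (π ⟨u, Subgroup.mem_centralizer_singleton_iff.2 rfl⟩ ^ k) :=
        congrArg θ (Subtype.ext (by rw [SubgroupClass.coe_zpow]; exact hk.symm))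
      rw [hθ, map_zpow, hθ] at hk'
      have hu1 : θ0 ⟨u, Subgroup.mem_centralizer_singleton_iff.2 rfl⟩ = 1 := by
        rw [h0, Subgroup.mem_center_iff]
        intro y
        apply Units.ext
        rw [Units.val_mul, Units.val_mul, A.rho_u, mul_neg, neg_mul, mul_one, one_mul]
      rw [hu1, _root_.one_zpow, h0] at hk'
      exact hk'
  · intro hp
    refine A.not_dvd_card (p := p) hM (hp.trans ?_)
    have e : θ.range = θ0.range := by
      ext y
      constructor
      · rintro ⟨c, rfl⟩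
        obtain ⟨g, rfl⟩ := hπ c
        exact ⟨g, (hθ g).symm⟩
      · rintro ⟨g, rfl⟩
        exact ⟨π g, hθ g⟩
    rw [e]
    exact Subgroup.card_range_dvd θ0

end PSL

theorem q8_pow_four : ∀ a : QuaternionGroup 2, a * a * (a * a) = 1 := by decide

/-- A torus normaliser has no odd element moving a four group. -/
theorem conj_eq_of_torus {E : Type*} [Field E] [Fintype E] {x G v : PSL(2, E)}
    (hx : DicksonPSL2.IsTor x)
    (hG : G ∈ Subgroup.normalizer (DicksonPSL2.torus x : Set PSL(2, E)))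
    (hv : v ∈ Subgroup.normalizer (DicksonPSL2.torus x : Set PSL(2, E)))
    (hodd : Odd (orderOf G)) (hv2 : v * v = 1) (hw2 : G * v * G⁻¹ * v * (G * v * G⁻¹ * v) = 1) :
    G * v * G⁻¹ = v := by
  have hG2 : G * G = 1 → G = 1 := fun h => by
    have h1 := orderOf_dvd_of_pow_eq_one (show G ^ 2 = 1 by rw [sq, h])
    rcases (Nat.dvd_prime Nat.prime_two).1 h1 with h' | h'
    · exact orderOf_eq_one_iff.1 h'
    · rw [h'] at hodd; exact absurd hodd (by decide)
  have hGK : G ∈ DicksonPSL2.torus x := by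
    rcases DicksonPSL2.mem_or_inverts hx ((DicksonPSL2.mem_normalizer_torus_iff hx).1 hG)
      with h | ⟨h, -⟩
    · exact h
    · rw [hG2 h]; exact one_mem _
  rcases DicksonPSL2.mem_or_inverts hx ((DicksonPSL2.mem_normalizer_torus_iff hx).1 hv)
    with h | ⟨-, h⟩
  · rw [DicksonPSL2.torus_comm hx hGK h, mul_inv_cancel_right]
  · have h1 : v * G * v⁻¹ = G⁻¹ := h G hGK
    have h2 : v * G⁻¹ * v = G := by
      have h' := congrArg (·⁻¹) h1
      rw [_root_.mul_inv_rev, _root_.mul_inv_rev, inv_inv, inv_inv,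
        inv_eq_of_mul_eq_one_right hv2, ← mul_assoc] at h'
      exact h'
    have h3 : G * v * G⁻¹ * v = G * G := by
      rw [mul_assoc, mul_assoc, ← mul_assoc v, h2]
    rw [h3] at hw2
    have hG1 : G = 1 := orderOf_eq_one_iff.1 <| Nat.eq_one_of_dvd_coprimes
      (show Nat.Coprime (orderOf G) (2 ^ 2) from (Nat.coprime_two_right.2 hodd).pow_right 2)
      dvd_rfl (orderOf_dvd_of_pow_eq_one (by
        rw [show (2 : ℕ) ^ 2 = 2 * 2 from rfl, pow_mul, sq, sq]; exact hw2))
    rw [hG1]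
    group

section Main

variable [Fintype F] {p : ℕ} [hpp : Fact p.Prime] [hpc : CharP F p]
include hpp hpc

/-- An involution centraliser `GL(2, 3)` is impossible. -/
theorem no_gl23 (hc : Core P) (h2 : (2 : F) ≠ 0) (hM : NoFlag P)
    {u : P} (A : Axis u) (hu : orderOf u = 2) (hs : orderOf (proj P u) = 2)
    (e : Subgroup.centralizer ({proj P u} : Set (P ⧸ Z P)) →* Equiv.Perm (Fin 4))
    (he : Function.Surjective e)
    (hk : e.ker = Subgroup.zpowers
      ⟨proj P u, Subgroup.mem_centralizer_singleton_iff.2 rfl⟩)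
    (hextra : ∃ s : Subgroup.centralizer ({proj P u} : Set (P ⧸ Z P)),
      orderOf s = 2 ∧ (s : P ⧸ Z P) ≠ proj P u) : False := by
  haveI := hc.simple
  let C := Subgroup.centralizer ({proj P u} : Set (P ⧸ Z P))
  let t : C := ⟨proj P u, Subgroup.mem_centralizer_singleton_iff.2 rfl⟩
  have ht : orderOf t = 2 := (Subgroup.orderOf_mk _ _).trans hs
  have htz : t ∈ Subgroup.center C := Subgroup.mem_center_iff.2 fun c =>
    Subtype.ext (Subgroup.mem_centralizer_singleton_iff.1 c.2)
  have hrank : Cfsg.PRankLE 2 2 C := fun B hB hexp => by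
    haveI := hB
    rw [← Subgroup.card_map_of_injective C.subtype_injective]
    refine pRankLE_two hc h2 _ ⟨⟨?_⟩⟩ ?_
    · rintro ⟨_, a, ha, rfl⟩ ⟨_, b, hb, rfl⟩
      exact Subtype.ext (congrArg (fun z : B => ((z : C) : P ⧸ Z P))
        (hB.is_comm.comm ⟨a, ha⟩ ⟨b, hb⟩))
    · rintro _ ⟨a, ha, rfl⟩
      rw [← map_pow, hexp a ha, map_one]
  obtain ⟨s0, hs0, hs0t⟩ := hextra
  obtain ⟨ψ⟩ := Octahedral.nonempty_gl23 t ht htz e he hk hrank
    ⟨s0, hs0, fun h => hs0t (congrArg Subtype.val h)⟩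
  have hcard : 9 ∣ Nat.card (P ⧸ Z P) := by
    rcases Cfsg.Agent.S0197.result (proj P u) hs ψ with h | h <;> rw [h] <;> norm_num
  haveI : Fact (Nat.Prime 3) := ⟨Nat.prime_three⟩
  haveI : Fact (Nat.Prime 2) := ⟨Nat.prime_two⟩
  have hC48 : Nat.card C = 48 := Octahedral.card_eq ht he hk
  obtain ⟨x, hx⟩ := exists_prime_orderOf_dvd_card' (G := C) 3 (hC48 ▸ by norm_num)
  obtain ⟨si, hsi⟩ := Octahedral.exists_inverter ht htz he hk hx
  have huu : u * u = 1 := by rw [← sq, ← hu, pow_orderOf_eq_one]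
  have hlift : ∀ c : C, ∃ g : Subgroup.centralizer ({u} : Set P),
      proj P (g : P) = (c : P ⧸ Z P) := fun c => by
    obtain ⟨g, hg⟩ := QuotientGroup.mk'_surjective (Z P) (c : P ⧸ Z P)
    refine ⟨⟨g, Subgroup.mem_centralizer_singleton_iff.2 (hc.commute_of_proj huu ?_)⟩, hg⟩
    rw [hg]
    exact Subgroup.mem_centralizer_singleton_iff.1 c.2
  obtain ⟨g0, hg0⟩ := hlift x
  obtain ⟨s1, hs1⟩ := hlift si
  set g := s1 * g0 * s1⁻¹ * g0⁻¹ with hgdef
  have hx3 : x ^ 3 = 1 := by
    have h := pow_orderOf_eq_one x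
    rwa [hx] at h
  have hgx : proj P (g : P) = (x : P ⧸ Z P) := by
    simp only [hgdef, Subgroup.coe_mul, Subgroup.coe_inv, map_mul, map_inv, hg0, hs1]
    rw [← Subgroup.coe_inv, ← Subgroup.coe_inv, ← Subgroup.coe_mul, ← Subgroup.coe_mul,
      ← Subgroup.coe_mul, hsi]
    congr 1
    rw [← _root_.mul_inv_rev]
    exact inv_eq_of_mul_eq_one_right (by rw [← pow_three']; exact hx3)
  have hlam0 : ∀ k, A.lam k ≠ 0 := fun k h0 => by
    have := A.lam_mul_det hc k
    rw [h0, zero_mul] at this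
    exact zero_ne_one this
  have hlam : A.lam g = 1 := by
    have h : g * (g0 * s1) = s1 * g0 := by rw [hgdef]; group
    have h' := congrArg A.lam h
    rw [map_mul A.lam g, map_mul A.lam g0, map_mul A.lam s1, mul_comm (A.lam g0)] at h'
    exact (mul_eq_right₀ (mul_ne_zero (hlam0 s1) (hlam0 g0))).1 h'
  have hg3 : g ^ 3 = 1 := by
    have hz : ((g ^ 3 : Subgroup.centralizer ({u} : Set P)) : P) ∈ Z P := proj_eq_one_iff.1 (by
      rw [SubmonoidClass.coe_pow, map_pow, hgx, ← SubmonoidClass.coe_pow, hx3]; rfl)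
    obtain ⟨c, hcz⟩ := mem_Z_iff.1 hz
    have hc1 : c = 1 := by
      have h1 := A.mulVec_e' (g ^ 3)
      rw [hcz, map_pow, hlam, one_pow, one_smul, smul_mulVec, one_mulVec] at h1
      have h2 := congrArg (A.f ⬝ᵥ ·) h1
      simpa [A.dot] using h2
    rw [hc1, one_smul] at hcz
    exact Subtype.ext (Subtype.ext (Units.ext hcz))
  have hg1 : g ≠ 1 := fun h => by
    rw [h, OneMemClass.coe_one, map_one] at hgx
    rw [show x = 1 from Subtype.ext hgx.symm, orderOf_one] at hx
    omega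
  have h3F : (3 : F) ≠ 0 := fun h => by
    have hp3 : p = 3 := ((Nat.prime_dvd_prime_iff_eq (Fact.out : p.Prime) Nat.prime_three).1
      ((CharP.cast_eq_zero_iff F p 3).1 (by exact_mod_cast h)))
    refine A.not_dvd_card (p := p) hM ?_
    exact (dvd_of_eq (hp3.trans (orderOf_eq_prime hg3 hg1).symm)).trans (orderOf_dvd_natCard g)
  -- no fixed vectors on the axis
  have hfix : ∀ w : A.W, A.res g w = w → w = 0 := by
    intro w hw
    by_contra hw0
    set M := (A.rho g : Matrix (Fin 2) (Fin 2) F) with hMdef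
    have hd : M.det = 1 := by
      have h := A.lam_mul_det hc g
      rw [hlam, one_mul, ← LinearMap.det_toMatrix A.basis] at h
      exact h
    have hd1 : (M - 1).det = 0 := by
      refine Matrix.exists_mulVec_eq_zero_iff.1 ⟨A.basis.repr w, fun h0 => hw0 ?_, ?_⟩
      · exact A.basis.repr.map_eq_zero_iff.1 (Finsupp.ext fun i => congrFun h0 i)
      · rw [sub_mulVec, one_mulVec, hMdef, A.coe_rho]
        show LinearMap.toMatrix A.basis A.basis (A.res g) *ᵥ _ - _ = 0
        rw [LinearMap.toMatrix_mulVec_repr, hw, sub_self]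
    have hsq : (M - 1) * (M - 1) = 0 := by
      rw [Matrix.det_fin_two] at hd hd1
      simp only [Matrix.sub_apply, Matrix.one_apply_eq, ne_eq, zero_ne_one, not_false_eq_true,
        Matrix.one_apply_ne, one_ne_zero, sub_zero] at hd1
      ext i j
      fin_cases i <;> fin_cases j <;> simp [Matrix.mul_apply, Fin.sum_univ_two]
      · linear_combination (M 0 0 - 1) * (hd - hd1) - hd1
      · linear_combination M 0 1 * (hd - hd1)
      · linear_combination M 1 0 * (hd - hd1)
      · linear_combination (M 1 1 - 1) * (hd - hd1) - hd1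
    have hM3 : M ^ 3 = 1 := by
      rw [hMdef, ← Units.val_pow_eq_pow_val, ← map_pow, hg3, map_one, Units.val_one]
    have hN : (3 : F) • (M - 1) = 0 := by
      have e : M = 1 + (M - 1) := (add_sub_cancel 1 M).symm
      rw [e, pow_succ, pow_succ, pow_one] at hM3
      simp only [add_mul, mul_add, one_mul, mul_one, hsq, add_zero, add_assoc,
        add_eq_left] at hM3
      rw [show (3 : F) = 1 + 1 + 1 by norm_num, add_smul, add_smul, one_smul, add_assoc]
      exact hM3
    exact hg1 (A.rho_injective hc (by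
      rw [map_one]
      exact Units.ext (sub_eq_zero.1 ((smul_eq_zero.1 hN).resolve_left h3F))))
  have hsurj : Function.Surjective (A.res g - 1 : Module.End F A.W) :=
    LinearMap.injective_iff_surjective.1 ((injective_iff_map_eq_zero _).2 fun w hw =>
      hfix w (sub_eq_zero.1 hw))
  have hCg : ∀ h : P, h * (g : P) = (g : P) * h → h * u = u * h := by
    intro h hh
    have hmat : ∀ y, mat (h : GL (Fin 3) F) *ᵥ (mat ((g : P) : GL (Fin 3) F) *ᵥ y) =
        mat ((g : P) : GL (Fin 3) F) *ᵥ (mat (h : GL (Fin 3) F) *ᵥ y) := fun y => by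
      rw [mulVec_mulVec, mulVec_mulVec, ← mat_coe_mul, ← mat_coe_mul, hh]
    obtain ⟨c, hce⟩ : ∃ c : F, mat (h : GL (Fin 3) F) *ᵥ A.e = c • A.e := by
      set y := mat (h : GL (Fin 3) F) *ᵥ A.e with hy
      have h1 : mat ((g : P) : GL (Fin 3) F) *ᵥ y = y := by
        rw [hy, ← hmat, A.mulVec_e', hlam, one_smul]
      refine ⟨A.f ⬝ᵥ y, ?_⟩
      have h2 := hfix ⟨y - (A.f ⬝ᵥ y) • A.e, A.sub_mem y⟩ (Subtype.ext (by
        rw [A.res_apply, mulVec_sub, h1, mulVec_smul, A.mulVec_e', hlam, one_smul]))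
      exact sub_eq_zero.1 (congrArg Subtype.val h2)
    have hW : ∀ y, A.f ⬝ᵥ y = 0 → A.f ⬝ᵥ (mat (h : GL (Fin 3) F) *ᵥ y) = 0 := by
      intro y hy
      obtain ⟨w, hw⟩ := hsurj ⟨y, hy⟩
      have h1 : mat ((g : P) : GL (Fin 3) F) *ᵥ (w : Fin 3 → F) - w = y := by
        have h' := congrArg Subtype.val hw
        simp only [LinearMap.sub_apply, Module.End.one_apply, Submodule.coe_sub,
          A.res_apply] at h'
        exact h'
      rw [← h1, mulVec_sub, hmat, dotProduct_sub, A.dot_mulVec', hlam, mul_one, sub_self]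
    refine ext_of_mulVec fun y => ?_
    rw [mat_coe_mul, mat_coe_mul, ← mulVec_mulVec, ← mulVec_mulVec, A.mulVec_u, A.mulVec_u,
      mulVec_add, mulVec_neg, mulVec_smul, hce]
    have h1 : A.f ⬝ᵥ (mat (h : GL (Fin 3) F) *ᵥ y) = (A.f ⬝ᵥ y) * c := by
      have h' := hW _ (A.sub_mem y)
      rw [mulVec_sub, mulVec_smul, hce, dotProduct_sub, dotProduct_smul, dotProduct_smul, A.dot,
        smul_eq_mul, smul_eq_mul, mul_one, sub_eq_zero] at h'
      exact h'
    rw [h1, smul_smul, mul_assoc]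
  -- the centraliser of `x` is too small
  have hle : Subgroup.centralizer ({(x : P ⧸ Z P)} : Set (P ⧸ Z P)) ≤ C := by
    intro k hkx
    obtain ⟨k', rfl⟩ := QuotientGroup.mk'_surjective (Z P) k
    have hζ : k' * (g : P) * k'⁻¹ * (g : P)⁻¹ ∈ Z P := proj_eq_one_iff.1 (by
      rw [map_mul, map_mul, map_mul, map_inv, map_inv, hgx,
        Subgroup.mem_centralizer_singleton_iff.1 hkx, mul_inv_cancel_right, mul_inv_cancel])
    set ζ := k' * (g : P) * k'⁻¹ * (g : P)⁻¹
    have hζg : k' * (g : P) * k'⁻¹ = ζ * (g : P) := (inv_mul_cancel_right _ _).symm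
    have hug : u * (g : P) = (g : P) * u := (Subgroup.mem_centralizer_singleton_iff.1 g.2).symm
    set d := k' * u * k'⁻¹ with hd
    have hdg : d * (g : P) = (g : P) * d := by
      have h1 : d * (k' * (g : P) * k'⁻¹) = k' * (g : P) * k'⁻¹ * d := by
        rw [hd, show k' * u * k'⁻¹ * (k' * (g : P) * k'⁻¹) = k' * (u * (g : P)) * k'⁻¹ by group,
          hug]
        group
      refine mul_left_cancel (a := ζ) ?_
      rw [← mul_assoc, comm_of_mem_Z hζ d, mul_assoc d ζ, ← hζg, h1, hζg, mul_assoc]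
    have hdu : proj P d * proj P u = proj P u * proj P d := by
      rw [← map_mul, hCg d hdg, map_mul]
    let D : C := ⟨proj P d, Subgroup.mem_centralizer_singleton_iff.2 hdu⟩
    have hDD : D * D = 1 := Subtype.ext (by
      show proj P d * proj P d = 1
      rw [← map_mul, hd, show k' * u * k'⁻¹ * (k' * u * k'⁻¹) = k' * (u * u) * k'⁻¹ by group, huu,
        mul_one, mul_inv_cancel, map_one])
    have hDx : D * x = x * D := Subtype.ext (by
      show proj P d * (x : P ⧸ Z P) = x * proj P d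
      rw [← hgx, ← map_mul, hdg, map_mul])
    rcases Octahedral.invol_eq_of_commute ht hk hx hDD hDx with h | h
    · exfalso
      have h' : proj P d = 1 := congrArg Subtype.val h
      rw [hd, map_mul, map_mul, map_inv, conj_eq_one_iff] at h'
      rw [h', orderOf_one] at hs
      omega
    · refine Subgroup.mem_centralizer_singleton_iff.2 ?_
      have h' : proj P d = proj P u := congrArg Subtype.val h
      rw [hd, map_mul, map_mul, map_inv, mul_inv_eq_iff_eq_mul] at h'
      exact h'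
  have h9 : 9 ∣ Nat.card (Subgroup.centralizer ({(x : P ⧸ Z P)} : Set (P ⧸ Z P))) := by
    have hxo : orderOf (x : P ⧸ Z P) = 3 := by rw [Subgroup.orderOf_coe, hx]
    obtain ⟨R, hR⟩ := (IsPGroup.of_card (n := 1) (by rw [Nat.card_zpowers, hxo, pow_one]) :
      IsPGroup 3 (Subgroup.zpowers (x : P ⧸ Z P))).exists_le_sylow
    have hR9 : 9 ∣ Nat.card R := R.pow_dvd_card_of_pow_dvd_card (n := 2) hcard
    set CR := (Subgroup.centralizer ({(x : P ⧸ Z P)} : Set (P ⧸ Z P))) ⊓ (R : Subgroup (P ⧸ Z P))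
    refine dvd_trans ?_ (Subgroup.card_dvd_of_le (inf_le_left : CR ≤ _))
    have hCRp : IsPGroup 3 CR := R.isPGroup'.to_le inf_le_right
    obtain ⟨j, hj⟩ := hCRp.exists_card_eq
    rw [hj]
    suffices 2 ≤ j from (pow_dvd_pow 3 this)
    by_contra hj2
    have hxR : (x : P ⧸ Z P) ∈ (R : Subgroup (P ⧸ Z P)) := hR (Subgroup.mem_zpowers _)
    have hxle : Subgroup.zpowers (x : P ⧸ Z P) ≤ CR := Subgroup.zpowers_le.2
      ⟨Subgroup.mem_centralizer_singleton_iff.2 rfl, hxR⟩
    have heq : Subgroup.zpowers (x : P ⧸ Z P) = CR := by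
      refine Subgroup.eq_of_le_of_card_ge hxle ?_
      rw [hj, Nat.card_zpowers, hxo]
      exact (Nat.pow_le_pow_right (by norm_num) (by omega : j ≤ 1)).trans (pow_one 3).le
    haveI : Nontrivial (R : Subgroup (P ⧸ Z P)) := by
      rw [Subgroup.nontrivial_iff_ne_bot]
      intro h
      rw [h, Subgroup.card_bot] at hR9
      omega
    haveI := R.isPGroup'.center_nontrivial
    obtain ⟨z, hz⟩ := exists_ne (1 : Subgroup.center (R : Subgroup (P ⧸ Z P)))
    have hzx : ((z : (R : Subgroup (P ⧸ Z P))) : P ⧸ Z P) ∈ Subgroup.zpowers (x : P ⧸ Z P) := by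
      rw [heq]
      refine ⟨Subgroup.mem_centralizer_singleton_iff.2 ?_, (z : (R : Subgroup (P ⧸ Z P))).2⟩
      exact (congrArg Subtype.val (Subgroup.mem_center_iff.1 z.2 ⟨x, hxR⟩)).symm
    have hxz : Subgroup.zpowers ((z : (R : Subgroup (P ⧸ Z P))) : P ⧸ Z P) =
        Subgroup.zpowers (x : P ⧸ Z P) := by
      refine Subgroup.eq_of_le_of_card_ge (Subgroup.zpowers_le.2 hzx) ?_
      rw [Nat.card_zpowers, Nat.card_zpowers, hxo]
      have hdvd := Subgroup.orderOf_dvd_natCard _ hzx
      rw [Nat.card_zpowers, hxo] at hdvd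
      rcases (Nat.dvd_prime Nat.prime_three).1 hdvd with h' | h'
      · exact absurd (Subtype.ext (Subtype.ext (orderOf_eq_one_iff.1 h'))) hz
      · exact h'.ge
    have hRle : (R : Subgroup (P ⧸ Z P)) ≤ CR := fun r hr => by
      refine ⟨Subgroup.mem_centralizer_singleton_iff.2 ?_, hr⟩
      obtain ⟨i, hi⟩ := (hxz ▸ Subgroup.mem_zpowers (x : P ⧸ Z P) :
        (x : P ⧸ Z P) ∈ Subgroup.zpowers ((z : (R : Subgroup (P ⧸ Z P))) : P ⧸ Z P))
      rw [← hi]
      exact Commute.zpow_right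
        (congrArg Subtype.val (Subgroup.mem_center_iff.1 z.2 ⟨r, hr⟩)) i
    have h := Nat.le_of_dvd Nat.card_pos (hR9.trans (Subgroup.card_dvd_of_le hRle))
    rw [hj] at h
    have := (Nat.pow_le_pow_right (by norm_num : 1 ≤ 3) (by omega : j ≤ 1))
    omega
  have := h9.trans (Subgroup.card_dvd_of_le hle)
  rw [hC48] at this
  norm_num at this

theorem no_quasiDihedral (hc : Core P) (h2 : (2 : F) ≠ 0) (hM : NoFlag P) (hsix : SixScalar P)
    (T : Sylow 2 (P ⧸ Z P)) (hS : Cfsg.IsQuasiDihedral (T : Subgroup (P ⧸ Z P))) : False := by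
  haveI : Fact (Nat.Prime 2) := ⟨Nat.prime_two⟩
  obtain ⟨n, x, y, d⟩ := TwoGroups.exists_sdPair hS
  obtain ⟨-, Q, -, -, hQT, ⟨eQ⟩, -, h6⟩ := d.six_of_no_index_two T hS (no_index_two hc)
  have hs : orderOf (↑(x ^ TwoGroups.hh n) : P ⧸ Z P) = 2 := by
    rw [Subgroup.orderOf_coe, d.orderOf_z]
  obtain ⟨u, hu, hup⟩ := hc.exists_involution_lift hs
  have huu : u * u = 1 := by rw [← sq, ← hu, pow_orderOf_eq_one]
  obtain ⟨A⟩ := hc.nonempty_axis h2 hu
  have hs' : orderOf (proj P u) = 2 := by rw [hup]; exact hs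
  set s : P ⧸ Z P := proj P u with hsdef
  have hTC : (T : Subgroup (P ⧸ Z P)) ≤ Subgroup.centralizer ({s} : Set (P ⧸ Z P)) := fun a ha =>
    Subgroup.mem_centralizer_singleton_iff.2 (by
      rw [hup]
      exact congrArg Subtype.val (Subgroup.mem_center_iff.1 d.z_mem_center ⟨a, ha⟩))
  obtain ⟨E, iF, iT, iC, θ, hθ, hpr⟩ := exists_psl_hom (p := p) hc h2 hM hsix A huu
  have hker : θ.ker = Subgroup.zpowers ⟨s, Subgroup.mem_centralizer_singleton_iff.2 rfl⟩ := by
    ext c
    rw [MonoidHom.mem_ker, hθ]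
    constructor
    · rintro ⟨k, hk⟩
      exact ⟨k, Subtype.ext (by rw [SubgroupClass.coe_zpow]; exact hk)⟩
    · rintro ⟨k, rfl⟩
      exact ⟨k, rfl⟩
  have hsqn : 2 ^ n ∣ Nat.card θ.range := by
    have h1 := θ.ker.card_mul_index
    rw [Subgroup.index_ker, hker, Nat.card_zpowers, Subgroup.orderOf_mk, hs'] at h1
    have h3 := Subgroup.card_dvd_of_le hTC
    rw [d.card, ← h1, pow_succ'] at h3
    exact Nat.dvd_of_mul_dvd_mul_left two_pos h3
  have h8 : 8 ∣ Nat.card θ.range := (pow_dvd_pow 2 d.le).trans hsqn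
  rcases DicksonPSL2.coprime_case (H := θ.range) p hpr with h | h | h | ⟨-, -, ⟨ι⟩⟩ | h
  · rw [h, Subgroup.card_bot] at h8; norm_num at h8
  · obtain ⟨X, hX, hle⟩ := h
    obtain ⟨g, hgN, hgC, hg⟩ := TwoGroups.exists_odd_mem_notMem
      (H := Q ⊔ Subgroup.centralizer (Q : Set (P ⧸ Z P)))
      (N := Subgroup.normalizer (Q : Set (P ⧸ Z P))) (by rw [h6]; norm_num)
    obtain ⟨hwQ, -⟩ := d.quaternion_sylow T hQT eQ
    have hsQ : s ∈ Q := by
      rw [hup, d.hh_eq, two_mul, _root_.zpow_add, Subgroup.coe_mul]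
      exact mul_mem hwQ hwQ
    have hs2 : s * s = 1 := by rw [← sq, ← hs', pow_orderOf_eq_one]
    have hs1 : s ≠ 1 := fun h => by rw [h, orderOf_one] at hs'; omega
    have hgs : g * s = s * g := by
      have h : g * s * g⁻¹ = s := TwoGroups.quaternion8_invol_unique eQ
        ((Subgroup.mem_normalizer_iff.1 hgN s).1 hsQ) hsQ
        (by rw [show g * s * g⁻¹ * (g * s * g⁻¹) = g * (s * s) * g⁻¹ by group, hs2, mul_one,
          mul_inv_cancel]) hs2 (fun h => hs1 (conj_eq_one_iff.1 h)) hs1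
      exact mul_inv_eq_iff_eq_mul.1 h
    let g' : Subgroup.centralizer ({s} : Set (P ⧸ Z P)) :=
      ⟨g, Subgroup.mem_centralizer_singleton_iff.2 hgs⟩
    have hGodd : Odd (orderOf (θ g')) := by
      refine hg.of_dvd_nat ?_
      have := orderOf_map_dvd θ g'
      rwa [Subgroup.orderOf_mk] at this
    have hθsq : ∀ q : Subgroup.centralizer ({s} : Set (P ⧸ Z P)), (q : P ⧸ Z P) ∈ Q →
        θ q * θ q = 1 := by
      intro q hq
      rw [← map_mul, hθ]
      show (q : P ⧸ Z P) * q ∈ _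
      by_cases h1 : (q : P ⧸ Z P) * q = 1
      · rw [h1]; exact one_mem _
      · have h4 : (q : P ⧸ Z P) * q * ((q : P ⧸ Z P) * q) = 1 := by
          have h := congrArg (fun a => ((eQ.symm a : Q) : P ⧸ Z P)) (q8_pow_four (eQ ⟨q, hq⟩))
          simpa using h
        rw [TwoGroups.quaternion8_invol_unique eQ (mul_mem hq hq) hsQ h4 hs2 h1 hs1]
        exact Subgroup.mem_zpowers _
    apply hgC
    refine Subgroup.mem_sup_right (Subgroup.mem_centralizer_iff.2 fun q hq => ?_)
    have hqC : q ∈ Subgroup.centralizer ({s} : Set (P ⧸ Z P)) := hTC (hQT hq)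
    have hconj : g * q * g⁻¹ ∈ Q := (Subgroup.mem_normalizer_iff.1 hgN q).1 hq
    have hkey := conj_eq_of_torus hX (hle ⟨g', rfl⟩) (hle ⟨⟨q, hqC⟩, rfl⟩) hGodd
      (hθsq ⟨q, hqC⟩ hq) (by
        rw [← map_inv, ← map_mul, ← map_mul, ← map_mul]
        exact hθsq _ (mul_mem hconj hq))
    rw [← map_inv, ← map_mul, ← map_mul] at hkey
    have hcomm : (g * q * g⁻¹) * q⁻¹ ∈ Subgroup.zpowers s := by
      have h' : θ ((g' * ⟨q, hqC⟩ * g'⁻¹) * (⟨q, hqC⟩ : Subgroup.centralizer ({s} : Set _))⁻¹) = 1 := by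
        rw [map_mul, hkey, map_inv, mul_inv_cancel]
      exact (hθ _).1 h'
    have hgg : g * g * q * (g * g)⁻¹ = q := by
      obtain ⟨k, hk⟩ := hcomm
      simp only at hk
      have e1 : g * q * g⁻¹ = s ^ k * q := by rw [hk, inv_mul_cancel_right]
      have hgk : g * s ^ k * g⁻¹ = s ^ k := by
        rw [(Commute.zpow_right hgs k).eq, mul_inv_cancel_right]
      calc g * g * q * (g * g)⁻¹ = g * (g * q * g⁻¹) * g⁻¹ := by group
        _ = g * (s ^ k * q) * g⁻¹ := by rw [e1]
        _ = g * s ^ k * g⁻¹ * (g * q * g⁻¹) := by group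
        _ = q := by
          rw [hgk, e1, ← mul_assoc, ← _root_.zpow_add, ← two_mul, _root_.zpow_mul, zpow_two, hs2,
            _root_.one_zpow,
            one_mul]
    obtain ⟨m, hm⟩ := hg
    have hgpow : (g * g) ^ (m + 1) = g := by
      rw [← sq, ← pow_mul, show 2 * (m + 1) = (2 * m + 1) + 1 by ring, pow_succ, ← hm,
        pow_orderOf_eq_one, one_mul]
    have hc2 : Commute (g * g) q := mul_inv_eq_iff_eq_mul.1 hgg
    have := hc2.pow_left (m + 1)
    rw [hgpow] at this
    exact this.symm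
  · rw [h.1] at h8; norm_num at h8
  · refine no_gl23 (p := p) hc h2 hM A hu hs' (ι.toMonoidHom.comp θ.rangeRestrict)
      (ι.surjective.comp θ.rangeRestrict_surjective) ?_ ?_
    · rw [← hker]
      ext c
      show ι (θ.rangeRestrict c) = 1 ↔ θ c = 1
      rw [map_eq_one_iff ι ι.injective, Subtype.ext_iff]
      rfl
    · refine ⟨⟨y, hTC y.2⟩, by rw [Subgroup.orderOf_mk, Subgroup.orderOf_coe, d.oy], fun h => ?_⟩
      have h' : y = x ^ TwoGroups.hh n := Subtype.ext (h.trans hup)
      exact d.y_notMem (h' ▸ zpow_mem (Subgroup.mem_zpowers x) _)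
  · rw [h.1] at h8; norm_num at h8

theorem no_wreathed (hc : Core P) (h2 : (2 : F) ≠ 0) (hsix : SixScalar P)
    (T : Sylow 2 (P ⧸ Z P)) (hS : Cfsg.IsWreathed (T : Subgroup (P ⧸ Z P))) : False := by
  obtain ⟨n, x, y, z, d⟩ := TwoGroups.exists_wrTriple hS
  set q : ℤ := 2 ^ (n - 2) with hq
  have h2q : 2 * q = TwoGroups.hw n := by
    rw [hq, TwoGroups.hw, ← pow_succ']; congr 1; have := d.le; omega
  refine no_four_center hc h2 hsix (T : Subgroup (P ⧸ Z P)) T.isPGroup' (fun h => ?_)
    (z := ((TwoGroups.el x y q q : (T : Subgroup (P ⧸ Z P))) : P ⧸ Z P)) (SetLike.coe_mem _)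
    (fun a ha => congrArg Subtype.val (Subgroup.mem_center_iff.1
      (d.mem_center_iff.2 ⟨q, q, rfl, by rw [sub_self]; exact dvd_zero _⟩) ⟨a, ha⟩)) ?_
  · have h' := d.rel
    rw [h.is_comm.comm z x, mul_inv_cancel_right] at h'
    have hx1 : x ∈ Subgroup.zpowers x ⊓ Subgroup.zpowers y :=
      ⟨Subgroup.mem_zpowers x, h' ▸ Subgroup.mem_zpowers x⟩
    rw [d.disj, Subgroup.mem_bot] at hx1
    have hox := d.ox
    rw [hx1, orderOf_one] at hox
    have : 2 ^ 1 ≤ 2 ^ n := Nat.pow_le_pow_right two_pos (by have := d.le; omega)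
    omega
  · rw [← Subgroup.coe_mul, Subgroup.orderOf_coe, d.sq_el, h2q]
    refine orderOf_eq_prime ?_ fun h => ?_
    · rw [sq, d.el_mul, d.el_eq_one, ← two_mul, ← d.nn_eq]
      exact ⟨dvd_rfl, dvd_rfl⟩
    · have h' := (d.el_eq_one.1 h).1
      have h1 := d.hw_pos
      have h3 := Int.le_of_dvd h1 h'
      rw [d.nn_eq] at h3
      omega

/-- One class of involutions in the quasi-dihedral and wreathed cases. -/
theorem one_class [Finite F] (hc : Core P) (T : Sylow 2 (P ⧸ Z P))
    (hS : Cfsg.IsQuasiDihedral (T : Subgroup (P ⧸ Z P)) ∨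
      Cfsg.IsWreathed (T : Subgroup (P ⧸ Z P))) :
    ∀ a b : P ⧸ Z P, orderOf a = 2 → orderOf b = 2 → IsConj a b := by
  have hG := no_index_two hc
  suffices ∃ z0 : P ⧸ Z P, ∀ t, orderOf t = 2 → IsConj t z0 by
    obtain ⟨z0, hz⟩ := this
    exact fun a b ha hb => (hz a ha).trans (hz b hb).symm
  rcases hS with hS | hS
  · obtain ⟨n, x, y, d⟩ := TwoGroups.exists_sdPair hS
    obtain ⟨K, Q, hK, hKS, -, -, h₁, -⟩ := d.six_of_no_index_two T hS hG
    refine ⟨((x ^ TwoGroups.hh n : (T : Subgroup (P ⧸ Z P))) : P ⧸ Z P), fun t ht => ?_⟩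
    obtain ⟨a, ha, hta⟩ := TwoGroups.exists_isConj_sylow T (k := 1) (by simpa using ht)
    exact hta.trans (d.isConj_z_of_six T hK hKS h₁ a (by simpa using ha))
  · obtain ⟨n, x, y, z, d⟩ := TwoGroups.exists_wrTriple hS
    obtain ⟨h₁, g₀, hg₀N, hg₀, hg₀C⟩ := d.six_of_no_index_two T hS hG
    refine ⟨(z : P ⧸ Z P), fun t ht => ?_⟩
    obtain ⟨a, ha, hta⟩ := TwoGroups.exists_isConj_sylow T (k := 1) (by simpa using ht)
    have haz := d.isConj_a_z T hg₀N hg₀ hg₀C
    rcases d.invol_cases T a (by simpa using ha) with rfl | h | h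
    exacts [hta.trans ((d.isConj_c_a T h₁).trans haz), hta.trans (h.trans haz), hta.trans h]

/-- **Without transvections the Sylow 2-subgroups are dihedral**, given that scalars on axes are
sixth roots of unity when there is one class of involutions. -/
theorem dihedral_of_noFlag' (hc : Core P) (hM : NoFlag P)
    (hsix : (2 : F) ≠ 0 → (∀ s t : P, orderOf s = 2 → orderOf t = 2 → IsConj s t) → SixScalar P)
    (T : Sylow 2 (P ⧸ Z P)) :
    ∃ n, 2 ≤ n ∧ Nonempty ((T : Subgroup (P ⧸ Z P)) ≃* DihedralGroup n) := by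
  haveI := hc.simple
  haveI : Fact (Nat.Prime 2) := ⟨Nat.prime_two⟩
  have h2 := two_ne_zero_of_noFlag hc hM
  letI : Fintype (GaloisField 2 4) := Fintype.ofFinite _
  have h16 : Fintype.card (GaloisField 2 4) = 16 := by
    rw [← Nat.card_eq_fintype_card, GaloisField.card 2 4 (by norm_num)]; norm_num
  let U : Sylow 2 (Cfsg.PSU 3 (GaloisField 2 4) 4) := default
  rcases Cfsg.Agent.S0516.result hc.nonabelian (pRankLE_two hc h2) T h16 U
    with h | h | h | ⟨⟨e⟩⟩
  · exact h
  · exact (no_quasiDihedral (p := p) hc h2 hM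
      (hsix h2 (isConj_of_proj hc (one_class hc T (Or.inl h)))) T h).elim
  · exact (no_wreathed hc h2 (hsix h2 (isConj_of_proj hc (one_class hc T (Or.inr h)))) T h).elim
  · exfalso
    obtain ⟨-, h4, -, hcomm, -, -⟩ := Cfsg.Agent.S1248.result h16 U
    refine no_center_four hc h2 T ?_ fun h => ?_
    · have ec := Subgroup.centerCongr e
      exact ⟨(Nat.card_congr ec.toEquiv).trans h4.card_four,
        (Monoid.exponent_eq_of_mulEquiv ec).trans h4.exponent_two⟩
    · haveI : IsMulCommutative (U : Subgroup (Cfsg.PSU 3 (GaloisField 2 4) 4)) := ⟨⟨fun a b =>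
        e.symm.injective (by rw [map_mul, map_mul]; exact h.is_comm.comm _ _)⟩⟩
      have hbot : commutator (U : Subgroup (Cfsg.PSU 3 (GaloisField 2 4) 4)) = ⊥ := by
        rw [commutator_def, eq_bot_iff, Subgroup.commutator_le]
        intro a _ b _
        rw [Subgroup.mem_bot, commutatorElement_eq_one_iff_mul_comm]
        exact IsMulCommutative.is_comm.comm a b
      have h1 := h4.card_four
      rw [hcomm, hbot, Subgroup.card_bot] at h1
      omega

/-- **Without transvections the Sylow 2-subgroups of the simple quotient are dihedral.** -/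
theorem dihedral_of_noFlag (hc : Ctx P) (hM : NoFlag P) (T : Sylow 2 (P ⧸ Z P)) :
    ∃ n, 2 ≤ n ∧ Nonempty ((T : Subgroup (P ⧸ Z P)) ≃* DihedralGroup n) :=
  dihedral_of_noFlag' (p := p) hc.core hM (fun h2 hone u A g μ hg => by
    have hu : orderOf u = 2 := by
      refine orderOf_eq_prime ?_ fun h => ?_
      · refine ext_of_mulVec fun x => ?_
        rw [sq, mat_coe_mul, A.eq, homMat_sq A.dot]
        simp [mat]
      · obtain ⟨x, hx, hfx⟩ := exists_ne_zero_dot A.f
        have h' := A.mulVec_u x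
        have hm : mat (u : GL (Fin 3) F) = 1 := by
          simpa [mat] using congrArg (fun z : P => mat (z : GL (Fin 3) F)) h
        rw [hm, one_mulVec, hfx, mul_zero, zero_smul, add_zero] at h'
        have h'' : (2 : F) • x = 0 := by
          rw [two_smul]
          nth_rw 1 [h']
          exact neg_add_cancel x
        exact hx ((smul_eq_zero.1 h'').resolve_left h2)
    refine axis_scalar (p := p) hc h2 hM hone hu A.eq A.dot (h := (g : P))
      (Subgroup.mem_centralizer_singleton_iff.1 g.2) fun x hx => ?_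
    have h := A.res_apply g ⟨x, hx⟩
    rw [hg] at h
    exact h.symm) T

end Main

end CfsgLib.PGLThree
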