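import Cfsg.Agent.PGLThree.TypesTrace
import Mathlib.FieldTheory.IsAlgClosed.AlgebraicClosure
import Mathlib.LinearAlgebra.Eigenspace.Triangularizable

/-!
# Eigencharacters of an abelian subgroup in dimension three

Among four conjugates of a common eigencharacter two coincide.
-/

set_option autoImplicit false
set_option linter.unusedSectionVars false

namespace CfsgLib.PGLThree

open Matrix CfsgLib.Aschbacher
set_option linter.style.haveILetI false

variable {F : Type*} [Field F]

/-- Extension of scalars to the algebraic closure. -/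
noncomputable abbrev ext3 (g : GL (Fin 3) F) : Matrix (Fin 3) (Fin 3) (AlgebraicClosure F) :=
  (mat g).map (algebraMap F (AlgebraicClosure F))

theorem ext3_mul (g h : GL (Fin 3) F) : ext3 (g * h) = ext3 g * ext3 h := by
  simp only [ext3, mat, Units.val_mul, Matrix.map_mul]

theorem ext3_one : ext3 (1 : GL (Fin 3) F) = 1 := by
  simp [ext3, mat]

theorem ext3_injective : Function.Injective (ext3 (F := F)) := fun g h e =>
  Units.ext (Matrix.map_injective (algebraMap F (AlgebraicClosure F)).injective e)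

/-- Commuting operators have a common eigenvector in every invariant nonzero subspace. -/
theorem exists_common_eigen {K V : Type*} [Field K] [IsAlgClosed K] [AddCommGroup V] [Module K V]
    [FiniteDimensional K V] {ι : Type*} (f : ι → Module.End K V)
    (hcomm : ∀ i j, Commute (f i) (f j)) (s : Finset ι) (W : Submodule K V) (hW : W ≠ ⊥)
    (hinv : ∀ i, ∀ w ∈ W, f i w ∈ W) :
    ∃ v ∈ W, v ≠ 0 ∧ ∀ i ∈ s, ∃ c : K, f i v = c • v := by
  classical
  induction s using Finset.induction_on generalizing W with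
  | empty =>
    obtain ⟨v, hv, h0⟩ := (Submodule.ne_bot_iff W).1 hW
    exact ⟨v, hv, h0, fun i hi => absurd hi (Finset.notMem_empty i)⟩
  | @insert a s _ ih =>
    haveI : Nontrivial W := (Submodule.nontrivial_iff_ne_bot).2 hW
    obtain ⟨μ, hμ⟩ := Module.End.exists_eigenvalue ((f a).restrict (hinv a))
    obtain ⟨w, hw⟩ := hμ.exists_hasEigenvector
    have hne : W ⊓ Module.End.eigenspace (f a) μ ≠ ⊥ := by
      refine (Submodule.ne_bot_iff _).2 ⟨w, ⟨w.2, ?_⟩, fun h => hw.2 (Subtype.ext h)⟩
      rw [SetLike.mem_coe, Module.End.mem_eigenspace_iff]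
      exact congrArg Subtype.val hw.apply_eq_smul
    obtain ⟨v, ⟨hvW, hvE⟩, hv0, hv⟩ := ih (W ⊓ Module.End.eigenspace (f a) μ) hne fun i w hw => by
      refine ⟨hinv i w hw.1, ?_⟩
      have h2 := hw.2
      rw [SetLike.mem_coe, Module.End.mem_eigenspace_iff] at h2 ⊢
      calc f a (f i w) = f i (f a w) := LinearMap.congr_fun (hcomm a i).eq w
        _ = μ • f i w := by rw [h2, map_smul]
    refine ⟨v, hvW, hv0, fun i hi => ?_⟩
    rcases Finset.mem_insert.1 hi with rfl | hi
    · rw [SetLike.mem_coe, Module.End.mem_eigenspace_iff] at hvE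
      exact ⟨μ, hvE⟩
    · exact hv i hi

/-- Eigenvectors with different characters are independent. -/
theorem indep_of_chars {K V ι A : Type*} [Field K] [AddCommGroup V] [Module K V]
    (f : A → Module.End K V) (v : ι → V) (χ : ι → A → K) (hv : ∀ i, v i ≠ 0)
    (he : ∀ i a, f a (v i) = χ i a • v i) (hχ : ∀ i j, i ≠ j → χ i ≠ χ j) :
    LinearIndependent K v := by
  classical
  rw [linearIndependent_iff']
  intro s
  induction s using Finset.induction_on with
  | empty => intro c _ i hi; exact absurd hi (Finset.notMem_empty i)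
  | @insert a s has ih =>
    intro c hc
    rw [Finset.sum_insert has] at hc
    have hs : ∀ i ∈ s, c i = 0 := by
      intro i hi
      obtain ⟨y, hy⟩ := Function.ne_iff.1 (hχ i a fun e => has (e ▸ hi))
      have h1 := congrArg (f y) hc
      rw [map_add, map_sum, map_smul, he, map_zero] at h1
      have h2 : ∑ j ∈ s, (c j * (χ j y - χ a y)) • v j = 0 := by
        have e1 : ∑ j ∈ s, f y (c j • v j) = ∑ j ∈ s, (c j * χ j y) • v j :=
          Finset.sum_congr rfl fun j _ => by rw [map_smul, he, smul_smul]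
        have e2 : ∑ j ∈ s, (c j * χ a y) • v j = χ a y • ∑ j ∈ s, c j • v j := by
          rw [Finset.smul_sum]
          exact Finset.sum_congr rfl fun j _ => by rw [smul_smul, mul_comm]
        rw [e1] at h1
        simp only [mul_sub, sub_smul, Finset.sum_sub_distrib, e2]
        rw [eq_neg_of_add_eq_zero_right hc, smul_neg, sub_neg_eq_add, smul_comm, add_comm]
        exact h1
      exact (mul_eq_zero.1 (ih _ h2 i hi)).resolve_right (sub_ne_zero.2 hy)
    rw [Finset.sum_eq_zero (fun i hi => by rw [hs i hi, zero_smul]), add_zero] at hc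
    intro i hi
    rcases Finset.mem_insert.1 hi with rfl | hi
    · exact (smul_eq_zero.1 hc).resolve_right (hv i)
    · exact hs i hi

/-- **Pigeonhole for eigencharacters.** For an abelian subgroup, an element `x` of order dividing a
number prime to the characteristic and four normalising elements, some character is nontrivial at `x`
and has equal conjugates under two of the four. -/
theorem exists_equal_chars (A : Subgroup (GL (Fin 3) F)) [Finite A]
    (hA : ∀ a ∈ A, ∀ b ∈ A, a * b = b * a) {x : GL (Fin 3) F} (hx : x ∈ A) (hx1 : x ≠ 1) {l : ℕ}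
    (hl : (l : F) ≠ 0) (hxl : x ^ l = 1) (g : Fin 4 → GL (Fin 3) F)
    (hg : ∀ i, ∀ a ∈ A, g i * a * (g i)⁻¹ ∈ A) :
    ∃ χ : GL (Fin 3) F → AlgebraicClosure F, χ 1 = 1 ∧ (∀ a ∈ A, ∀ b ∈ A, χ (a * b) = χ a * χ b) ∧
      χ x ≠ 1 ∧ ∃ i j, i ≠ j ∧ ∀ a ∈ A, χ (g i * a * (g i)⁻¹) = χ (g j * a * (g j)⁻¹) := by
  classical
  haveI : Fintype A := Fintype.ofFinite A
  let f : A → Module.End (AlgebraicClosure F) (Fin 3 → AlgebraicClosure F) := fun a =>
    Matrix.toLin' (ext3 (a : GL (Fin 3) F))
  have hf : ∀ i j, Commute (f i) (f j) := fun i j => by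
    show f i * f j = f j * f i
    simp only [f, Module.End.mul_eq_comp, ← Matrix.toLin'_mul, ← ext3_mul, hA _ i.2 _ j.2]
  obtain ⟨W, hWdef⟩ : ∃ W, W = LinearMap.range (f ⟨x, hx⟩ - 1) := ⟨_, rfl⟩
  have hW : W ≠ ⊥ := by
    rw [hWdef, Ne, LinearMap.range_eq_bot, sub_eq_zero]
    intro h
    apply hx1
    apply ext3_injective
    rw [ext3_one]
    exact Matrix.toLin'.injective (h.trans Matrix.toLin'_one.symm)
  obtain ⟨v, hvW, hv0, hv⟩ := exists_common_eigen f hf Finset.univ W hW (by
    intro i w hw
    rw [hWdef] at hw ⊢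
    obtain ⟨u, rfl⟩ := hw
    refine ⟨f i u, ?_⟩
    rw [LinearMap.sub_apply, LinearMap.sub_apply, map_sub]
    congr 1
    exact LinearMap.congr_fun (hf ⟨x, hx⟩ i).eq u)
  choose c hc using fun a : A => hv a (Finset.mem_univ a)
  let χ : GL (Fin 3) F → AlgebraicClosure F := fun a => if ha : a ∈ A then c ⟨a, ha⟩ else 0
  have hχ : ∀ a (ha : a ∈ A), ext3 a *ᵥ v = χ a • v := fun a ha => by
    simp only [χ, dif_pos ha]
    exact (Matrix.toLin'_apply _ _).symm.trans (hc ⟨a, ha⟩)
  have hinj : ∀ {p q : AlgebraicClosure F}, p • v = q • v → p = q := fun h =>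
    smul_left_injective _ hv0 h
  have hmul : ∀ a ∈ A, ∀ b ∈ A, χ (a * b) = χ a * χ b := fun a ha b hb => hinj (by
    rw [← hχ _ (mul_mem ha hb), ext3_mul, ← mulVec_mulVec, hχ b hb, mulVec_smul, hχ a ha, smul_smul,
      mul_comm])
  have hχ1 : χ 1 = 1 := hinj (by rw [← hχ 1 (one_mem A), ext3_one, one_mulVec, one_smul])
  refine ⟨χ, hχ1, hmul, fun he => ?_, ?_⟩
  · -- the eigenvalue on the image of `x - 1` is not one
    rw [hWdef] at hvW
    obtain ⟨u, hu⟩ := hvW
    rw [LinearMap.sub_apply, Module.End.one_apply] at hu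
    simp only [f, Matrix.toLin'_apply] at hu
    have hxv : ext3 x *ᵥ v = v := by rw [hχ x hx, he, one_smul]
    have hn : ∀ n : ℕ, ext3 (x ^ n) *ᵥ u = u + (n : AlgebraicClosure F) • v := by
      intro n
      induction n with
      | zero => simp [ext3_one]
      | succ n ih =>
        rw [pow_succ', ext3_mul, ← mulVec_mulVec, ih, mulVec_add, mulVec_smul, hxv,
          eq_add_of_sub_eq hu, Nat.cast_succ, add_smul, one_smul]
        abel
    have h := hn l
    rw [hxl, ext3_one, one_mulVec, left_eq_add, smul_eq_zero, or_iff_left hv0,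
      ← map_natCast (algebraMap F (AlgebraicClosure F)), map_eq_zero] at h
    exact hl h
  · by_contra! hno
    have hli : LinearIndependent (AlgebraicClosure F) fun i => ext3 (g i)⁻¹ *ᵥ v := by
      refine indep_of_chars f _ (fun i a => χ (g i * (a : GL (Fin 3) F) * (g i)⁻¹)) (fun i h => hv0 ?_)
        (fun i a => ?_) fun i j hij e => ?_
      · have := congrArg (fun w => ext3 (g i) *ᵥ w) h
        simpa [mulVec_mulVec, ← ext3_mul, ext3_one] using this
      · show Matrix.toLin' (ext3 (a : GL (Fin 3) F)) _ = _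
        rw [Matrix.toLin'_apply, mulVec_mulVec, ← ext3_mul,
          show (a : GL (Fin 3) F) * (g i)⁻¹ = (g i)⁻¹ * (g i * (a : GL (Fin 3) F) * (g i)⁻¹) by group,
          ext3_mul, ← mulVec_mulVec, hχ _ (hg i _ a.2), mulVec_smul]
      · obtain ⟨a, ha, hne⟩ := hno i j hij
        exact hne (congrFun e ⟨a, ha⟩)
    have := hli.fintype_card_le_finrank
    simp at this

end CfsgLib.PGLThree
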