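import Cfsg.Agent.PGLThree.TypesLift
import Cfsg.Agent.PGLThree.TypesChar
import Cfsg.Agent.ClassSizePSLTwo.Sylow

/-!
# The groups `PSL₂` of odd characteristic in dimension three

Only seven and nine elements are possible.
-/

set_option autoImplicit false
set_option linter.unusedSectionVars false
set_option linter.style.haveILetI false

namespace CfsgLib.PGLThree

open Matrix Cfsg.Geo CfsgLib.Aschbacher
open scoped MatrixGroups

section SLTwo

variable {K : Type*} [Field K]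

/-- The upper unitriangular elements. -/
def ut (x : K) : SL(2, K) := ⟨!![1, x; 0, 1], by simp [Matrix.det_fin_two]⟩

/-- The diagonal elements. -/
def dg (c : Kˣ) : SL(2, K) := ⟨!![(c : K), 0; 0, ((c⁻¹ : Kˣ) : K)], by simp [Matrix.det_fin_two]⟩

theorem ut_add (x y : K) : ut (x + y) = ut x * ut y := by
  apply Subtype.ext
  rw [Matrix.SpecialLinearGroup.coe_mul]
  ext i j
  fin_cases i <;> fin_cases j <;> simp [ut, Matrix.mul_apply, Fin.sum_univ_two, add_comm]

theorem ut_zero : ut (0 : K) = 1 := by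
  apply Subtype.ext
  ext i j
  fin_cases i <;> fin_cases j <;> simp [ut]

theorem dg_mul (c d : Kˣ) : dg c * dg d = dg (c * d) := by
  apply Subtype.ext
  rw [Matrix.SpecialLinearGroup.coe_mul]
  ext i j
  fin_cases i <;> fin_cases j <;> simp [dg, Matrix.mul_apply, Fin.sum_univ_two, mul_comm]

theorem dg_conj (c : Kˣ) (x : K) : dg c * ut x = ut ((c : K) * c * x) * dg c := by
  apply Subtype.ext
  rw [Matrix.SpecialLinearGroup.coe_mul, Matrix.SpecialLinearGroup.coe_mul]
  ext i j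
  fin_cases i <;> fin_cases j <;> simp [dg, ut, Matrix.mul_apply, Fin.sum_univ_two]
  field_simp

theorem ut_mem_center {x : K} (h : ut x ∈ Subgroup.center SL(2, K)) : x = 0 := by
  obtain ⟨w, hw⟩ : ∃ w : SL(2, K), w.1 = !![1, 0; 1, 1] :=
    ⟨⟨!![1, 0; 1, 1], by simp [Matrix.det_fin_two]⟩, rfl⟩
  have := congrArg (fun g : SL(2, K) => g.1 0 0) (Subgroup.mem_center_iff.1 h w)
  rw [Matrix.SpecialLinearGroup.coe_mul, Matrix.SpecialLinearGroup.coe_mul] at this
  simpa [ut, hw, Matrix.mul_apply, Fin.sum_univ_two] using this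

/-- An element conjugate to its inverse, given a root of minus one or a regular semisimple element. -/
theorem exists_inverting [Fintype K] (h2 : (2 : K) ≠ 0) (g : SL(2, K))
    (h : g.1.trace * g.1.trace ≠ 4 ∨ ∃ i : K, i * i = -1) : ∃ w : SL(2, K), w * g * w⁻¹ = g⁻¹ := by
  obtain ⟨a, b, c, hdet, htr⟩ : ∃ a b c : K, -(a * a) - b * c = 1 ∧
      a * (g.1 0 0 - g.1 1 1) + b * g.1 1 0 + c * g.1 0 1 = 0 := by
    have hd : g.1 0 0 * g.1 1 1 - g.1 0 1 * g.1 1 0 = 1 := by
      rw [← Matrix.det_fin_two]; exact g.2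
    by_cases h10 : g.1 1 0 = 0
    · by_cases hdd : g.1 0 0 = g.1 1 1
      · obtain ⟨i, hi⟩ := h.resolve_left fun h' => h' (by
          rw [Matrix.trace_fin_two]
          rw [h10, hdd] at hd
          linear_combination (g.1 0 0 + 3 * g.1 1 1) * hdd + 4 * hd)
        exact ⟨i, 0, 0, by linear_combination -hi, by simp [hdd]⟩
      · refine ⟨-(g.1 0 1) / (g.1 0 0 - g.1 1 1), -1 - (-(g.1 0 1) / (g.1 0 0 - g.1 1 1)) ^ 2, 1, by ring, ?_⟩
        rw [h10, div_mul_cancel₀ _ (sub_ne_zero.2 hdd)]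
        ring
    · obtain ⟨u, c, huc⟩ : ∃ u c : K, u * u - ((g.1 0 0 - g.1 1 1) * (g.1 0 0 - g.1 1 1) + 4 * g.1 0 1 * g.1 1 0) * (c * c) =
          -4 * (g.1 1 0 * g.1 1 0) := by
        by_cases hD : (g.1 0 0 - g.1 1 1) * (g.1 0 0 - g.1 1 1) + 4 * g.1 0 1 * g.1 1 0 = 0
        · obtain ⟨i, hi⟩ := h.resolve_left fun h' => h' (by
            rw [Matrix.trace_fin_two]
            linear_combination hD + 4 * hd)
          exact ⟨2 * g.1 1 0 * i, 0, by linear_combination (4 * (g.1 1 0 * g.1 1 0)) * hi⟩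
        · obtain ⟨u, c, huc⟩ := FiniteField.exists_root_sum_quadratic
            (f := (Polynomial.X : Polynomial K) ^ 2)
            (g := Polynomial.C (-((g.1 0 0 - g.1 1 1) * (g.1 0 0 - g.1 1 1) + 4 * g.1 0 1 * g.1 1 0)) *
              Polynomial.X ^ 2 + Polynomial.C (4 * (g.1 1 0 * g.1 1 0)))
            (by simp) (by
              rw [Polynomial.degree_add_C (by
                rw [Polynomial.degree_C_mul_X_pow _ (neg_ne_zero.2 hD)]; norm_num)]
              exact Polynomial.degree_C_mul_X_pow _ (neg_ne_zero.2 hD))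
            (by
              have := FiniteField.odd_card_of_char_ne_two (F := K) (fun e => h2 (by
                haveI := ringChar.of_eq e; exact CharTwo.two_eq_zero))
              omega)
          exact ⟨u, c, by simp at huc; linear_combination huc⟩
      refine ⟨(u + (g.1 0 0 - g.1 1 1) * c) / (2 * g.1 1 0),
        -((u + (g.1 0 0 - g.1 1 1) * c) / (2 * g.1 1 0) * (g.1 0 0 - g.1 1 1) + c * g.1 0 1) / g.1 1 0,
        c, ?_, ?_⟩
      · field_simp
        linear_combination -huc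
      · field_simp
        ring
  obtain ⟨w, hw⟩ : ∃ w : SL(2, K), w.1 = !![a, b; c, -a] :=
    ⟨⟨!![a, b; c, -a], by rw [Matrix.det_fin_two_of]; linear_combination hdet⟩, rfl⟩
  refine ⟨w, ?_⟩
  rw [mul_inv_eq_iff_eq_mul]
  apply Subtype.ext
  rw [Matrix.SpecialLinearGroup.coe_mul, Matrix.SpecialLinearGroup.coe_mul, Matrix.SpecialLinearGroup.coe_inv,
    hw, Matrix.adjugate_fin_two]
  ext i j
  fin_cases i <;> fin_cases j <;> simp [Matrix.mul_apply, Fin.sum_univ_two]
  · linear_combination htr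
  · ring
  · ring
  · linear_combination htr

/-- An element of trace `± 2` has order the characteristic modulo the centre. -/
theorem pow_char_mem_center {l : ℕ} [Fact l.Prime] [CharP K l] (h2 : (2 : K) ≠ 0) (g : SL(2, K))
    (h : g.1.trace * g.1.trace = 4) : g ^ l ∈ Subgroup.center SL(2, K) := by
  obtain ⟨s, hs⟩ : ∃ s, s = g.1.trace / 2 := ⟨_, rfl⟩
  have hs2 : s * s = 1 := by rw [hs, div_mul_div_comm, h]; field_simp; norm_num
  have hd : g.1 0 0 * g.1 1 1 - g.1 0 1 * g.1 1 0 = 1 := by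
    rw [← Matrix.det_fin_two]; exact g.2
  have hts : g.1 0 0 + g.1 1 1 = 2 * s := by
    rw [hs, ← Matrix.trace_fin_two]; field_simp
  have hN : (g.1 - s • 1) * (g.1 - s • 1) = 0 := by
    ext i j
    fin_cases i <;> fin_cases j <;> simp [Matrix.mul_apply, Fin.sum_univ_two]
    · linear_combination (g.1 0 0) * hts - hd + hs2
    · linear_combination (g.1 0 1) * hts
    · linear_combination (g.1 1 0) * hts
    · linear_combination (g.1 1 1) * hts - hd + hs2
  have e : g.1 ^ l = (s ^ l) • 1 := by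
    have h0 : (g.1 - s • 1) ^ l = 0 := by
      obtain ⟨m, hm⟩ := Nat.exists_eq_add_of_le (Fact.out : l.Prime).two_le
      rw [hm, pow_add, pow_two, hN, zero_mul]
    conv_lhs => rw [← sub_add_cancel g.1 (s • 1)]
    rw [add_pow_char_of_commute _ ((Commute.one_right _).smul_right s), h0, zero_add, smul_pow, one_pow]
  rw [Subgroup.mem_center_iff]
  intro x
  apply Subtype.ext
  rw [Matrix.SpecialLinearGroup.coe_mul, Matrix.SpecialLinearGroup.coe_mul,
    Matrix.SpecialLinearGroup.coe_pow, e, Matrix.smul_mul, Matrix.mul_smul, one_mul, mul_one]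

end SLTwo

variable {F : Type*} [Field F] {P : Subgroup (GL (Fin 3) F)} {K : Type*} [Field K] [Fintype K]

/-- The projection from `SL₂`. -/
abbrev toP (g : SL(2, K)) : PSL(2, K) := QuotientGroup.mk' (Subgroup.center SL(2, K)) g

theorem toP_ut_injective : Function.Injective (fun x : K => toP (ut x)) := by
  intro x y h
  have h' : (ut x)⁻¹ * ut y ∈ Subgroup.center SL(2, K) := QuotientGroup.eq.1 h
  have e : (ut x)⁻¹ * ut y = ut (y - x) := by
    rw [inv_mul_eq_iff_eq_mul, ← ut_add, add_sub_cancel]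
  rw [e] at h'
  exact (sub_eq_zero.1 (ut_mem_center h')).symm

theorem add_closed_top [Finite K] {S : Set K} (hne : ∃ a ∈ S, a ≠ 0) (hadd : ∀ a ∈ S, ∀ b ∈ S, a + b ∈ S)
    (hsq : ∀ c : K, c ≠ 0 → ∀ a ∈ S, c * c * a ∈ S) (h2 : (2 : K) ≠ 0) : ∀ x, x ∈ S := by
  intro x
  obtain ⟨a, ha, ha0⟩ := hne
  have h0 : (0 : K) ∈ S := by
    obtain ⟨l, hl⟩ := CharP.exists K
    haveI := hl
    have key : ∀ n : ℕ, ((n + 1 : ℕ) : K) * a ∈ S := by
      intro n
      induction n with
      | zero => simpa using ha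
      | succ n ih => rw [Nat.cast_succ, add_mul, one_mul]; exact hadd _ ih _ ha
    have hl0 : l ≠ 0 := CharP.char_ne_zero_of_finite K l
    have := key (l - 1)
    rwa [show l - 1 + 1 = l by omega, CharP.cast_eq_zero, zero_mul] at this
  obtain ⟨u, v, huv⟩ : ∃ u v : K, u * u + v * v = x / a := by
    have hodd := FiniteField.odd_card_of_char_ne_two (F := K) (fun e => h2 (by
      haveI := ringChar.of_eq e; exact CharTwo.two_eq_zero))
    obtain ⟨u, v, huv⟩ := FiniteField.exists_root_sum_quadratic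
      (f := (Polynomial.X : Polynomial K) ^ 2) (g := Polynomial.X ^ 2 - Polynomial.C (x / a))
      (by simp) (Polynomial.degree_X_pow_sub_C (by norm_num) _) (by omega)
    exact ⟨u, v, by simp at huv; linear_combination huv⟩
  have hm : ∀ w : K, w * w * a ∈ S := fun w => by
    by_cases hw : w = 0
    · subst hw; simpa using h0
    · exact hsq w hw a ha
  have := hadd _ (hm u) _ (hm v)
  rwa [← add_mul, huv, div_mul_cancel₀ _ ha0] at this

section Main

variable [Finite F] {π : P →* PSL(2, K)}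

/-- If the scalars are trivial some element is not conjugate to its inverse in the quotient. -/
theorem Ctx.exists_unipotent (hc : Ctx P) (hk : π.ker = Z P) (hπ : Function.Surjective π)
    (hZ : Z P = ⊥) (h2 : (2 : K) ≠ 0) {l : ℕ} [Fact l.Prime] [CharP K l] :
    (∀ i : K, i * i ≠ -1) ∧ ∃ g : P, g ^ l = 1 ∧
      (mat (g : GL (Fin 3) F)).trace ≠ (mat (g : GL (Fin 3) F)⁻¹).trace := by
  obtain ⟨g, hg, hne⟩ := hc.exists_not_real
  have hinj : Function.Injective π := (MonoidHom.ker_eq_bot_iff π).1 (hk.trans hZ)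
  obtain ⟨s, hs⟩ := QuotientGroup.mk'_surjective (Subgroup.center SL(2, K)) (π ⟨g, hg⟩)
  have key : ¬ ∃ w : SL(2, K), w * s * w⁻¹ = s⁻¹ := by
    rintro ⟨w, hw⟩
    obtain ⟨h, hh⟩ := hπ (toP w)
    have e : h * ⟨g, hg⟩ * h⁻¹ = (⟨g, hg⟩ : P)⁻¹ := hinj (by
      rw [map_mul, map_mul, map_inv, map_inv, hh, ← hs, toP, ← map_inv, ← map_mul, ← map_mul, hw, map_inv])
    apply hne
    have h' : (h : GL (Fin 3) F) * g * (h : GL (Fin 3) F)⁻¹ = g⁻¹ := congrArg Subtype.val e
    rw [← h']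
    exact (trace_conj _ _).symm
  refine ⟨fun i hi => key (exists_inverting h2 s (Or.inr ⟨i, hi⟩)), ⟨g, hg⟩, hinj ?_, hne⟩
  have ht : s.1.trace * s.1.trace = 4 := by_contra fun h => key (exists_inverting h2 s (Or.inl h))
  rw [map_pow, map_one, ← hs, ← map_pow]
  exact (QuotientGroup.eq_one_iff _).2 (pow_char_mem_center h2 s ht)

/-- The preimage of the root group. -/
def rootPre (π : P →* PSL(2, K)) : Set P := {g | ∃ x : K, π g = toP (ut x)}

/-- Commutative preimage: at most seven elements in the field. -/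
theorem Ctx.card_le_seven (hc : Ctx P) (hk : π.ker = Z P) (hπ : Function.Surjective π)
    (h2 : (2 : K) ≠ 0) {l : ℕ} [Fact l.Prime] [CharP K l] (hl : (l : F) ≠ 0)
    (hcomm : ∀ a ∈ rootPre π, ∀ b ∈ rootPre π, a * b = b * a) : Fintype.card K ≤ 7 := by
  classical
  by_contra hbig
  obtain ⟨B, hB⟩ : ∃ B : Subgroup P, (B : Set P) = rootPre π := ⟨
    { carrier := rootPre π
      mul_mem' := fun {a b} ⟨x, hx⟩ ⟨y, hy⟩ => ⟨x + y, by rw [map_mul, hx, hy, ut_add, toP, toP, toP, map_mul]⟩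
      one_mem' := ⟨0, by rw [map_one, ut_zero, toP, map_one]⟩
      inv_mem' := fun {a} ⟨x, hx⟩ => ⟨-x, by
        rw [map_inv, hx, inv_eq_iff_mul_eq_one, toP, toP, ← map_mul, ← ut_add, add_neg_cancel,
          ut_zero, map_one]⟩ }, rfl⟩
  have hmem : ∀ {a : P}, a ∈ B ↔ ∃ x : K, π a = toP (ut x) := fun {a} => by
    rw [← SetLike.mem_coe, hB]; rfl
  have hBc : ∀ a ∈ B, ∀ b ∈ B, a * b = b * a := fun a ha b hb =>
    hcomm a (hB ▸ ha) b (hB ▸ hb)
  -- the torus
  have hlift : ∀ c : Kˣ, ∃ g : P, π g = toP (dg c) := fun c => hπ _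
  choose d hd using hlift
  have hconj : ∀ (c : Kˣ) (a : P) (x : K), π a = toP (ut x) →
      π (d c * a * (d c)⁻¹) = toP (ut ((c : K) * c * x)) := fun c a x hx => by
    rw [map_mul, map_mul, map_inv, hd, hx, toP, toP, toP, ← map_inv, ← map_mul, ← map_mul, dg_conj,
      mul_inv_cancel_right]
  have hdB : ∀ (c : Kˣ), ∀ a ∈ B, d c * a * (d c)⁻¹ ∈ B := fun c a ha => by
    obtain ⟨x, hx⟩ := hmem.1 ha
    exact hmem.2 ⟨_, hconj c a x hx⟩
  have hdc : ∀ (c e : Kˣ) (a : P), d c * (d e * a * (d e)⁻¹) * (d c)⁻¹ =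
      d e * (d c * a * (d c)⁻¹) * (d e)⁻¹ := by
    intro c e a
    have hz : (d e * d c)⁻¹ * (d c * d e) ∈ Z P := mem_Z_of_map hk (by
      rw [map_mul, map_inv, map_mul, map_mul, hd, hd, toP, toP, ← map_mul, ← map_mul, dg_mul, dg_mul,
        mul_comm c, inv_mul_cancel])
    have hd' : d c * d e = d e * d c * ((d e * d c)⁻¹ * (d c * d e)) := by group
    calc d c * (d e * a * (d e)⁻¹) * (d c)⁻¹ = (d c * d e) * a * (d c * d e)⁻¹ := by group
      _ = (d e * d c) * a * (d e * d c)⁻¹ := by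
        rw [hd', mul_assoc (d e * d c), comm_of_mem_Z hz a]
        group
      _ = _ := by group
  have hh : ∀ (c : Kˣ) (a : P) (x : K), π a = toP (ut x) →
      π (d c * a * (d c)⁻¹ * a⁻¹) = toP (ut (((c : K) * c - 1) * x)) := fun c a x hx => by
    rw [map_mul, hconj c a x hx, map_inv, hx, toP, toP, toP, ← map_inv, ← map_mul]
    congr 1
    rw [mul_inv_eq_iff_eq_mul, ← ut_add]
    congr 1
    ring
  -- four units with different squares
  have hcard : 4 ≤ (Finset.univ.image fun c : Kˣ => (c : K) * c).card := by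
    have := Finset.card_le_mul_card_image (f := fun c : Kˣ => (c : K) * c) Finset.univ 2 (fun b hb => by
      obtain ⟨c, -, rfl⟩ := Finset.mem_image.1 hb
      refine le_trans (Finset.card_le_card (t := {c, -c}) fun e he => ?_) Finset.card_le_two
      have he' := (Finset.mem_filter.1 he).2
      rcases mul_self_eq_mul_self_iff.1 he' with h | h
      · simp [Units.ext h]
      · simp [show e = -c from Units.ext (by simpa using h)])
    rw [Finset.card_univ, Fintype.card_units] at this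
    omega
  obtain ⟨S4, hS4, hS4c⟩ := Finset.exists_subset_card_eq hcard
  have hpre : ∀ i : Fin 4, ∃ c : Kˣ, (c : K) * c = (S4.equivFinOfCardEq hS4c).symm i := fun i => by
    obtain ⟨c, -, h⟩ := Finset.mem_image.1 (hS4 ((S4.equivFinOfCardEq hS4c).symm i).2)
    exact ⟨c, h⟩
  choose cs hcs using hpre
  have hcsne : ∀ i j, i ≠ j → (cs i : K) * cs i ≠ cs j * cs j := fun i j hij e =>
    hij ((S4.equivFinOfCardEq hS4c).symm.injective (Subtype.ext (by rw [← hcs, ← hcs, e])))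
  obtain ⟨cstar, hcstar⟩ : ∃ c : Kˣ, (c : K) * c ≠ 1 := by
    by_cases h : (cs 0 : K) * cs 0 = 1
    · exact ⟨cs 1, h ▸ hcsne 1 0 (by decide)⟩
    · exact ⟨cs 0, h⟩
  -- the element
  obtain ⟨y, hy⟩ := hπ (toP (ut (1 : K)))
  have hyB : y ∈ B := hmem.2 ⟨1, hy⟩
  obtain ⟨x, hx⟩ : ∃ x, x = d cstar * y * (d cstar)⁻¹ * y⁻¹ := ⟨_, rfl⟩
  have hxB : x ∈ B := hx ▸ mul_mem (hdB _ y hyB) (inv_mem hyB)
  have hx1 : x ≠ 1 := fun e => by
    have h := hh cstar y 1 hy
    rw [← hx, e, map_one, show (1 : PSL(2, K)) = toP (ut (0 : K)) by rw [ut_zero, toP, map_one], mul_one] at h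
    exact hcstar (sub_eq_zero.1 (toP_ut_injective h).symm)
  have hxl : x ^ l = 1 := by
    have hyl : y ^ l ∈ Z P := mem_Z_of_map hk (by
      have : ∀ n : ℕ, π y ^ n = toP (ut ((n : K))) := fun n => by
        induction n with
        | zero => simp [ut_zero, toP]
        | succ n ih => rw [pow_succ, ih, hy, toP, toP, toP, ← map_mul, ← ut_add, Nat.cast_succ]
      rw [map_pow, this, CharP.cast_eq_zero, ut_zero, toP, map_one])
    have hcy : Commute (d cstar * y * (d cstar)⁻¹) y⁻¹ :=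
      hBc _ (hdB _ y hyB) _ (inv_mem hyB)
    rw [hx, hcy.mul_pow, conj_pow, inv_pow, ← comm_of_mem_Z hyl (d cstar), mul_inv_cancel_right,
      mul_inv_cancel]
  -- the characters
  obtain ⟨χ, hχ1, hχm, hχx, i, j, hij, hχij⟩ := exists_equal_chars (B.map P.subtype)
    (by
      rintro _ ⟨a, ha, rfl⟩ _ ⟨b, hb, rfl⟩
      exact congrArg P.subtype (hBc a ha b hb))
    (x := (x : GL (Fin 3) F)) ⟨x, hxB, rfl⟩ (fun e => hx1 (Subtype.ext e)) hl
    (congrArg Subtype.val hxl) (fun i => (d (cs i) : GL (Fin 3) F))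
    (fun i a ha => by
      obtain ⟨a', ha', rfl⟩ := ha
      exact ⟨_, hdB (cs i) a' ha', rfl⟩)
  apply hχx
  have hkey : ∀ a ∈ B, χ ((d (cs i) * a * (d (cs i))⁻¹ : P) : GL (Fin 3) F) =
      χ ((d (cs j) * a * (d (cs j))⁻¹ : P) : GL (Fin 3) F) := fun a ha => hχij _ ⟨a, ha, rfl⟩
  have hmB : ∀ a ∈ B, (a : GL (Fin 3) F) ∈ B.map P.subtype := fun a ha => ⟨a, ha, rfl⟩
  -- every element is a difference of the two conjugates up to a scalar
  have hsolve : ∃ w ∈ B, ∃ z ∈ Z P, y = d (cs i) * w * (d (cs i))⁻¹ * (d (cs j) * w * (d (cs j))⁻¹)⁻¹ * z := by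
    have hne0 : (cs i : K) * cs i - cs j * cs j ≠ 0 := sub_ne_zero.2 (hcsne i j hij)
    obtain ⟨w, hw⟩ := hπ (toP (ut (((cs i : K) * cs i - cs j * cs j)⁻¹)))
    refine ⟨w, hmem.2 ⟨_, hw⟩, (d (cs i) * w * (d (cs i))⁻¹ * (d (cs j) * w * (d (cs j))⁻¹)⁻¹)⁻¹ * y,
      mem_Z_of_map hk ?_, by group⟩
    rw [map_mul, map_inv, map_mul, map_inv, hconj _ w _ hw, hconj _ w _ hw, hy, toP, toP, toP,
      ← map_inv, ← map_mul, ← map_inv, ← map_mul]
    refine (congrArg _ ?_).trans (map_one _)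
    rw [mul_assoc, inv_mul_eq_iff_eq_mul, mul_one, eq_mul_inv_iff_mul_eq, ← ut_add]
    · congr 1
      linear_combination -(mul_inv_cancel₀ hne0)
  obtain ⟨w, hw, z, hz, hyw⟩ := hsolve
  -- the image of `y`
  have hw' : d cstar * w * (d cstar)⁻¹ * w⁻¹ ∈ B := mul_mem (hdB _ w hw) (inv_mem hw)
  have e : x = d (cs i) * (d cstar * w * (d cstar)⁻¹ * w⁻¹) * (d (cs i))⁻¹ *
      (d (cs j) * (d cstar * w * (d cstar)⁻¹ * w⁻¹) * (d (cs j))⁻¹)⁻¹ := by
    obtain ⟨A, hA⟩ : ∃ A, A = d (cs i) * w * (d (cs i))⁻¹ := ⟨_, rfl⟩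
    obtain ⟨C, hC⟩ : ∃ C, C = d (cs j) * w * (d (cs j))⁻¹ := ⟨_, rfl⟩
    rw [← hA, ← hC] at hyw
    have hAB : A ∈ B := hA ▸ hdB _ w hw
    have hCB : C ∈ B := hC ▸ hdB _ w hw
    have e1 : x = (d cstar * A * (d cstar)⁻¹) * (d cstar * C * (d cstar)⁻¹)⁻¹ * (A * C⁻¹)⁻¹ := by
      have h1 : d cstar * y * (d cstar)⁻¹ = (d cstar * (A * C⁻¹) * (d cstar)⁻¹) * z := by
        rw [hyw]
        calc d cstar * (A * C⁻¹ * z) * (d cstar)⁻¹ = d cstar * (A * C⁻¹) * (z * (d cstar)⁻¹) := by group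
          _ = _ := by rw [comm_of_mem_Z hz]; group
      rw [hx, h1, hyw]
      group
    rw [e1, hA, hC, hdc cstar (cs i) w, hdc cstar (cs j) w]
    have hci : d (cs i) * w * (d (cs i))⁻¹ ∈ B := hdB _ w hw
    have hcj : d (cs j) * w * (d (cs j))⁻¹ ∈ B := hdB _ w hw
    have hUi : d (cs i) * (d cstar * w * (d cstar)⁻¹) * (d (cs i))⁻¹ ∈ B := hdB _ _ (hdB _ w hw)
    have hUj : d (cs j) * (d cstar * w * (d cstar)⁻¹) * (d (cs j))⁻¹ ∈ B := hdB _ _ (hdB _ w hw)
    obtain ⟨U, hU⟩ : ∃ U, U = d (cs i) * (d cstar * w * (d cstar)⁻¹) * (d (cs i))⁻¹ := ⟨_, rfl⟩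
    obtain ⟨V, hV⟩ : ∃ V, V = d (cs j) * (d cstar * w * (d cstar)⁻¹) * (d (cs j))⁻¹ := ⟨_, rfl⟩
    rw [← hA] at hci ⊢
    rw [← hC] at hcj ⊢
    rw [← hU] at hUi ⊢
    rw [← hV] at hUj ⊢
    have r1 : d (cs i) * (d cstar * w * (d cstar)⁻¹ * w⁻¹) * (d (cs i))⁻¹ = U * A⁻¹ := by
      rw [hU, hA]; group
    have r2 : d (cs j) * (d cstar * w * (d cstar)⁻¹ * w⁻¹) * (d (cs j))⁻¹ = V * C⁻¹ := by
      rw [hV, hC]; group
    rw [r1, r2, _root_.mul_inv_rev, _root_.mul_inv_rev, inv_inv]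
    calc U * V⁻¹ * (C * A⁻¹) = U * ((V⁻¹ * C) * A⁻¹) := by group
      _ = U * (A⁻¹ * (V⁻¹ * C)) := by
        rw [hBc _ (mul_mem (inv_mem hUj) hcj) _ (inv_mem hci)]
      _ = U * (A⁻¹ * (C * V⁻¹)) := by rw [hBc _ (inv_mem hUj) _ hcj]
      _ = _ := by group
  have h1 := hkey _ hw'
  have hiB := hdB (cs i) _ hw'
  have hjB := hdB (cs j) _ hw'
  rw [e, Subgroup.coe_mul, hχm _ (hmB _ hiB) _ (hmB _ (inv_mem hjB)), h1,
    ← hχm _ (hmB _ hjB) _ (hmB _ (inv_mem hjB)), ← Subgroup.coe_mul, mul_inv_cancel, OneMemClass.coe_one, hχ1]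

/-- Noncommutative preimage: characteristic three and at most nine elements. -/
theorem Ctx.card_le_nine (hc : Ctx P) (hk : π.ker = Z P) (hπ : Function.Surjective π)
    (h2 : (2 : K) ≠ 0) {l : ℕ} [Fact l.Prime] [CharP K l]
    (hcomm : ¬ ∀ a ∈ rootPre π, ∀ b ∈ rootPre π, a * b = b * a) :
    l = 3 ∧ Z P ≠ ⊥ ∧ Fintype.card K ≤ 9 := by
  classical
  push Not at hcomm
  obtain ⟨a, ⟨x, hx⟩, b, ⟨y, hy⟩, hab⟩ := hcomm
  have hcommU : ∀ x y : K, toP (ut x) * toP (ut y) = toP (ut y) * toP (ut x) := fun x y => by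
    rw [toP, toP, ← map_mul, ← map_mul, ← ut_add, ← ut_add, add_comm]
  have hz : a * b * a⁻¹ * b⁻¹ ∈ Z P := mem_Z_of_map hk (by
    rw [map_mul, map_mul, map_mul, map_inv, map_inv, hx, hy, hcommU]; group)
  have hz1 : a * b * a⁻¹ * b⁻¹ ≠ 1 := fun e => hab (by
    calc a * b = a * b * a⁻¹ * b⁻¹ * (b * a) := by group
      _ = b * a := by rw [e, one_mul])
  have hZ : Z P ≠ ⊥ := fun h => hz1 (by rwa [h, Subgroup.mem_bot] at hz)
  have hl : l = 3 := by
    have hpow : ∀ (n : ℕ), a * b ^ n * a⁻¹ = (a * b * a⁻¹ * b⁻¹) ^ n * b ^ n := fun n => by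
      rw [← conj_pow, ← (show Commute (a * b * a⁻¹ * b⁻¹) b from comm_of_mem_Z hz b).mul_pow]
      congr 1
      group
    have hbl : b ^ l ∈ Z P := mem_Z_of_map hk (by
      have : ∀ n : ℕ, π b ^ n = toP (ut ((n : K) * y)) := fun n => by
        induction n with
        | zero => simp [ut_zero, toP]
        | succ n ih =>
          rw [pow_succ, ih, hy, toP, toP, toP, ← map_mul, ← ut_add, Nat.cast_succ, add_mul, one_mul]
      rw [map_pow, this, CharP.cast_eq_zero, zero_mul, ut_zero, toP, map_one])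
    have h := hpow l
    rw [← comm_of_mem_Z hbl a, mul_inv_cancel_right, right_eq_mul] at h
    have h3 := hc.core.pow_three hz
    by_contra hl3
    apply hz1
    have hcop : Nat.Coprime l 3 := (Nat.coprime_primes Fact.out Nat.prime_three).2 hl3
    simpa [hcop.gcd_eq_one] using pow_gcd_eq_one.2 ⟨h, h3⟩
  refine ⟨hl, hZ, ?_⟩
  have h3F : (3 : F) ≠ 0 := fun e => hZ (hc.core.Z_eq_bot_of_three e)
  choose L hL using fun u : K => hπ (toP (ut u))
  have hroot : ∀ {g : P} {u : K}, π g = toP (ut u) → ∃ z ∈ Z P, g = L u * z := fun {g u} h =>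
    ⟨(L u)⁻¹ * g, mem_Z_of_map hk (by rw [map_mul, map_inv, hL, h, inv_mul_cancel]), by group⟩
  have hadd : ∀ u v : K, ∃ z ∈ Z P, L u * L v = L (u + v) * z := fun u v => hroot (by
    rw [map_mul, hL, hL, toP, toP, toP, ← map_mul, ← ut_add])
  -- only scalars are central in the preimage
  have hcen : ∀ u : K, (∀ v, L u * L v = L v * L u) → u = 0 := by
    by_contra! h
    obtain ⟨u, hu, hu0⟩ := h
    apply hab
    have hall := add_closed_top (S := {u : K | ∀ v, L u * L v = L v * L u}) ⟨u, hu, hu0⟩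
      (fun s hs t ht v => by
        obtain ⟨z, hz', e⟩ := hadd s t
        have e' : L (s + t) = L s * L t * z⁻¹ := by rw [e]; group
        rw [e']
        have c1 : Commute (L s) (L v) := hs v
        have c2 : Commute (L t) (L v) := ht v
        exact ((c1.mul_left c2).mul_left (Commute.inv_left (comm_of_mem_Z hz' (L v)))).eq)
      (fun c hc0 s hs v => by
        obtain ⟨g, hg⟩ := hπ (toP (dg (Units.mk0 c hc0)))
        have hcj : ∀ w : K, π (g * L w * g⁻¹) = toP (ut (c * c * w)) := fun w => by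
          rw [map_mul, map_mul, map_inv, hg, hL, toP, toP, toP, ← map_inv, ← map_mul, ← map_mul, dg_conj,
            mul_inv_cancel_right, Units.val_mk0]
        obtain ⟨z, hz', e⟩ := hroot (hcj s)
        obtain ⟨z', hz'', e'⟩ := hroot (hcj (v / (c * c)))
        rw [mul_div_cancel₀ _ (mul_ne_zero hc0 hc0)] at e'
        have e1 : L (c * c * s) = g * L s * g⁻¹ * z⁻¹ := by rw [e]; group
        have e2 : L v = g * L (v / (c * c)) * g⁻¹ * z'⁻¹ := by rw [e']; group
        rw [e1, e2]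
        have c1 : Commute (g * L s * g⁻¹) (g * L (v / (c * c)) * g⁻¹) :=
          (Commute.conj_iff g).2 (hs _)
        have cz : Commute z⁻¹ (g * L (v / (c * c)) * g⁻¹ * z'⁻¹) := Commute.inv_left (comm_of_mem_Z hz' _)
        have cz' : Commute (g * L s * g⁻¹) z'⁻¹ := (Commute.inv_left (comm_of_mem_Z hz'' _)).symm
        exact ((c1.mul_right cz').mul_left cz).eq) h2
    obtain ⟨za, hza, ea⟩ := hroot hx
    obtain ⟨zb, hzb, eb⟩ := hroot hy
    rw [ea, eb]
    have cab : Commute (L x) (L y) := hall x y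
    exact ((cab.mul_right (Commute.symm (comm_of_mem_Z hzb _))).mul_left (comm_of_mem_Z hza _)).eq
  -- orthogonality for the trace form
  have horth : ∀ u v : K, u ≠ v → (mat ((L v)⁻¹ * L u : P).1).trace = 0 := by
    intro u v huv
    have hsub : π ((L v)⁻¹ * L u) = toP (ut (u - v)) := by
      rw [map_mul, map_inv, hL, hL, inv_mul_eq_iff_eq_mul, toP, toP, toP, ← map_mul, ← ut_add,
        add_sub_cancel]
    obtain ⟨z, hz', e⟩ := hroot hsub
    obtain ⟨w, hw⟩ := not_forall.1 (mt (hcen (u - v)) (sub_ne_zero.2 huv))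
    have hzw : L w * L (u - v) * (L w)⁻¹ * (L (u - v))⁻¹ ∈ Z P := mem_Z_of_map hk (by
      rw [map_mul, map_mul, map_mul, map_inv, map_inv, hL, hL, hcommU]; group)
    obtain ⟨k, hk'⟩ := mem_Z_iff.1 hzw
    have hconj : L w * ((L v)⁻¹ * L u) * (L w)⁻¹ =
        (L w * L (u - v) * (L w)⁻¹ * (L (u - v))⁻¹) * ((L v)⁻¹ * L u) := by
      rw [e, mul_assoc (L w), mul_assoc (L (u - v)), comm_of_mem_Z hz' (L w)⁻¹]
      group
    have := congrArg (fun g : P => (mat (g : GL (Fin 3) F)).trace) hconj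
    simp only [Subgroup.coe_mul _ (L w * ((L v)⁻¹ * L u)), Subgroup.coe_mul _ (L w) ((L v)⁻¹ * L u),
      Subgroup.coe_inv] at this
    rw [trace_conj, Subgroup.coe_mul _ _ ((L v)⁻¹ * L u),
      show ∀ p q : GL (Fin 3) F, mat (p * q) = mat p * mat q from fun p q => Units.val_mul p q, hk',
      Matrix.smul_mul, one_mul, Matrix.trace_smul, smul_eq_mul] at this
    have hk1 : k ≠ 1 := fun e1 => hw (by
      have e2 : L w * L (u - v) * (L w)⁻¹ * (L (u - v))⁻¹ = 1 :=
        Subtype.ext (mat_inj (hk'.trans (by rw [e1, one_smul]; simp [mat])))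
      calc L (u - v) * L w = (L w * L (u - v) * (L w)⁻¹ * (L (u - v))⁻¹) * (L (u - v) * L w) := by
            rw [e2, one_mul]
        _ = L w * L (u - v) := by group)
    have h0 : (k - 1) * (mat ((L v)⁻¹ * L u : P).1).trace = 0 := by linear_combination -this
    exact (mul_eq_zero.1 h0).resolve_left (sub_ne_zero.2 hk1)
  have hli : LinearIndependent F fun u : K => mat (L u : GL (Fin 3) F) := by
    rw [Fintype.linearIndependent_iff]
    intro c hc0 v
    have := congrArg (fun M => (mat ((L v : GL (Fin 3) F))⁻¹ * M).trace) hc0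
    simp only [Finset.mul_sum, Matrix.trace_sum, Matrix.mul_smul, Matrix.trace_smul, mul_zero,
      Matrix.trace_zero, smul_eq_mul] at this
    rw [Finset.sum_eq_single v (fun u _ huv => ?_) (fun h => absurd (Finset.mem_univ v) h),
      mat_inv_mul, Matrix.trace_one, Fintype.card_fin] at this
    · exact (mul_eq_zero.1 this).resolve_right (by exact_mod_cast h3F)
    · have h := horth u v huv
      rw [Subgroup.coe_mul, Subgroup.coe_inv,
        show ∀ p q : GL (Fin 3) F, mat (p * q) = mat p * mat q from fun p q => Units.val_mul p q] at h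
      rw [h, mul_zero]
  have := hli.fintype_card_le_finrank
  rwa [Module.finrank_matrix, Fintype.card_fin, Module.finrank_self, mul_one] at this

/-- **The linear groups of dimension two.** -/
theorem Ctx.psl_cases (hc : Ctx P) {p : ℕ} [Fact p.Prime] [CharP F p] (hk : π.ker = Z P)
    (hπ : Function.Surjective π) (hodd : Odd (Fintype.card K)) (h3 : 3 < Fintype.card K) :
    (Fintype.card K = 7 ∧ Z P = ⊥) ∨ (Fintype.card K = 9 ∧ Z P ≠ ⊥ ∧ p ≠ 3) := by
  obtain ⟨l, hl⟩ := CharP.exists K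
  haveI := hl
  obtain ⟨k, hlp, hcard⟩ := FiniteField.card K l
  haveI : Fact l.Prime := ⟨hlp⟩
  have hl2 : l ≠ 2 := fun e => by
    subst e
    rw [hcard, Nat.odd_pow_iff k.ne_zero] at hodd
    exact absurd hodd (by decide)
  have h2 : (2 : K) ≠ 0 := fun e =>
    hl2 ((Nat.prime_dvd_prime_iff_eq hlp Nat.prime_two).1
      ((CharP.cast_eq_zero_iff K l 2).1 (by exact_mod_cast e)))
  have hZ3 : l ≠ 3 → Z P = ⊥ := fun hl3 => by
    haveI : Fact (Nat.Prime 3) := ⟨Nat.prime_three⟩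
    exact hc.core.Z_eq_bot_of_cyclic hk hπ fun T =>
      CfsgLib.ClassSizePSLTwo.isCyclic_sylow_PSL (p := l) (by norm_num) (Ne.symm hl3) T
  have hlF : (l : F) ≠ 0 := by
    intro e
    have hlp' : p = l :=
      (Nat.prime_dvd_prime_iff_eq Fact.out hlp).1 ((CharP.cast_eq_zero_iff F p l).1 e)
    subst hlp'
    have hZ : Z P = ⊥ := by
      by_cases h : p = 3
      · exact hc.core.Z_eq_bot_of_three (by subst h; exact_mod_cast e)
      · exact hZ3 h
    obtain ⟨-, g, hg, hne⟩ := hc.exists_unipotent hk hπ hZ h2 (l := p)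
    apply hne
    have key : ∀ h : P, h ^ p = 1 → (mat (h : GL (Fin 3) F)).trace = 3 := by
      intro h hh
      haveI : ExpChar F p := ExpChar.prime Fact.out
      have h1 : mat (h : GL (Fin 3) F) ^ p = 1 := by
        have := congrArg (fun g : P => mat (g : GL (Fin 3) F)) hh
        simpa [mat] using this
      have h2 := trace_pow_char p (mat (h : GL (Fin 3) F))
      rw [h1, Matrix.trace_one, Fintype.card_fin] at h2
      apply frobenius_inj F p
      rw [frobenius_def, frobenius_def, ← h2, show (3 : F) = ((3 : ℕ) : F) by norm_num, ← frobenius_def,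
        map_natCast]
    rw [key g hg, ← InvMemClass.coe_inv, key g⁻¹ (by rw [inv_pow, hg, inv_one])]
  have hdvd : l ∣ Fintype.card K := hcard ▸ dvd_pow_self l k.ne_zero
  obtain ⟨j, hj⟩ := hodd
  by_cases hcomm : ∀ a ∈ rootPre π, ∀ b ∈ rootPre π, a * b = b * a
  · have h7 := hc.card_le_seven hk hπ h2 hlF hcomm
    have h57 : Fintype.card K = 5 ∨ Fintype.card K = 7 := by omega
    have hl3 : l ≠ 3 := fun e => by subst e; omega
    refine Or.inl ⟨h57.resolve_left fun h5 => ?_, hZ3 hl3⟩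
    obtain ⟨i, hi⟩ := (FiniteField.isSquare_neg_one_iff (F := K)).2 (by omega)
    exact (hc.exists_unipotent hk hπ (hZ3 hl3) h2 (l := l)).1 i hi.symm
  · obtain ⟨rfl, hZ, h9⟩ := hc.card_le_nine hk hπ h2 hcomm
    refine Or.inr ⟨by omega, hZ, fun e => hZ ?_⟩
    subst e
    exact hc.core.Z_eq_bot_of_three (by exact_mod_cast CharP.cast_eq_zero F 3)

end Main

end CfsgLib.PGLThree
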