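import Cfsg.Agent.PGLThree.TypesSeven
import Cfsg.Agent.PGLThree.TypesPSL
import Cfsg.Agent.S0483
import Cfsg.Agent.S0254
import Cfsg.Agent.S0255

/-!
# The types of the cores with dihedral Sylow two-subgroups
-/

set_option autoImplicit false
set_option linter.unusedSectionVars false
set_option linter.style.haveILetI false

namespace CfsgLib.PGLThree

open Matrix Cfsg.Geo CfsgLib.Aschbacher
open scoped MatrixGroups

variable {F : Type*} [Field F] [Finite F] {P : Subgroup (GL (Fin 3) F)}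

theorem Core.oddCore_eq_bot_of_even (hc : Core P) (h2 : 2 ∣ Nat.card (P ⧸ Z P)) :
    Cfsg.oddCore (P ⧸ Z P) = ⊥ := by
  haveI := hc.simple
  rcases (inferInstance : (Cfsg.oddCore (P ⧸ Z P)).Normal).eq_bot_or_eq_top with h | h
  · exact h
  · exfalso
    have hodd : Odd (Nat.card (Cfsg.oddCore (P ⧸ Z P))) := CfsgLib.Inv54.odd_card_oddCore
    rw [h, Subgroup.card_top] at hodd
    exact hodd.not_two_dvd_nat h2

/-- **Types.** The cores with dihedral Sylow two-subgroups in the simple quotient. -/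
theorem types {p : ℕ} [Fact p.Prime] [CharP F p] (hc : Ctx P) (T : Sylow 2 (P ⧸ Z P)) (n : ℕ)
    (hn : 2 ≤ n) (e : T ≃* DihedralGroup n)
    (h7 : p = 2 → ∃ t : P ⧸ Z P, orderOf t = 2 ∧
      IsPGroup 2 (Subgroup.centralizer ({t} : Set (P ⧸ Z P)))) :
    (Nonempty ((P ⧸ Z P) ≃* Matrix.ProjectiveSpecialLinearGroup (Fin 3) (ZMod 2)) ∧ Z P = ⊥) ∨
      (Nonempty ((P ⧸ Z P) ≃* alternatingGroup (Fin 6)) ∧ Z P ≠ ⊥ ∧ p ≠ 3) ∨
      (Nonempty ((P ⧸ Z P) ≃* alternatingGroup (Fin 7)) ∧ p = 5) := by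
  haveI := hc.core.simple
  haveI : Group.IsPerfect (P ⧸ Z P) := by
    refine ⟨((inferInstance : (commutator (P ⧸ Z P)).Normal).eq_bot_or_eq_top).resolve_left fun h => ?_⟩
    refine hc.core.nonabelian ⟨⟨fun a b => ?_⟩⟩
    have hab := Subgroup.commutator_mem_commutator (Subgroup.mem_top a) (Subgroup.mem_top b)
    rw [← commutator_def, h, Subgroup.mem_bot, commutatorElement_eq_one_iff_mul_comm] at hab
    exact hab
  have h2 : 2 ∣ Nat.card (P ⧸ Z P) := by
    refine dvd_trans ?_ (T : Subgroup (P ⧸ Z P)).card_subgroup_dvd_card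
    rw [Nat.card_congr e.toEquiv, DihedralGroup.nat_card]
    exact dvd_mul_right 2 n
  have ι := (QuotientGroup.quotientMulEquivOfEq (hc.core.oddCore_eq_bot_of_even h2)).trans
    QuotientGroup.quotientBot
  rcases Cfsg.Agent.S0483.result T n hn ⟨e⟩ with ⟨K, _, _, hodd, h3, ⟨f⟩⟩ | hf
  · have φ := ι.symm.trans f
    have hk : (φ.toMonoidHom.comp (proj P)).ker = Z P := by
      rw [MonoidHom.ker_comp_of_injective (proj P) φ.toMonoidHom φ.injective, QuotientGroup.ker_mk']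
    rcases hc.psl_cases (p := p) hk (φ.surjective.comp (QuotientGroup.mk'_surjective _)) hodd h3 with
      ⟨hK, hZ⟩ | ⟨hK, hZ, hp⟩
    · haveI : Fact (Nat.Prime 2) := ⟨Nat.prime_two⟩
      obtain ⟨g⟩ := Cfsg.Agent.S0255.result (F := K) (K := ZMod 2) hK (ZMod.card 2)
      exact Or.inl ⟨⟨φ.trans g⟩, hZ⟩
    · obtain ⟨g⟩ := Cfsg.Agent.S0254.result (F := K) hK
      exact Or.inr (Or.inl ⟨⟨φ.trans g⟩, hZ, hp⟩)
  · obtain ⟨f⟩ := hf
    have φ := ι.symm.trans f
    have hk : (φ.toMonoidHom.comp (proj P)).ker = Z P := by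
      rw [MonoidHom.ker_comp_of_injective (proj P) φ.toMonoidHom φ.injective, QuotientGroup.ker_mk']
    refine Or.inr (Or.inr ⟨⟨φ⟩, hc.core.char_of_seven (φ.toMonoidHom.comp (proj P))
      (φ.surjective.comp (QuotientGroup.mk'_surjective _)) hk fun h2F => ?_⟩)
    have hp2 : p = 2 := (Nat.prime_dvd_prime_iff_eq Fact.out Nat.prime_two).1
      ((CharP.cast_eq_zero_iff F p 2).1 (by exact_mod_cast h2F))
    obtain ⟨t, ht, hP⟩ := h7 hp2
    obtain ⟨τ, hτ, hcomm⟩ := exists_three_commute (φ t) ((MulEquiv.orderOf_eq φ t).trans ht)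
    have hmem : φ.symm τ ∈ Subgroup.centralizer ({t} : Set (P ⧸ Z P)) := by
      rw [Subgroup.mem_centralizer_singleton_iff]
      apply φ.injective
      rw [map_mul, map_mul, MulEquiv.apply_symm_apply]
      exact hcomm.eq
    obtain ⟨k, hk'⟩ := hP ⟨_, hmem⟩
    have h3 : orderOf (φ.symm τ) ∣ 2 ^ k := orderOf_dvd_of_pow_eq_one (congrArg Subtype.val hk')
    rw [MulEquiv.orderOf_eq, hτ] at h3
    exact absurd (Nat.prime_three.dvd_of_dvd_pow h3) (by norm_num)

end CfsgLib.PGLThree
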