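import Cfsg.Agent.PGLThree.Reduce
import Cfsg.Agent.PGLThree.Endgame
import Cfsg.Agent.PGLThree.Double
import Cfsg.Agent.PGLThree.NoFlag
import Cfsg.Agent.PGLThree.Types

/-!
# The simple quotient
-/

set_option autoImplicit false
set_option linter.unusedSectionVars false

namespace CfsgLib.PGLThree

open Matrix Cfsg.Geo CfsgLib.MaxSub CfsgLib.SLThree

variable {F : Type*} [Field F] [Fintype F] {P : Subgroup (GL (Fin 3) F)}

/-- The simple quotient is `L₂(7)`, `A₆` or, in characteristic five, `A₇`. -/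
theorem classify (p : ℕ) [hp : Fact p.Prime] [CharP F p] (hc : Ctx P)
    (hflag : ∀ v a, SLThree.Flag P v a → Double P) :
    (Nonempty ((P ⧸ Z P) ≃* Matrix.ProjectiveSpecialLinearGroup (Fin 3) (ZMod 2)) ∧ Z P = ⊥) ∨
      (Nonempty ((P ⧸ Z P) ≃* alternatingGroup (Fin 6)) ∧ Z P ≠ ⊥ ∧ p ≠ 3) ∨
      (Nonempty ((P ⧸ Z P) ≃* alternatingGroup (Fin 7)) ∧ p = 5) := by
  obtain ⟨T⟩ : Nonempty (Sylow 2 (P ⧸ Z P)) := inferInstance
  by_cases hfl : ∃ v a, SLThree.Flag P v a
  · obtain ⟨v, a, h⟩ := hfl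
    obtain ⟨-, hT, ht⟩ := double_cases hc (hflag v a h)
    obtain ⟨eT⟩ := hT T
    exact types hc T 4 (by norm_num) eT fun _ => ht
  · push Not at hfl
    have hM : NoFlag P := fun v a h => hfl v a h
    obtain ⟨n, hn, ⟨eT⟩⟩ := dihedral_of_noFlag hc hM T
    refine types hc T n hn eT fun h2 => ?_
    exfalso
    haveI := hc.core.simple
    obtain ⟨E, hE⟩ := Cfsg.Agent.S0204.result (G := P ⧸ Z P) fun hcyc => hc.core.nonabelian
      (by haveI := hcyc; exact IsCyclic.commutative)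
    haveI := hE
    obtain ⟨x, hx⟩ : ∃ x : E, x ≠ 1 := by
      haveI : Nontrivial E := Finite.one_lt_card_iff_nontrivial.1 (by rw [hE.card_four]; norm_num)
      exact exists_ne 1
    obtain ⟨u, hu, -⟩ := hc.core.exists_involution_lift (s := (x : P ⧸ Z P))
      (by rw [Subgroup.orderOf_coe]
          exact orderOf_eq_prime (by rw [← hE.exponent_two]; exact Monoid.pow_exponent_eq_one x) hx)
    obtain ⟨v, a, h, -⟩ := exists_flag_of_sq (by subst h2; exact_mod_cast CharP.cast_eq_zero F 2) u.2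
      (show (u : GL (Fin 3) F) * u = 1 by rw [← Subgroup.coe_mul, ← pow_two, ← hu, pow_orderOf_eq_one]; rfl)
      (fun h => by rw [show u = 1 from Subtype.ext h, orderOf_one] at hu; omega)
    exact hfl v a h

end CfsgLib.PGLThree
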