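import Mathlib.GroupTheory.SpecificGroups.Alternating
import Mathlib.GroupTheory.Perm.Cycle.Type
import Mathlib.LinearAlgebra.Matrix.ProjectiveSpecialLinearGroup
import Mathlib.LinearAlgebra.Matrix.GeneralLinearGroup.Card
import Mathlib.GroupTheory.Perm.Cycle.Concrete

/-!
# Inverses and squares in `A₆`, `A₇` and `L₃(2)`

Every element of `A₆` is conjugate to its inverse, in `A₇` and `L₃(2)` every element which is not of
order seven; the elements of order seven are conjugate to their squares.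
-/

set_option autoImplicit false
set_option linter.unusedSectionVars false

namespace CfsgLib.PGLThree

open Equiv Equiv.Perm

/-- A representative with a witness gives the property for its cycle type. -/
theorem alt_of_rep {n : ℕ} (s : alternatingGroup (Fin n)) (r h : Perm (Fin n)) (k m : ℕ)
    (ht : (s : Perm (Fin n)).cycleType = r.cycleType) (hh : sign h = 1) (hc : h * r * h⁻¹ = r ^ k)
    (hm : r ^ m = 1) : s ^ m = 1 ∧ IsConj s (s ^ k) := by
  obtain ⟨π, hπ⟩ := isConj_iff.1 (isConj_iff_cycleType_eq.2 ht.symm)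
  refine ⟨Subtype.ext ?_, isConj_iff.2 ⟨⟨π * h * π⁻¹, ?_⟩, Subtype.ext ?_⟩⟩
  · rw [SubmonoidClass.coe_pow, ← hπ, conj_pow, hm, mul_one, mul_inv_cancel, OneMemClass.coe_one]
  · rw [Equiv.Perm.mem_alternatingGroup, map_mul, map_mul, map_inv, hh, mul_one, mul_inv_cancel]
  · simp only [Subgroup.coe_mul, InvMemClass.coe_inv, SubmonoidClass.coe_pow]
    rw [← hπ, conj_pow, ← hc]
    group

theorem parts_cases (m : Multiset ℕ) (h2 : ∀ x ∈ m, 2 ≤ x) (h7 : m.sum ≤ 7)
    (he : Even (m.sum + m.card)) :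
    m ∈ [{}, {3}, {2, 2}, {5}, {3, 3}, {4, 2}, {3, 2, 2}, ({7} : Multiset ℕ)] := by
  have hcard : m.card ≤ 3 := by
    have : m.card * 2 ≤ m.sum := by simpa using Multiset.card_nsmul_le_sum h2
    omega
  rcases show m.card = 0 ∨ m.card = 1 ∨ m.card = 2 ∨ m.card = 3 by omega with h | h | h | h
  · rw [Multiset.card_eq_zero.1 h]; decide
  · obtain ⟨a, rfl⟩ := Multiset.card_eq_one.1 h
    have ha := h2 a (by simp)
    simp only [Multiset.sum_singleton, Multiset.card_singleton] at h7 he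
    interval_cases a <;> first | decide | exact absurd he (by decide)
  · obtain ⟨a, b, rfl⟩ := Multiset.card_eq_two.1 h
    have ha := h2 a (by simp)
    have hb := h2 b (by simp)
    simp only [Multiset.insert_eq_cons, Multiset.sum_cons, Multiset.sum_singleton, Multiset.card_cons,
      Multiset.card_singleton] at h7 he
    have ha' : a ≤ 5 := by omega
    interval_cases a
    all_goals have hb' : b ≤ 5 := by omega
    all_goals interval_cases b
    all_goals first | omega | decide | exact absurd he (by decide)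
  · obtain ⟨a, b, c, rfl⟩ := Multiset.card_eq_three.1 h
    have ha := h2 a (by simp)
    have hb := h2 b (by simp)
    have hc := h2 c (by simp)
    simp only [Multiset.insert_eq_cons, Multiset.sum_cons, Multiset.sum_singleton, Multiset.card_cons,
      Multiset.card_singleton] at h7 he
    have ha' : a ≤ 3 := by omega
    have hb' : b ≤ 3 := by omega
    have hc' : c ≤ 3 := by omega
    interval_cases a <;> interval_cases b <;> interval_cases c <;>
      first | omega | decide | exact absurd he (by decide)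

theorem even_parts {n : ℕ} (s : alternatingGroup (Fin n)) :
    Even ((s : Perm (Fin n)).cycleType.sum + (s : Perm (Fin n)).cycleType.card) := by
  have h := Equiv.Perm.mem_alternatingGroup.1 s.2
  rw [sign_of_cycleType] at h
  rcases Nat.even_or_odd ((s : Perm (Fin n)).cycleType.sum + (s : Perm (Fin n)).cycleType.card) with
    he | ho
  · exact he
  · rw [ho.neg_one_pow] at h
    exact absurd h (by decide)

theorem cycleType_seven (s : alternatingGroup (Fin 7)) :
    (s : Perm (Fin 7)).cycleType ∈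
      [{}, {3}, {2, 2}, {5}, {3, 3}, {4, 2}, {3, 2, 2}, ({7} : Multiset ℕ)] :=
  parts_cases _ (fun _ h => two_le_of_mem_cycleType h)
    ((sum_cycleType_le _).trans (Fintype.card_fin 7).le) (even_parts s)

theorem cycleType_six (s : alternatingGroup (Fin 6)) :
    (s : Perm (Fin 6)).cycleType ∈ [{}, {3}, {2, 2}, {5}, {3, 3}, ({4, 2} : Multiset ℕ)] := by
  have h6 : (s : Perm (Fin 6)).cycleType.sum ≤ 6 := (sum_cycleType_le _).trans (Fintype.card_fin 6).le
  have h := parts_cases _ (fun _ h => two_le_of_mem_cycleType h) (h6.trans (by norm_num)) (even_parts s)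
  simp only [List.mem_cons, List.not_mem_nil, or_false] at h ⊢
  rcases h with h | h | h | h | h | h | h | h
  all_goals first | (rw [h] at h6; exact absurd h6 (by decide)) | (rw [h]; simp)

theorem isConj_inv_of_pow {G : Type*} [Group G] {s : G} {m : ℕ} (h : s ^ (m + 1) = 1)
    (hc : IsConj s (s ^ m)) : IsConj s s⁻¹ := by
  rwa [← eq_inv_of_mul_eq_one_left (a := s ^ m) (b := s) (by rw [← pow_succ]; exact h)]

/-- Every element of `A₆` has order at most five and is conjugate to its inverse. -/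
theorem alt_six_classes (s : alternatingGroup (Fin 6)) :
    (s ^ 4 = 1 ∨ s ^ 3 = 1 ∨ s ^ 5 = 1) ∧ IsConj s s⁻¹ := by
  have h := cycleType_six s
  simp only [List.mem_cons, List.not_mem_nil, or_false] at h
  rcases h with h | h | h | h | h | h
  · have : s = 1 := Subtype.ext (cycleType_eq_zero.1 h)
    subst this
    exact ⟨Or.inl (one_pow _), by rw [inv_one]⟩
  · obtain ⟨h1, h2⟩ := alt_of_rep s (c[0, 1, 2]) (c[1, 2] * c[4, 5]) 2 3 (h.trans (by decide +kernel))
      (by decide +kernel) (by decide +kernel) (by decide +kernel)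
    exact ⟨Or.inr (Or.inl h1), isConj_inv_of_pow h1 h2⟩
  · obtain ⟨h1, h2⟩ := alt_of_rep s (c[0, 1] * c[2, 3]) 1 1 2 (h.trans (by decide +kernel))
      (by decide +kernel) (by decide +kernel) (by decide +kernel)
    exact ⟨Or.inl (by rw [show (4 : ℕ) = 2 * 2 from rfl, pow_mul, h1, one_pow]), isConj_inv_of_pow h1 h2⟩
  · obtain ⟨h1, h2⟩ := alt_of_rep s (c[0, 1, 2, 3, 4]) (c[1, 4] * c[2, 3]) 4 5 (h.trans (by decide +kernel))
      (by decide +kernel) (by decide +kernel) (by decide +kernel)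
    exact ⟨Or.inr (Or.inr h1), isConj_inv_of_pow h1 h2⟩
  · obtain ⟨h1, h2⟩ := alt_of_rep s (c[0, 1, 2] * c[3, 4, 5]) (c[1, 2] * c[4, 5]) 2 3
      (h.trans (by decide +kernel)) (by decide +kernel) (by decide +kernel) (by decide +kernel)
    exact ⟨Or.inr (Or.inl h1), isConj_inv_of_pow h1 h2⟩
  · obtain ⟨h1, h2⟩ := alt_of_rep s (c[0, 1, 2, 3] * c[4, 5]) (c[1, 3] * c[4, 5]) 3 4
      (h.trans (by decide +kernel)) (by decide +kernel) (by decide +kernel) (by decide +kernel)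
    exact ⟨Or.inl h1, isConj_inv_of_pow h1 h2⟩

/-- The elements of `A₇`. -/
theorem alt_seven_classes (s : alternatingGroup (Fin 7)) :
    ((s ^ 4 = 1 ∨ s ^ 5 = 1 ∨ s ^ 6 = 1) ∧ IsConj s s⁻¹) ∨ (s ^ 7 = 1 ∧ IsConj s (s ^ 2)) := by
  have h := cycleType_seven s
  simp only [List.mem_cons, List.not_mem_nil, or_false] at h
  have h6 : ∀ {m : ℕ}, m ∣ 6 → s ^ m = 1 → s ^ 6 = 1 := fun ⟨j, hj⟩ hm => by
    rw [hj, pow_mul, hm, one_pow]
  rcases h with h | h | h | h | h | h | h | h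
  · have : s = 1 := Subtype.ext (cycleType_eq_zero.1 h)
    subst this
    exact Or.inl ⟨Or.inl (one_pow _), by rw [inv_one]⟩
  · obtain ⟨h1, h2⟩ := alt_of_rep s (c[0, 1, 2]) (c[1, 2] * c[5, 6]) 2 3 (h.trans (by decide +kernel))
      (by decide +kernel) (by decide +kernel) (by decide +kernel)
    exact Or.inl ⟨Or.inr (Or.inr (h6 (by norm_num) h1)), isConj_inv_of_pow h1 h2⟩
  · obtain ⟨h1, h2⟩ := alt_of_rep s (c[0, 1] * c[2, 3]) 1 1 2 (h.trans (by decide +kernel))
      (by decide +kernel) (by decide +kernel) (by decide +kernel)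
    exact Or.inl ⟨Or.inr (Or.inr (h6 (by norm_num) h1)), isConj_inv_of_pow h1 h2⟩
  · obtain ⟨h1, h2⟩ := alt_of_rep s (c[0, 1, 2, 3, 4]) (c[1, 4] * c[2, 3]) 4 5 (h.trans (by decide +kernel))
      (by decide +kernel) (by decide +kernel) (by decide +kernel)
    exact Or.inl ⟨Or.inr (Or.inl h1), isConj_inv_of_pow h1 h2⟩
  · obtain ⟨h1, h2⟩ := alt_of_rep s (c[0, 1, 2] * c[3, 4, 5]) (c[1, 2] * c[4, 5]) 2 3
      (h.trans (by decide +kernel)) (by decide +kernel) (by decide +kernel) (by decide +kernel)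
    exact Or.inl ⟨Or.inr (Or.inr (h6 (by norm_num) h1)), isConj_inv_of_pow h1 h2⟩
  · obtain ⟨h1, h2⟩ := alt_of_rep s (c[0, 1, 2, 3] * c[4, 5]) (c[1, 3] * c[4, 5]) 3 4
      (h.trans (by decide +kernel)) (by decide +kernel) (by decide +kernel) (by decide +kernel)
    exact Or.inl ⟨Or.inl h1, isConj_inv_of_pow h1 h2⟩
  · obtain ⟨h1, h2⟩ := alt_of_rep s (c[0, 1, 2] * c[3, 4] * c[5, 6]) (c[1, 2] * c[5, 6]) 5 6
      (h.trans (by decide +kernel)) (by decide +kernel) (by decide +kernel) (by decide +kernel)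
    exact Or.inl ⟨Or.inr (Or.inr h1), isConj_inv_of_pow h1 h2⟩
  · obtain ⟨h1, h2⟩ := alt_of_rep s (c[0, 1, 2, 3, 4, 5, 6]) (c[1, 2, 4] * c[3, 6, 5]) 2 7
      (h.trans (by decide +kernel)) (by decide +kernel) (by decide +kernel) (by decide +kernel)
    exact Or.inr ⟨h1, h2⟩

/-- `A₆` has an element of order five. -/
theorem alt_six_exists_five : ∃ s : alternatingGroup (Fin 6), s ^ 5 = 1 ∧ s ≠ 1 :=
  ⟨⟨c[0, 1, 2, 3, 4], Equiv.Perm.mem_alternatingGroup.2 (by decide +kernel)⟩, Subtype.ext (by decide +kernel),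
    fun h => absurd (congrArg Subtype.val h) (by decide +kernel)⟩

/-- A `3 × 3` matrix over two elements as a tuple. -/
abbrev Mt : Type := (ZMod 2 × ZMod 2 × ZMod 2) × (ZMod 2 × ZMod 2 × ZMod 2) × (ZMod 2 × ZMod 2 × ZMod 2)

def mtDot (r c : ZMod 2 × ZMod 2 × ZMod 2) : ZMod 2 := r.1 * c.1 + r.2.1 * c.2.1 + r.2.2 * c.2.2

def mtMul (a b : Mt) : Mt :=
  let c0 := (b.1.1, b.2.1.1, b.2.2.1)
  let c1 := (b.1.2.1, b.2.1.2.1, b.2.2.2.1)
  let c2 := (b.1.2.2, b.2.1.2.2, b.2.2.2.2)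
  ((mtDot a.1 c0, mtDot a.1 c1, mtDot a.1 c2), (mtDot a.2.1 c0, mtDot a.2.1 c1, mtDot a.2.1 c2),
    (mtDot a.2.2 c0, mtDot a.2.2 c1, mtDot a.2.2 c2))

def mtDet (a : Mt) : ZMod 2 :=
  a.1.1 * (a.2.1.2.1 * a.2.2.2.2 + a.2.1.2.2 * a.2.2.2.1)
    + a.1.2.1 * (a.2.1.1 * a.2.2.2.2 + a.2.1.2.2 * a.2.2.1)
    + a.1.2.2 * (a.2.1.1 * a.2.2.2.1 + a.2.1.2.1 * a.2.2.1)

def mtOne : Mt := ((1, 0, 0), (0, 1, 0), (0, 0, 1))

set_option synthInstance.maxSize 1000 in
set_option synthInstance.maxHeartbeats 200000 in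
theorem mt_classes : ∀ a : Mt, mtDet a = 1 →
    ((mtMul (mtMul a a) (mtMul a a) = mtOne ∨ mtMul (mtMul a a) a = mtOne) ∧
        ∃ h : Mt, mtDet h = 1 ∧ mtMul a (mtMul h a) = h) ∨
      (mtMul (mtMul (mtMul a a) (mtMul a a)) (mtMul (mtMul a a) a) = mtOne ∧
        ∃ h : Mt, mtDet h = 1 ∧ mtMul h a = mtMul (mtMul a a) h) := by
  decide +kernel

open Matrix

def mtOf (M : Matrix (Fin 3) (Fin 3) (ZMod 2)) : Mt :=
  ((M 0 0, M 0 1, M 0 2), (M 1 0, M 1 1, M 1 2), (M 2 0, M 2 1, M 2 2))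

def mtMat (a : Mt) : Matrix (Fin 3) (Fin 3) (ZMod 2) :=
  !![a.1.1, a.1.2.1, a.1.2.2; a.2.1.1, a.2.1.2.1, a.2.1.2.2; a.2.2.1, a.2.2.2.1, a.2.2.2.2]

theorem mtOf_mtMat (a : Mt) : mtOf (mtMat a) = a := rfl

theorem mtOf_injective : Function.Injective mtOf := by
  intro M N h
  simp only [mtOf, Prod.mk.injEq] at h
  ext i j
  fin_cases i <;> fin_cases j <;> simp [h]

theorem mtOf_mul (M N : Matrix (Fin 3) (Fin 3) (ZMod 2)) : mtOf (M * N) = mtMul (mtOf M) (mtOf N) := by
  simp [mtOf, mtMul, mtDot, Matrix.mul_apply, Fin.sum_univ_three]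

theorem mtDet_of (M : Matrix (Fin 3) (Fin 3) (ZMod 2)) : mtDet (mtOf M) = M.det := by
  rw [Matrix.det_fin_three]
  simp only [mtDet, mtOf, CharTwo.sub_eq_add]
  ring

theorem mtOf_one : mtOf (1 : Matrix (Fin 3) (Fin 3) (ZMod 2)) = mtOne := rfl

/-- The elements of `L₃(2)`. -/
theorem sl_three_two_classes (s : Matrix.SpecialLinearGroup (Fin 3) (ZMod 2)) :
    ((s ^ 4 = 1 ∨ s ^ 3 = 1) ∧ IsConj s s⁻¹) ∨ (s ^ 7 = 1 ∧ IsConj s (s ^ 2)) := by
  have hmk : ∀ h : Mt, mtDet h = 1 → ∃ g : Matrix.SpecialLinearGroup (Fin 3) (ZMod 2), mtOf g.1 = h :=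
    fun h hh => ⟨⟨mtMat h, by rw [← mtDet_of, mtOf_mtMat, hh]⟩, mtOf_mtMat h⟩
  have hext : ∀ g k : Matrix.SpecialLinearGroup (Fin 3) (ZMod 2), mtOf g.1 = mtOf k.1 → g = k :=
    fun g k h => Subtype.ext (mtOf_injective h)
  have h := mt_classes (mtOf s.1) (by rw [mtDet_of]; exact s.2)
  simp only [← mtOf_mul, ← mtOf_one] at h
  rcases h with ⟨hp, g, hg, he⟩ | ⟨hp, g, hg, he⟩ <;> obtain ⟨g, rfl⟩ := hmk g hg <;>
    simp only [← mtOf_mul] at he
  · refine Or.inl ⟨hp.imp (fun h => hext _ _ ?_) (fun h => hext _ _ ?_), isConj_iff.2 ⟨g, ?_⟩⟩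
    · simpa [pow_succ, mul_assoc] using h
    · simpa [pow_succ, mul_assoc] using h
    · have e : s * (g * s) = g := hext _ _ (by simpa using he)
      rw [eq_inv_iff_mul_eq_one]
      calc g * s * g⁻¹ * s = s⁻¹ * (s * (g * s)) * g⁻¹ * s := by group
        _ = 1 := by rw [e]; group
  · refine Or.inr ⟨hext _ _ (by simpa [pow_succ, mul_assoc] using hp), isConj_iff.2 ⟨g, ?_⟩⟩
    have e : g * s = s * s * g := hext _ _ (by simpa using he)
    rw [e, pow_two, mul_inv_cancel_right]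

end CfsgLib.PGLThree
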