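import Cfsg.Agent.PGLThree.Forms

/-!
# The common hypotheses

The hypotheses shared by the linear and the unitary case: traces generate the field, there is no
complete root group and no quadratic form is fixed. Then not all traces are real.
-/

set_option autoImplicit false
set_option linter.unusedSectionVars false

namespace CfsgLib.PGLThree

open Matrix Cfsg.Geo CfsgLib.Aschbacher CfsgLib.MaxSub

variable {F : Type*} [Field F]

/-- A core without complete root group and without quadratic form, whose traces generate the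
field. -/
structure Ctx (P : Subgroup (GL (Fin 3) F)) : Prop where
  core : Core P
  gen : ∀ F₀ : Subfield F, (∀ g ∈ P, (mat g).trace ∈ F₀) → F₀ = ⊤
  noRoot : ∀ v a : Fin 3 → F, v ≠ 0 → a ≠ 0 → ¬ RootIn P v a
  noQuad : ¬ ∃ Q, IsNondegenerateQuadraticForm Q ∧ FixesQuadForm (matrixSet P) Q

theorem gen_of_residual [Finite F] {H P : Subgroup (GL (Fin 3) F)} (h : IsResidualCore H P)
    (F₀ : Subfield F) (htr : ∀ g ∈ P, (mat g).trace ∈ F₀) : F₀ = ⊤ :=
  by_contra fun hne => h.no_subfield F₀ hne (realisable_of_traces h.absIrred htr)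

variable {P : Subgroup (GL (Fin 3) F)}

theorem trace_conj (g x : GL (Fin 3) F) : (mat (g * x * g⁻¹)).trace = (mat x).trace := by
  have : mat (g * x * g⁻¹) = mat g * mat x * mat g⁻¹ := by simp [mat, Units.val_mul]
  rw [this, Matrix.trace_mul_cycle, mat_inv_mul, one_mul]

theorem trace_eq_of_isConj {x y : P} (h : IsConj x y) :
    (mat (x : GL (Fin 3) F)).trace = (mat (y : GL (Fin 3) F)).trace := by
  obtain ⟨g, rfl⟩ := isConj_iff.1 h
  exact (trace_conj _ _).symm

/-- An automorphism of the field under which every trace is fixed is trivial. -/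
theorem Ctx.eq_refl_of_trace (hc : Ctx P) {τ : F ≃+* F}
    (h : ∀ g ∈ P, τ (mat g).trace = (mat g).trace) : τ = RingEquiv.refl F := by
  have hE := hc.gen ((τ : F →+* F).eqLocusField (RingHom.id F)) h
  refine RingEquiv.ext fun x => ?_
  have : x ∈ (τ : F →+* F).eqLocusField (RingHom.id F) := hE ▸ Subfield.mem_top x
  exact this

/-- Not all traces are real. -/
theorem Ctx.exists_not_real [Finite F] (hc : Ctx P) :
    ∃ g ∈ P, (mat g).trace ≠ (mat g⁻¹).trace := by
  by_contra! h
  rcases exists_form_of_traces hc.core.absIrred (RingEquiv.refl F) (fun _ => rfl) h with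
    ⟨f, hf, -⟩ | ⟨-, hQ⟩
  · exact hf.ne_refl rfl
  · exact hc.noQuad hQ

/-- If `σ` takes every trace to the trace of the inverse, the square of `σ` is trivial. -/
theorem Ctx.involutive (hc : Ctx P) {σ : F ≃+* F}
    (h : ∀ g ∈ P, σ (mat g).trace = (mat g⁻¹).trace) (a : F) : σ (σ a) = a := by
  have h2 := hc.eq_refl_of_trace (τ := σ.trans σ) fun g hg => by
    rw [RingEquiv.trans_apply, h g hg, h g⁻¹ (inv_mem hg), inv_inv]
  exact RingEquiv.congr_fun h2 a

/-- Two flags of `P` are on one axis with different centres or dually. -/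
def Double (P : Subgroup (GL (Fin 3) F)) : Prop :=
  ∃ v a w b, SLThree.Flag P v a ∧ SLThree.Flag P w b ∧ a ⬝ᵥ w = 0 ∧
    (SLThree.Indep v w ∨ SLThree.Indep a b)

theorem eq_of_incident (h : ¬ Double P) {v a w b : Fin 3 → F} (h1 : SLThree.Flag P v a)
    (h2 : SLThree.Flag P w b) (haw : a ⬝ᵥ w = 0) :
    (∃ c : F, c • v = w) ∧ ∃ c : F, c • a = b := by
  refine ⟨(SLThree.indep_or_smul h1.centre_ne w).resolve_left fun hi => h ?_,
    (SLThree.indep_or_smul h1.axis_ne b).resolve_left fun hi => h ?_⟩
  · exact ⟨v, a, w, b, h1, h2, haw, Or.inl hi⟩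
  · exact ⟨v, a, w, b, h1, h2, haw, Or.inr hi⟩

end CfsgLib.PGLThree
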