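import Cfsg.Agent.PGLThree.Plane
import Cfsg.Agent.PGLThree.Ctx

/-!
# Two opposite flags

The transvections of two opposite flags act as translations on both sides of a plane with a common
fixed point, so their scalars lie in lines over one subfield.
-/

set_option autoImplicit false
set_option linter.unusedSectionVars false

namespace CfsgLib.PGLThree

open Matrix Cfsg.Geo CfsgLib.MaxSub CfsgLib.SLThree CfsgLib.DicksonPSL2
open scoped MatrixGroups

variable {F : Type*} [Field F]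

/-- `g ↦ 1 + C (g - 1) D` for `D C = 1`. -/
noncomputable def planeHom (C : Matrix (Fin 3) (Fin 2) F) (D : Matrix (Fin 2) (Fin 3) F)
    (h : D * C = 1) : SL(2, F) →* GL (Fin 3) F :=
  MonoidHom.toHomUnits
    { toFun := fun g => 1 + C * (g.1 - 1) * D
      map_one' := by simp
      map_mul' := fun g k => by
        rw [Matrix.SpecialLinearGroup.coe_mul,
          show g.1 * k.1 - 1 = (g.1 - 1) + (k.1 - 1) + (g.1 - 1) * (k.1 - 1) by noncomm_ring]
        generalize g.1 - 1 = X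
        generalize k.1 - 1 = Y
        have e : C * X * D * (C * Y * D) = C * (X * Y) * D := by
          calc C * X * D * (C * Y * D) = C * X * (D * C) * Y * D := by simp only [Matrix.mul_assoc]
            _ = C * (X * Y) * D := by rw [h, Matrix.mul_one, Matrix.mul_assoc C X Y]
        simp only [Matrix.mul_add, Matrix.add_mul, Matrix.one_mul, Matrix.mul_one, e]
        abel }

theorem planeHom_coe (C : Matrix (Fin 3) (Fin 2) F) (D : Matrix (Fin 2) (Fin 3) F) (h : D * C = 1)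
    (g : SL(2, F)) :
    (planeHom C D h g : Matrix (Fin 3) (Fin 3) F) = 1 + C * (g.1 - 1) * D := rfl

/-- The columns `x`, `y`. -/
def cols (x y : Fin 3 → F) : Matrix (Fin 3) (Fin 2) F := Matrix.of fun i j => ![x i, y i] j

/-- The rows `x`, `y`. -/
def rows (x y : Fin 3 → F) : Matrix (Fin 2) (Fin 3) F := Matrix.of fun i j => ![x j, y j] i

theorem rows_mul_cols (a b v w : Fin 3 → F) :
    rows a b * cols v w = !![a ⬝ᵥ v, a ⬝ᵥ w; b ⬝ᵥ v, b ⬝ᵥ w] := by
  ext i j
  fin_cases i <;> fin_cases j <;> simp [rows, cols, Matrix.mul_apply, dotProduct]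

theorem cols_mul_rows (a b v w : Fin 3 → F) (p q r s : F) :
    cols v w * !![p, q; r, s] * rows a b =
      p • vecMulVec v a + q • vecMulVec v b + r • vecMulVec w a + s • vecMulVec w b := by
  ext i j
  simp only [cols, rows, Matrix.mul_apply, Fin.sum_univ_two, Matrix.of_apply, Matrix.cons_val_zero,
    Matrix.cons_val_one, Matrix.add_apply, Matrix.smul_apply, vecMulVec_apply, smul_eq_mul]
  ring

variable {P : Subgroup (GL (Fin 3) F)} {v w a b : Fin 3 → F}

/-- The two families as translations of a plane. -/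
theorem exists_planeHom (hav : a ⬝ᵥ v = 0) (hbw : b ⬝ᵥ w = 0) (haw : a ⬝ᵥ w ≠ 0) (hbv : b ⬝ᵥ v ≠ 0) :
    ∃ Φ : SL(2, F) →* GL (Fin 3) F, (∀ s, Φ (upSL s) = tv ((s / (a ⬝ᵥ w)) • v) a) ∧
      ∀ t, Φ (loSL t) = tv ((t / (b ⬝ᵥ v)) • w) b := by
  have h : rows ((b ⬝ᵥ v)⁻¹ • b) ((a ⬝ᵥ w)⁻¹ • a) * cols v w = 1 := by
    rw [rows_mul_cols]
    simp [smul_dotProduct, hav, hbw, haw, hbv, Matrix.one_fin_two]
  refine ⟨planeHom _ _ h, fun s => Units.ext ?_, fun t => Units.ext ?_⟩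
  · rw [planeHom_coe, tv_coe (by simp [dotProduct_smul, hav]), coe_upSL,
      show (!![1, s; 0, 1] : Matrix (Fin 2) (Fin 2) F) - 1 = !![0, s; 0, 0] by
        ext i j; fin_cases i <;> fin_cases j <;> simp, cols_mul_rows]
    simp [vecMulVec_smul, smul_vecMulVec, smul_smul, div_eq_mul_inv]
  · rw [planeHom_coe, tv_coe (by simp [dotProduct_smul, hbw]), coe_loSL,
      show (!![1, 0; t, 1] : Matrix (Fin 2) (Fin 2) F) - 1 = !![0, 0; t, 0] by
        ext i j; fin_cases i <;> fin_cases j <;> simp, cols_mul_rows]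
    simp [vecMulVec_smul, smul_vecMulVec, smul_smul, div_eq_mul_inv]

/-- **Two opposite flags.** -/
theorem pair [Fintype F] (p : ℕ) [Fact p.Prime] [CharP F p] (hv : Flag P v a) (hw : Flag P w b)
    (haw : a ⬝ᵥ w ≠ 0) (hbv : b ⬝ᵥ v ≠ 0) (h3 : 3 ≤ Nat.card (scal P v a hv.dot)) :
    Nat.card (scal P w b hw.dot) = Nat.card (scal P v a hv.dot) ∧
      ((∃ F₀ : Subfield F, Nat.card F₀ = Nat.card (scal P v a hv.dot) ∧
          ∀ k ∈ scal P v a hv.dot, ∀ k' ∈ scal P w b hw.dot,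
            k * k' * (a ⬝ᵥ w) * (b ⬝ᵥ v) ∈ F₀) ∨
        (p = 3 ∧ Nat.card (scal P v a hv.dot) = 3 ∧
          ∀ k ∈ scal P v a hv.dot, ∀ k' ∈ scal P w b hw.dot, k ≠ 0 → k' ≠ 0 →
            (k * k' * (a ⬝ᵥ w) * (b ⬝ᵥ v)) ^ 2 = -1)) := by
  obtain ⟨Φ, hup, hlo⟩ := exists_planeHom hv.dot hw.dot haw hbv
  let f : F →+ F := AddMonoidHom.mulRight (a ⬝ᵥ w)
  let g : F →+ F := AddMonoidHom.mulRight (b ⬝ᵥ v)
  have hf : Function.Injective f := mul_left_injective₀ haw
  have hg : Function.Injective g := mul_left_injective₀ hbv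
  set K := (scal P v a hv.dot).map f with hKdef
  set K' := (scal P w b hw.dot).map g with hK'def
  have hK : ∀ s, upSL s ∈ P.comap Φ ↔ s ∈ K := fun s => by
    rw [Subgroup.mem_comap, hup, hKdef, AddSubgroup.mem_map]
    constructor
    · exact fun h => ⟨s / (a ⬝ᵥ w), h, div_mul_cancel₀ s haw⟩
    · rintro ⟨k, hk, rfl⟩
      show tv ((k * (a ⬝ᵥ w) / (a ⬝ᵥ w)) • v) a ∈ P
      rwa [mul_div_cancel_right₀ _ haw]
  have hK' : ∀ t, loSL t ∈ P.comap Φ ↔ t ∈ K' := fun t => by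
    rw [Subgroup.mem_comap, hlo, hK'def, AddSubgroup.mem_map]
    constructor
    · exact fun h => ⟨t / (b ⬝ᵥ v), h, div_mul_cancel₀ t hbv⟩
    · rintro ⟨k, hk, rfl⟩
      show tv ((k * (b ⬝ᵥ v) / (b ⬝ᵥ v)) • w) b ∈ P
      rwa [mul_div_cancel_right₀ _ hbv]
  have hc : Nat.card K = Nat.card (scal P v a hv.dot) :=
    (Nat.card_congr ((scal P v a hv.dot).equivMapOfInjective f hf).toEquiv).symm
  have hc' : Nat.card K' = Nat.card (scal P w b hw.dot) :=
    (Nat.card_congr ((scal P w b hw.dot).equivMapOfInjective g hg).toEquiv).symm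
  have h0 : ∃ t ∈ K', t ≠ 0 := by
    obtain ⟨k, hk, hk0⟩ := hw.scal_ne_bot
    exact ⟨g k, ⟨k, hk, rfl⟩, mul_ne_zero hk0 hbv⟩
  obtain ⟨he, hcase⟩ := plane_pair p (P.comap Φ) hK hK' (hc.symm ▸ h3) h0
  refine ⟨by rw [← hc', he, hc], ?_⟩
  rcases hcase with ⟨F₀, h, hmem⟩ | ⟨hp, h, hmem⟩
  · refine Or.inl ⟨F₀, h.trans hc, fun k hk k' hk' => ?_⟩
    have := hmem (f k) ⟨k, hk, rfl⟩ (g k') ⟨k', hk', rfl⟩
    simp only [f, g, AddMonoidHom.coe_mulRight] at this
    convert this using 1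
    ring
  · refine Or.inr ⟨hp, hc.symm.trans h, fun k hk k' hk' h0 h0' => ?_⟩
    have := hmem (f k) ⟨k, hk, rfl⟩ (g k') ⟨k', hk', rfl⟩ (mul_ne_zero h0 haw)
      (mul_ne_zero h0' hbv)
    convert this using 2
    simp [f, g]
    ring

end CfsgLib.PGLThree
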