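import Cfsg.Agent.PGLThree.Nine
import Cfsg.Agent.PGLThree.Pair

/-!
# No exceptional pair without incident flags

In characteristic three an exceptional pair gives ten centres on a line. The products of their
pairings with a flag off the line are fourth roots of one, which is impossible for a quadratic form.
-/

set_option autoImplicit false
set_option linter.unusedSectionVars false

namespace CfsgLib.PGLThree

open Matrix Cfsg.Geo CfsgLib.MaxSub CfsgLib.SLThree CfsgLib.DicksonPSL2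

variable {F : Type*} [Field F] {P : Subgroup (GL (Fin 3) F)}

/-- Distinct flags are opposite. -/
theorem opposite (hd : ¬ Double P) {v a w b : Fin 3 → F} (h1 : SLThree.Flag P v a)
    (h2 : SLThree.Flag P w b) (hne : ∀ c : F, c • v ≠ w) : a ⬝ᵥ w ≠ 0 ∧ b ⬝ᵥ v ≠ 0 := by
  refine ⟨fun h => ?_, fun h => ?_⟩
  · obtain ⟨⟨c, hc⟩, -⟩ := eq_of_incident hd h1 h2 h
    exact hne c hc
  · obtain ⟨⟨c, hc⟩, -⟩ := eq_of_incident hd h2 h1 h
    have hc0 : c ≠ 0 := fun e => h1.centre_ne (by rw [← hc, e, zero_smul])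
    exact hne c⁻¹ (by rw [← hc, smul_smul, inv_mul_cancel₀ hc0, one_smul])

/-- An irreducible group moves a point off every line. -/
theorem exists_off_line (hirr : Irreducible P) {v : Fin 3 → F} (hv : v ≠ 0) (w : Fin 3 → F) :
    ∃ g ∈ P, ∀ α γ : F, α • v + γ • w ≠ (g : Matrix (Fin 3) (Fin 3) F) *ᵥ v := by
  by_contra! h
  let S : Set (Fin 3 → F) := {x | ∃ g ∈ P, (g : Matrix (Fin 3) (Fin 3) F) *ᵥ v = x}
  have hle : Submodule.span F S ≤ Submodule.span F ({v, w} : Set (Fin 3 → F)) := by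
    rw [Submodule.span_le]
    rintro _ ⟨g, hg, rfl⟩
    obtain ⟨α, γ, e⟩ := h g hg
    exact Submodule.mem_span_pair.2 ⟨α, γ, e⟩
  rcases hirr (Submodule.span F S) (fun g hg x hx => by
    induction hx using Submodule.span_induction with
    | mem x hx =>
      obtain ⟨k, hk, rfl⟩ := hx
      exact Submodule.subset_span ⟨g * k, mul_mem hg hk, by rw [Units.val_mul, mulVec_mulVec]⟩
    | zero => rw [mulVec_zero]; exact Submodule.zero_mem _
    | add a b _ _ h h' => rw [mulVec_add]; exact add_mem h h'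
    | smul c a _ h => rw [mulVec_smul]; exact Submodule.smul_mem _ c h) with e | e
  · exact hv (by
      have : v ∈ Submodule.span F S := Submodule.subset_span ⟨1, one_mem P, by simp⟩
      rwa [e, Submodule.mem_bot] at this)
  · have h1 : Module.finrank F (Submodule.span F S) ≤ 2 := by
      refine (Submodule.finrank_mono hle).trans ?_
      classical
      have := finrank_span_finset_le_card (R := F) ({v, w} : Finset (Fin 3 → F))
      simp only [Finset.coe_insert, Finset.coe_singleton] at this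
      exact this.trans Finset.card_le_two
    rw [e, finrank_top, Module.finrank_fin_fun] at h1
    omega

/-- An element of a subfield of order three satisfies `x ^ 3 = x`. -/
theorem pow_three_of_mem {F₀ : Subfield F} (h : Nat.card F₀ = 3) {x : F} (hx : x ∈ F₀) : x ^ 3 = x := by
  haveI : Finite F₀ := Nat.finite_of_card_ne_zero (by omega)
  letI := Fintype.ofFinite F₀
  have := FiniteField.pow_card (⟨x, hx⟩ : F₀)
  rw [← Nat.card_eq_fintype_card, h] at this
  exact congrArg Subtype.val this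

variable [Fintype F]

/-- The pairing of two distinct normalised flags is a fourth root of one. -/
theorem fourth_root [CharP F 3] (hd : ¬ Double P)
    (hcard : ∀ v a (h : SLThree.Flag P v a), Nat.card (scal P v a h.dot) = 3) {v a w b : Fin 3 → F}
    (h1 : SLThree.Flag P v a) (h2 : SLThree.Flag P w b) (hm1 : tv v a ∈ P) (hm2 : tv w b ∈ P)
    (hne : ∀ c : F, c • v ≠ w) : ((a ⬝ᵥ w) * (b ⬝ᵥ v)) ^ 4 = 1 := by
  obtain ⟨haw, hbv⟩ := opposite hd h1 h2 hne
  have hk : (1 : F) ∈ scal P v a h1.dot := by rw [mem_scal, one_smul]; exact hm1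
  have hk' : (1 : F) ∈ scal P w b h2.dot := by rw [mem_scal, one_smul]; exact hm2
  obtain ⟨-, hc⟩ := pair 3 h1 h2 haw hbv (hcard v a h1).ge
  rcases hc with ⟨F₀, hF₀, hmem⟩ | ⟨-, -, hmem⟩
  · have := hmem 1 hk 1 hk'
    rw [one_mul, one_mul] at this
    have h3 := pow_three_of_mem (hF₀.trans (hcard v a h1)) this
    have h2' : ((a ⬝ᵥ w) * (b ⬝ᵥ v)) ^ 2 = 1 := mul_right_cancel₀ (mul_ne_zero haw hbv)
      (by rw [one_mul, ← pow_succ]; exact h3)
    linear_combination (((a ⬝ᵥ w) * (b ⬝ᵥ v)) ^ 2 + 1) * h2'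
  · have := hmem 1 hk 1 hk' one_ne_zero one_ne_zero
    rw [one_mul, one_mul] at this
    linear_combination (((a ⬝ᵥ w) * (b ⬝ᵥ v)) ^ 2 - 1) * this

/-- **No exceptional pair.** -/
theorem no_exception [CharP F 3] (hirr : Irreducible P) (hd : ¬ Double P)
    (hcard : ∀ v a (h : SLThree.Flag P v a), Nat.card (scal P v a h.dot) = 3) {v a w b : Fin 3 → F}
    (hv : SLThree.Flag P v a) (hw : SLThree.Flag P w b) (hm1 : tv v a ∈ P) (hm2 : tv w b ∈ P)
    (hlam : ((a ⬝ᵥ w) * (b ⬝ᵥ v)) ^ 2 = -1) : False := by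
  set m := a ⬝ᵥ w with hm
  set n := b ⬝ᵥ v with hn
  have hm0 : m ≠ 0 := fun h => one_ne_zero (α := F) (by rw [h] at hlam; linear_combination hlam)
  have hn0 : n ≠ 0 := fun h => one_ne_zero (α := F) (by rw [h] at hlam; linear_combination hlam)
  obtain ⟨g, hg, hoff⟩ := exists_off_line hirr hv.centre_ne w
  set u := (g : Matrix (Fin 3) (Fin 3) F) *ᵥ v with hu
  set c := a ᵥ* ((g⁻¹ : GL (Fin 3) F) : Matrix (Fin 3) (Fin 3) F) with hc
  have hm3 : tv u c ∈ P := tv_mem_conj hg hm1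
  have huc : SLThree.Flag P u c := hv.conj hg
  let R : F → F → Prop := fun α γ => ∃ ε : F, ε ^ 4 = 1 ∧
    tv (ε • (α • v + (γ * n) • w)) (α • a - (γ * m) • b) ∈ P
  have hav := hv.dot
  have hbw := hw.dot
  have hmem1 : ∀ j : F, j = 1 ∨ j = -1 → tv (j • v) a ∈ P ∧ tv (j • w) b ∈ P := by
    rintro j (rfl | rfl)
    · exact ⟨by rwa [one_smul], by rwa [one_smul]⟩
    · exact ⟨by rw [neg_one_smul, ← tv_inv]; exact inv_mem hm1,
        by rw [neg_one_smul, ← tv_inv]; exact inv_mem hm2⟩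
  have step1 : ∀ j α γ, (j = 1 ∨ j = -1) → R α γ → R (α + j * (m * n) * γ) γ := by
    rintro j α γ hj ⟨ε, hε, hR⟩
    refine ⟨ε, hε, ?_⟩
    have := tv_mem_conj (hmem1 j hj).1 hR
    rw [tv_inv, tv_mulVec (by simp [dotProduct_smul, hav]), vecMul_tv (by simp [dotProduct_smul, hav])] at this
    convert this using 2
    · ext i
      simp [dotProduct_smul, dotProduct_add, hav, ← hm]
      ring
    · ext i
      simp [dotProduct_smul, sub_dotProduct, smul_dotProduct, hav, ← hn, dotProduct_neg]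
      ring
  have step2 : ∀ k α γ, (k = 1 ∨ k = -1) → R α γ → R α (γ + k * α) := by
    rintro k α γ hk ⟨ε, hε, hR⟩
    refine ⟨ε, hε, ?_⟩
    have := tv_mem_conj (hmem1 k hk).2 hR
    rw [tv_inv, tv_mulVec (by simp [dotProduct_smul, hbw]), vecMul_tv (by simp [dotProduct_smul, hbw])] at this
    convert this using 2
    · ext i
      simp [dotProduct_smul, dotProduct_add, hbw, ← hn]
      ring
    · ext i
      simp [dotProduct_smul, sub_dotProduct, smul_dotProduct, hbw, ← hm, dotProduct_neg]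
      ring
  have R10 : R 1 0 := ⟨1, one_pow _, by simpa using hm1⟩
  have R01 : R 0 1 := by
    refine ⟨m * n, by linear_combination ((m * n) ^ 2 - 1) * hlam, ?_⟩
    have e : (0 : F) • a - (1 * m) • b = (-m) • b := by simp
    rw [e, tv_smul_right]
    convert hm2 using 2
    ext i
    simp
    linear_combination (-(w i)) * hlam
  have R11 := step2 1 1 0 (Or.inl rfl) R10
  have R1m := step2 (-1) 1 0 (Or.inr rfl) R10
  simp only [zero_add, one_mul, neg_mul] at R11 R1m
  have hall : ∀ q ∈ tenPoints (m * n), R q.1 q.2 := by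
    simp only [tenPoints, List.forall_mem_cons, List.not_mem_nil, false_implies, implies_true, and_true]
    refine ⟨R10, R01, R11, R1m, ?_, ?_, ?_, ?_, ?_, ?_⟩
    · simpa using step1 1 0 1 (Or.inl rfl) R01
    · simpa using step1 (-1) 0 1 (Or.inr rfl) R01
    · simpa using step1 1 1 1 (Or.inl rfl) R11
    · simpa [← sub_eq_add_neg] using step1 (-1) 1 1 (Or.inr rfl) R11
    · simpa using step1 (-1) 1 (-1) (Or.inr rfl) R1m
    · simpa [← sub_eq_add_neg] using step1 1 1 (-1) (Or.inl rfl) R1m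
  have hnz : ∀ q ∈ tenPoints (m * n), q.1 ≠ 0 ∨ q.2 ≠ 0 := by
    simp [tenPoints]
  refine false_of_ten (a := (c ⬝ᵥ v) * (a ⬝ᵥ u))
    (b := n * (c ⬝ᵥ w) * (a ⬝ᵥ u) - (c ⬝ᵥ v) * (m * (b ⬝ᵥ u)))
    (c := -(n * (c ⬝ᵥ w) * (m * (b ⬝ᵥ u)))) hlam fun q hq => ?_
  obtain ⟨ε, hε, hR⟩ := hall q hq
  have hε0 : ε ≠ 0 := fun h => by rw [h] at hε; simp at hε
  have hx0 : q.1 • v + (q.2 * n) • w ≠ 0 := fun h => by
    have h1 := congrArg (a ⬝ᵥ ·) h
    have h2 := congrArg (b ⬝ᵥ ·) h
    simp [dotProduct_add, dotProduct_smul, hav, hbw, ← hm, ← hn, hm0, hn0] at h1 h2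
    rcases hnz q hq with e | e
    exacts [e h2, e h1]
  have hax0 : q.1 • a - (q.2 * m) • b ≠ 0 := fun h => by
    have h1 := congrArg (· ⬝ᵥ v) h
    have h2 := congrArg (· ⬝ᵥ w) h
    simp [sub_dotProduct, smul_dotProduct, hav, hbw, ← hm, ← hn, hm0, hn0] at h1 h2
    rcases hnz q hq with e | e
    exacts [e h2, e h1]
  have hdot : (q.1 • a - (q.2 * m) • b) ⬝ᵥ (ε • (q.1 • v + (q.2 * n) • w)) = 0 := by
    simp [sub_dotProduct, smul_dotProduct, dotProduct_add, dotProduct_smul, hav, hbw, ← hm, ← hn]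
    ring_nf
  have hX := flag_of_tv hdot (smul_ne_zero hε0 hx0) hax0 hR
  have hne : ∀ s : F, s • ε • (q.1 • v + (q.2 * n) • w) ≠ u := fun s hs =>
    hoff (s * ε * q.1) (s * ε * (q.2 * n)) (by rw [← hs, smul_add, smul_add]; simp [smul_smul, mul_assoc])
  have := fourth_root hd hcard hX huc hR hm3 hne
  simp only [sub_dotProduct, smul_dotProduct, dotProduct_smul, dotProduct_add, smul_eq_mul] at this
  simp only [quadForm]
  have e4 : (ε * ((c ⬝ᵥ v * (a ⬝ᵥ u)) * q.1 * q.1 + (n * (c ⬝ᵥ w) * (a ⬝ᵥ u) -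
      (c ⬝ᵥ v) * (m * (b ⬝ᵥ u))) * q.1 * q.2 + -(n * (c ⬝ᵥ w) * (m * (b ⬝ᵥ u))) * q.2 * q.2)) ^ 4 = 1 := by
    rw [← this]; ring
  rwa [mul_pow, hε, one_mul] at e4

end CfsgLib.PGLThree
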