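import Cfsg.Agent.AschbacherUnitary.ThreeSmallData

/-!
# Certificates for the subgroups of order 168 of the three-dimensional unitary group over 25 elements

The involutions `s` with `(xA ^ k * s) ^ 3` scalar for some `k` are moved into the overgroup of the
point list `ptsA` by one of two elements centralizing `xA`.
-/

set_option autoImplicit false
set_option maxRecDepth 100000
set_option maxHeartbeats 2000000

namespace CfsgLib.PGLThree.FiveSeven

open CfsgLib.AschbacherUnitary.Codes CfsgLib.AschbacherUnitary.ThreeSmall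

/-- Powers of a matrix of codes. -/
def powC : ℕ → M
  | 0 => oneM 5
  | k + 1 => mmC 5 2 (powC k) xA

/-- The test for a scalar matrix. -/
def isScalC (m : M) : Bool :=
  m.1.2.1 == 0 && m.1.2.2 == 0 && m.2.1.1 == 0 && m.2.1.2.2 == 0 && m.2.2.1 == 0 && m.2.2.2.1 == 0 &&
    m.2.1.2.1 == m.1.1 && m.2.2.2.2 == m.1.1

/-- The reflection `-1 + l v v̄ᵀ`. -/
def reflC (v : V) (l : ℕ) : M :=
  let r := fun (e : V) (a : ℕ) =>
    let b := smulC 5 2 (mulC 5 2 l a) (conjV 5 v)
    ((addC 5 e.1 b.1, addC 5 e.2.1 b.2.1, addC 5 e.2.2 b.2.2) : V)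
  (r (20, 0, 0) v.1, r (0, 20, 0) v.2.1, r (0, 0, 20) v.2.2)

/-- Elements centralizing `xA`. -/
def centA : List M := [
  ((16, 11, 2), (11, 11, 19), (3, 11, 14)),
  ((23, 13, 3), (13, 3, 22), (2, 8, 12))]

/-- The normalised vectors. -/
def points : List V :=
  ((List.range 25).flatMap fun j => (List.range 25).map fun k => ((5, j, k) : V)) ++
    ((List.range 25).map fun k => (0, 5, k)) ++ [(0, 0, 5)]

/-- The test on one reflection. -/
def okRefl (m : M) : Bool :=
  ((List.range 7).all fun k =>
    let a := mmC 5 2 (powC k) m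
    !(isScalC (mmC 5 2 a (mmC 5 2 a a)))) ||
  centA.any fun c => stable 5 2 ptsA (mmC 5 2 (mmC 5 2 (starC 5 c) m) c)

theorem centA_ok : (centA.all fun c => isM 5 c && mmC 5 2 (starC 5 c) c == oneM 5 &&
    mmC 5 2 c xA == mmC 5 2 xA c) = true := by decide +kernel

theorem refl_ok : (points.all fun v => (List.range 25).all fun l =>
    !(mulC 5 2 l (hermC 5 2 v v) == 10) || okRefl (reflC v l)) = true := by decide +kernel

theorem xA_seven : (isSU 5 2 xA && isM 5 xA && stable 5 2 ptsA xA && powC 7 == oneM 5 &&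
    xA != oneM 5) = true := by decide +kernel

/-- The product of `xA` with its conjugate under `lineK` has order fifteen. -/
def fifteen : M := mmC 5 2 xA (mmC 5 2 (mmC 5 2 lineK xA) (starC 5 lineK))

theorem fifteen_ok :
    (let c := mmC 5 2 fifteen (mmC 5 2 fifteen fifteen)
     let d := mmC 5 2 (mmC 5 2 c c) (mmC 5 2 c c)
     mmC 5 2 d c == oneM 5 && c != oneM 5 && isM 5 c) = true := by decide +kernel

end CfsgLib.PGLThree.FiveSeven
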