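import Cfsg.Agent.PGLThree.Setup
import Cfsg.Agent.PGLThree.FiveSevenData
import Cfsg.Agent.AschbacherUnitary.ThreeSmall
import Cfsg.Agent.Linear.Basic

/-!
# No maximal subgroup of order 168 modulo scalars in the unitary group over 25 elements

A perfect subgroup of that shape is conjugate into the stabiliser of 105 points, a triple cover of
the alternating group of degree seven, together with its normalizer.
-/

set_option autoImplicit false
set_option linter.unusedSectionVars false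

namespace CfsgLib.PGLThree

open Matrix Cfsg.Geo CfsgLib.Aschbacher CfsgLib.AschbacherUnitary CfsgLib.AschbacherUnitary.Codes
open CfsgLib.AschbacherUnitary.ThreeSmall

namespace FiveSeven

theorem card_PSL : Nat.card (Matrix.ProjectiveSpecialLinearGroup (Fin 3) (ZMod 2)) = 168 := by
  have h1 := CfsgLib.Linear.card_PSL_mul (n := Fin 3) (F := ZMod 2)
  have h2 := CfsgLib.Linear.card_SL_mul (n := Fin 3) (F := ZMod 2)
  rw [Matrix.card_GL_field, ZMod.card] at h2
  rw [ZMod.card, Fintype.card_fin] at h1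
  simp [Fin.prod_univ_three] at h2
  norm_num at h1
  rw [Nat.card_eq_fintype_card]
  omega

/-- Elements of order seven and two whose product has order three. -/
theorem exists_pair {S : Type*} [Group S]
    (e : S ≃* Matrix.ProjectiveSpecialLinearGroup (Fin 3) (ZMod 2)) :
    ∃ x s : S, orderOf x = 7 ∧ orderOf s = 2 ∧ (x * s) ^ 3 = 1 := by
  let x₀ : SpecialLinearGroup (Fin 3) (ZMod 2) :=
    ⟨!![0, 0, 1; 1, 0, 1; 0, 1, 0], by decide +kernel⟩
  let s₀ : SpecialLinearGroup (Fin 3) (ZMod 2) :=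
    ⟨!![0, 0, 1; 1, 1, 1; 1, 0, 0], by decide +kernel⟩
  let q := QuotientGroup.mk' (Subgroup.center (SpecialLinearGroup (Fin 3) (ZMod 2)))
  have hx7 : x₀ ^ 7 = 1 := by decide +kernel
  have hs2 : s₀ ^ 2 = 1 := by decide +kernel
  have hxs : (x₀ * s₀) ^ 3 = 1 := by decide +kernel
  have hne : x₀ * s₀ ≠ s₀ * x₀ := by decide +kernel
  have hx1 : q x₀ ≠ 1 := fun h =>
    hne ((Subgroup.mem_center_iff.1 ((QuotientGroup.eq_one_iff _).1 h)) s₀).symm
  have hs1 : q s₀ ≠ 1 := fun h =>
    hne ((Subgroup.mem_center_iff.1 ((QuotientGroup.eq_one_iff _).1 h)) x₀)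
  haveI : Fact (Nat.Prime 7) := ⟨by norm_num⟩
  refine ⟨e.symm (q x₀), e.symm (q s₀), ?_, ?_, ?_⟩
  · rw [MulEquiv.orderOf_eq]
    exact orderOf_eq_prime (by rw [← map_pow, hx7, map_one]) hx1
  · rw [MulEquiv.orderOf_eq]
    exact orderOf_eq_prime (by rw [← map_pow, hs2, map_one]) hs1
  · rw [← map_mul, ← map_pow, ← map_mul, ← map_pow, hxs, map_one, map_one]

/-- Such a pair generates. -/
theorem eq_top_of_pair {S : Type*} [Group S] [IsSimpleGroup S] (hS : Nat.card S = 168) {x s : S}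
    (hx : orderOf x = 7) (hs : orderOf s = 2) (hxs : (x * s) ^ 3 = 1) {L : Subgroup S}
    (hxL : x ∈ L) (hsL : s ∈ L) : L = ⊤ := by
  haveI : Finite S := Nat.finite_of_card_ne_zero (by omega)
  by_contra hL
  have h14 : 14 ∣ Nat.card L := by
    have h7 : 7 ∣ Nat.card L := hx ▸ Subgroup.orderOf_dvd_natCard _ hxL
    have h2 : 2 ∣ Nat.card L := hs ▸ Subgroup.orderOf_dvd_natCard _ hsL
    omega
  have hmul := L.card_mul_index
  rw [hS] at hmul
  have hm1 : L.index ≠ 1 := fun h => hL (Subgroup.index_eq_one.1 h)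
  have hcore : L.normalCore = ⊥ :=
    (inferInstance : L.normalCore.Normal).eq_bot_or_eq_top.resolve_right fun h =>
      hL (top_le_iff.1 (h ▸ L.normalCore_le))
  have hdvd : 168 ∣ L.index.factorial := by
    have hinj : Function.Injective (MulAction.toPermHom S (S ⧸ L)) := by
      rw [← MonoidHom.ker_eq_bot_iff, ← Subgroup.normalCore_eq_ker, hcore]
    have := Subgroup.card_dvd_of_injective _ hinj
    rwa [hS, Nat.card_perm] at this
  obtain ⟨j, hj⟩ := h14
  have hidx : L.index ∣ 12 := ⟨j, by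
    rw [hj] at hmul
    nlinarith⟩
  have hle : L.index ≤ 12 := Nat.le_of_dvd (by norm_num) hidx
  have h12 : L.index = 12 := by
    interval_cases L.index <;> simp_all [Nat.factorial]
  have hcard : Nat.card L = 14 := by
    rw [h12] at hmul
    omega
  set C : Subgroup L := Subgroup.zpowers ⟨x, hxL⟩ with hC
  have hCn : C.Normal := Subgroup.normal_of_index_eq_two (by
    have := C.card_mul_index
    rw [hcard, hC, Nat.card_zpowers, ← Subgroup.orderOf_coe] at this
    simp only [hx] at this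
    change 7 * C.index = 14 at this
    omega)
  have hmem := hCn.conj_mem ⟨x, hxL⟩ (Subgroup.mem_zpowers _) ⟨s, hsL⟩
  obtain ⟨i, hi⟩ := Subgroup.mem_zpowers_iff.1 hmem
  have hi' : x ^ i = s * x * s⁻¹ := congrArg Subtype.val hi
  have hs1 : s⁻¹ = s := inv_eq_of_mul_eq_one_right (by rw [← pow_two, ← hs, pow_orderOf_eq_one])
  have hii : x ^ (i * i) = x := by
    rw [_root_.zpow_mul, hi', conj_zpow, hi', hs1]
    calc s * (s * x * s) * s = (s * s) * x * (s * s) := by group
      _ = x := by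
        rw [show s * s = 1 by rw [← pow_two, ← hs, pow_orderOf_eq_one], one_mul, mul_one]
  have hdiv : (7 : ℤ) ∣ i * i - 1 := by
    have : ((7 : ℕ) : ℤ) ∣ i * i - 1 := by
      rw [← hx, orderOf_dvd_iff_zpow_eq_one, _root_.zpow_sub, hii, zpow_one, mul_inv_cancel]
    simpa using this
  have hcases : (7 : ℤ) ∣ i - 1 ∨ (7 : ℤ) ∣ i + 1 :=
    (Int.prime_iff_natAbs_prime.2 (by norm_num : Nat.Prime (Int.natAbs 7))).dvd_mul.1
      (by rwa [show (i - 1) * (i + 1) = i * i - 1 by ring])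
  have hne : x ≠ 1 := fun h => by rw [h, orderOf_one] at hx; omega
  rcases hcases with h | h
  · have he : x ^ i = x := by
      rw [← mul_inv_eq_one, ← _root_.zpow_sub_one, ← orderOf_dvd_iff_zpow_eq_one, hx]
      exact_mod_cast h
    have hcom : Commute x s := by
      show x * s = s * x
      calc x * s = s * x * s⁻¹ * s := by rw [← hi', he]
        _ = s * x := by group
    rw [hcom.mul_pow, show s ^ 3 = s by rw [pow_succ, ← hs, pow_orderOf_eq_one, one_mul]] at hxs
    have h7 : orderOf x = orderOf (x ^ 3) := (Nat.Coprime.orderOf_pow (by rw [hx]; norm_num)).symm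
    rw [hx, eq_inv_of_mul_eq_one_left hxs, orderOf_inv, hs] at h7
    omega
  · have he : x ^ i = x⁻¹ := by
      rw [← mul_eq_one_iff_eq_inv, ← _root_.zpow_add_one, ← orderOf_dvd_iff_zpow_eq_one, hx]
      exact_mod_cast h
    have h2 : (x * s) ^ 2 = 1 := by
      rw [pow_two]
      calc x * s * (x * s) = x * (s * x * s) := by group
        _ = 1 := by rw [← hs1] ; nth_rw 1 [hs1]; rw [← hi', he, mul_inv_cancel]
    rw [pow_succ, h2, one_mul] at hxs
    rw [eq_inv_of_mul_eq_one_left hxs, orderOf_inv, hs] at hx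
    omega

/-- Conjugacy of the cyclic subgroups of order `p`. -/
theorem exists_conj_zpowers {S : Type*} [Group S] [Finite S] {p : ℕ} [Fact p.Prime]
    (hp : (Nat.card S).factorization p = 1) {a b : S} (ha : orderOf a = p) (hb : orderOf b = p) :
    ∃ y : S, y * b * y⁻¹ ∈ Subgroup.zpowers a := by
  have hcard : ∀ c : S, orderOf c = p →
      Nat.card (Subgroup.zpowers c) = p ^ (Nat.card S).factorization p := fun c hc => by
    rw [Nat.card_zpowers, hc, hp, pow_one]
  obtain ⟨y, hy⟩ := MulAction.exists_smul_eq S (Sylow.ofCard _ (hcard b hb))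
    (Sylow.ofCard _ (hcard a ha))
  refine ⟨y, ?_⟩
  have : y * b * y⁻¹ ∈ ((Sylow.ofCard _ (hcard a ha) : Sylow p S) : Subgroup S) := by
    rw [← hy, Sylow.coe_subgroup_smul]
    exact ⟨b, Subgroup.mem_zpowers _, rfl⟩
  exact this

theorem zpowers_eq_of_mem {G : Type*} [Group G] [Finite G] {a b : G}
    (h : b ∈ Subgroup.zpowers a) (he : orderOf a = orderOf b) :
    Subgroup.zpowers b = Subgroup.zpowers a :=
  Subgroup.eq_of_le_of_card_ge (Subgroup.zpowers_le.2 h) (by simp [Nat.card_zpowers, he])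

variable {F : Type*} [Field F] [Fintype F] {σ : F ≃+* F} {w : F}

theorem factorization_GU (hF : Fintype.card F = 5 ^ 2) :
    (Nat.card (Cfsg.GU 3 F 5)).factorization 7 = 1 := by
  rw [CfsgLib.Forms.card_GU hF 3]
  norm_num [Finset.sum_range_succ, Finset.prod_range_succ, CfsgLib.Forms.u, Nat.even_iff]
  rw [show 2268000 = 7 * 324000 by norm_num, Nat.factorization_mul (by norm_num) (by norm_num),
    Finsupp.add_apply, Nat.Prime.factorization_self (by norm_num),
    Nat.factorization_eq_zero_of_not_dvd (by norm_num)]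

theorem dm_powC (C : Coded 5 2 σ w) {u : GL (Fin 3) F} (hu : mat u = dm 5 w xA) :
    ∀ k, mat (u ^ k) = dm 5 w (powC k) := by
  intro k
  induction k with
  | zero => rw [pow_zero, powC, dm_oneM C]; rfl
  | succ k ih =>
    rw [pow_succ, powC, dm_mmC C, ← ih, ← hu]
    rfl

theorem isScalC_of_scalar (C : Coded 5 2 σ w) {m : M} (hm : isM 5 m = true) {c : F}
    (h : dm 5 w m = c • 1) : isScalC m = true := by
  simp only [isM, isV, Bool.and_eq_true, decide_eq_true_eq] at hm
  obtain ⟨⟨⟨⟨ha, hb⟩, hc⟩, ⟨⟨hd, he⟩, hf⟩⟩, ⟨⟨hg, hh⟩, hi⟩⟩ := hm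
  have hz : ∀ {a : ℕ}, a < 5 * 5 → dec 5 w a = 0 → a = 0 := fun ha e =>
    dec_injective C ha (by norm_num) (e.trans dec_zero.symm)
  have key : ∀ i j, dm 5 w m i j = if i = j then c else 0 := fun i j => by
    rw [h]
    simp [Matrix.one_apply]
  simp only [isScalC, Bool.and_eq_true, beq_iff_eq]
  refine ⟨⟨⟨⟨⟨⟨⟨hz hb ?_, hz hc ?_⟩, hz hd ?_⟩, hz hf ?_⟩, hz hg ?_⟩, hz hh ?_⟩,
    dec_injective C he ha ?_⟩, dec_injective C hi ha ?_⟩
  · simpa [dm, dv] using key 0 1
  · simpa [dm, dv] using key 0 2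
  · simpa [dm, dv] using key 1 0
  · simpa [dm, dv] using key 1 2
  · simpa [dm, dv] using key 2 0
  · simpa [dm, dv] using key 2 1
  · have h1 := key 1 1
    have h0 := key 0 0
    simp [dm, dv] at h1 h0
    rw [h1, h0]
  · have h1 := key 2 2
    have h0 := key 0 0
    simp [dm, dv] at h1 h0
    rw [h1, h0]

theorem dm_reflC (C : Coded 5 2 σ w) (v : V) (l : ℕ) :
    dm 5 w (reflC v l) = -1 + dec 5 w l • vecMulVec (dv 5 w v) (fun i => σ (dv 5 w v i)) := by
  have e20 : dec 5 w 20 = -1 := by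
    rw [show (20 : ℕ) = negC 5 5 from rfl, dec_neg C, dec_one C]
  ext i j
  simp only [Matrix.add_apply, Matrix.neg_apply, Matrix.smul_apply, vecMulVec_apply]
  fin_cases i <;> fin_cases j <;>
    simp [reflC, smulC, conjV, dm, dv, dec_add C, dec_mul C, dec_conj C, e20, dec_zero,
      Matrix.one_apply] <;> ring

/-- An involution is the reflection of a normalised vector. -/
theorem exists_reflC (C : Coded 5 2 σ w) {t : GL (Fin 3) F} (ht : t ∈ SUn 3 F 5) (h2 : t * t = 1)
    (h1 : t ≠ 1) :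
    ∃ v ∈ points, ∃ l < 25, mulC 5 2 l (hermC 5 2 v v) = 10 ∧ mat t = dm 5 w (reflC v l) := by
  have htwo : (2 : F) ≠ 0 := CfsgLib.MaxSub.two_ne_zero_of_odd (by rw [C.card_eq]; decide)
  obtain ⟨e, f, ⟨hfe, g, hgz, hge⟩⟩ :=
    SLThree.exists_hom (M := Subgroup.zpowers t) htwo (Subgroup.mem_zpowers t) ht.2 h2 h1
  obtain rfl : g = t := by
    obtain ⟨n, hn⟩ := Submonoid.mem_powers_iff _ _ |>.1 ((mem_powers_iff_mem_zpowers).2 hgz)
    rcases Nat.even_or_odd' n with ⟨j, rfl | rfl⟩
    · rw [pow_mul, pow_two, h2, one_pow] at hn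
      obtain ⟨y, hy0, hy⟩ := SLThree.exists_ne_zero_dot f
      have e1 : SLThree.homMat e f *ᵥ y = -y := by
        simp [SLThree.homMat, Matrix.add_mulVec, Matrix.neg_mulVec, Matrix.smul_mulVec,
          vecMulVec_mulVec, hy]
      rw [← hge, ← hn, Units.val_one, Matrix.one_mulVec, eq_neg_iff_add_eq_zero, ← two_smul F,
        smul_eq_zero] at e1
      exact absurd (e1.resolve_left htwo) hy0
    · rwa [pow_succ, pow_mul, pow_two, h2, one_pow, one_mul, eq_comm] at hn
  have hsym : ∀ i j, σ (mat g j i) = mat g i j := by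
    have hgi : g * g = 1 := Units.ext (by
      rw [Units.val_mul, hge, SLThree.homMat_sq hfe, Units.val_one])
    intro i j
    have := inv_eq_star C ht.1
    rw [inv_eq_of_mul_eq_one_right hgi] at this
    conv_rhs => rw [this]
    rfl
  have hsym' : ∀ i j, σ (e j * f i) = e i * f j := fun i j => by
    have h := hsym i j
    simp only [mat, hge, SLThree.homMat, Matrix.add_apply, Matrix.neg_apply, Matrix.smul_apply,
      vecMulVec_apply, smul_eq_mul] at h
    rw [map_add, map_neg, map_mul, map_ofNat] at h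
    have hone : σ ((1 : Matrix (Fin 3) (Fin 3) F) j i) = (1 : Matrix (Fin 3) (Fin 3) F) i j := by
      simp [Matrix.one_apply, eq_comm, apply_ite σ]
    rw [hone] at h
    exact mul_left_cancel₀ htwo (add_left_cancel h)
  -- a multiple of the centre with first non-zero coordinate one
  obtain ⟨s, hs, v, hv, hve⟩ : ∃ s : F, s ≠ 0 ∧ ∃ v ∈ points, dv 5 w v = s • e := by
    have hmem5 : ∀ j k, j < 25 → k < 25 → ((5, j, k) : V) ∈ points := fun j k hj hk => by
      simp only [points, List.mem_append, List.mem_flatMap, List.mem_map, List.mem_range]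
      exact Or.inl (Or.inl ⟨j, hj, k, hk, rfl⟩)
    have hmem0 : ∀ k, k < 25 → ((0, 5, k) : V) ∈ points := fun k hk => by
      simp only [points, List.mem_append, List.mem_map, List.mem_range]
      exact Or.inl (Or.inr ⟨k, hk, rfl⟩)
    by_cases h0 : e 0 = 0
    · by_cases h10 : e 1 = 0
      · have h20 : e 2 ≠ 0 := fun h20 => by
          simp [dotProduct, Fin.sum_univ_three, h0, h10, h20] at hfe
        refine ⟨(e 2)⁻¹, inv_ne_zero h20, (0, 0, 5), by simp [points], ?_⟩
        funext i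
        fin_cases i <;> simp [dv, dec_zero, dec_one C, h0, h10, h20]
      · obtain ⟨k, hk, hke⟩ := dec_surjective C ((e 1)⁻¹ * e 2)
        refine ⟨(e 1)⁻¹, inv_ne_zero h10, (0, 5, k), hmem0 k hk, ?_⟩
        funext i
        fin_cases i <;> simp [dv, dec_zero, dec_one C, h0, h10, hke]
    · obtain ⟨j, hj, hje⟩ := dec_surjective C ((e 0)⁻¹ * e 1)
      obtain ⟨k, hk, hke⟩ := dec_surjective C ((e 0)⁻¹ * e 2)
      refine ⟨(e 0)⁻¹, inv_ne_zero h0, (5, j, k), hmem5 j k hj hk, ?_⟩
      funext i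
      fin_cases i <;> simp [dv, dec_one C, h0, hje, hke]
  set x := dv 5 w v with hx
  set f' := s⁻¹ • f with hf'
  have hfx : f' ⬝ᵥ x = 1 := by
    rw [hve, hf', smul_dotProduct, dotProduct_smul, hfe]
    simp [hs]
  have hsymx : ∀ i j, σ (x j * f' i) = x i * f' j := fun i j => by
    rw [hve, hf']
    simp only [Pi.smul_apply, smul_eq_mul]
    rw [show s * e j * (s⁻¹ * f i) = e j * f i by field_simp,
      show s * e i * (s⁻¹ * f j) = e i * f j by field_simp]
    exact hsym' i j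
  have hne : ∃ i, x i ≠ 0 := by
    by_contra! h
    rw [show x = 0 from funext h] at hfx
    simp at hfx
  obtain ⟨i₀, hi₀⟩ := hne
  set μ := σ (f' i₀) / x i₀ with hμ
  have hf : ∀ j, f' j = μ * σ (x j) := fun j => by
    have h := hsymx i₀ j
    rw [map_mul] at h
    rw [hμ]
    field_simp
    linear_combination -h
  obtain ⟨l, hl, hle⟩ := dec_surjective C (2 * μ)
  refine ⟨v, hv, l, hl, ?_, ?_⟩
  · refine dec_injective C (mulC_lt (by norm_num) _ _) (by norm_num) ?_
    have hn : dec 5 w (hermC 5 2 v v) * μ = 1 := by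
      rw [herm_dec C, C.isConj.herm_eq, ← hfx, ← hx, dotProduct, Finset.sum_mul]
      exact Finset.sum_congr rfl fun i _ => by rw [hf]; ring
    rw [dec_mul C, hle, show (10 : ℕ) = addC 5 5 5 from rfl, dec_add C, dec_one C]
    linear_combination 2 * hn
  · rw [dm_reflC C, show mat g = _ from hge, ← SLThree.homMat_smul (e := e) (f := f) hs, ← hve, ← hf',
      SLThree.homMat, hle]
    ext i j
    simp [vecMulVec_apply, hf j]
    ring

/-- The overgroup, up to conjugation commuting with `xA`, takes the involution. -/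
theorem exists_cent (C : Coded 5 2 σ w) {u t : GL (Fin 3) F} (hu : mat u = dm 5 w xA)
    (ht : t ∈ SUn 3 F 5) (h2 : t * t = 1) (h1 : t ≠ 1) {k : ℕ} (hk : k < 7) {c : F}
    (hc : mat ((u ^ k * t) ^ 3) = c • 1) :
    ∃ z ∈ Cfsg.GU 3 F 5, z * u = u * z ∧ z⁻¹ * t * z ∈ kGrp 5 w ptsA := by
  obtain ⟨v, hv, l, hl, hln, htm⟩ := exists_reflC C ht h2 h1
  have h := refl_ok
  simp only [List.all_eq_true, List.mem_range] at h
  have h' := h v hv l hl
  simp only [hln, beq_self_eq_true, Bool.not_true, Bool.false_or, okRefl, Bool.or_eq_true,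
    List.all_eq_true, List.mem_range, List.any_eq_true, Bool.not_eq_true'] at h'
  rcases h' with h' | ⟨m, hm, hst⟩
  · have hsc := h' k hk
    have : isScalC (mmC 5 2 (mmC 5 2 (powC k) (reflC v l)) (mmC 5 2 (mmC 5 2 (powC k) (reflC v l))
        (mmC 5 2 (powC k) (reflC v l)))) = true := by
      refine isScalC_of_scalar C (isM_mmC (by norm_num) _ _) (c := c) ?_
      rw [← hc, pow_succ', pow_two]
      simp only [dm_mmC C, ← dm_powC C hu k, ← htm]
      simp [mat]
    rw [this] at hsc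
    exact Bool.noConfusion hsc
  · have hok := centA_ok
    simp only [List.all_eq_true, Bool.and_eq_true, beq_iff_eq] at hok
    obtain ⟨⟨-, hmU⟩, hmu⟩ := hok m hm
    have hstar : ((dm 5 w m).map σ)ᵀ * dm 5 w m = 1 := by
      rw [← dm_starC C, ← dm_mmC C, hmU, dm_oneM C]
    let z : GL (Fin 3) F :=
      ⟨dm 5 w m, ((dm 5 w m).map σ)ᵀ, mul_eq_one_comm.1 hstar, hstar⟩
    have hz : z ∈ Cfsg.GU 3 F 5 := C.isConj.mem_GU_iff.2 (by
      have e := congrArg Matrix.transpose hstar
      rwa [Matrix.transpose_mul, Matrix.transpose_transpose, Matrix.transpose_one] at e)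
    refine ⟨z, hz, Units.ext ?_, mem_kGrp C goodA ?_ ?_ hst⟩
    · show dm 5 w m * mat u = mat u * dm 5 w m
      rw [hu, ← dm_mmC C, hmu, dm_mmC C]
    · have := mat_mem_of_conj (inv_mem hz) ht
      rwa [inv_inv] at this
    · rw [dm_mmC C, dm_mmC C, dm_starC C, ← htm]
      rfl

end FiveSeven

open FiveSeven

variable {F : Type*} [Field F] [Fintype F]

/-- In `SU₃(5)` a maximal subgroup has no core of order 168 modulo scalars. -/
theorem not_maximal_five (hF : Fintype.card F = 25) {H P : Subgroup (GL (Fin 3) F)}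
    (hH : IsMaximalIn (Cfsg.GU 3 F 5 ⊓ specialLinear (Fin 3) F) H) (hR : IsResidualCore H P)
    (e : Nonempty ((P ⧸ Z P) ≃* Matrix.ProjectiveSpecialLinearGroup (Fin 3) (ZMod 2))) : False := by
  classical
  have hF' : Fintype.card F = 5 ^ 2 := by rw [hF]; norm_num
  obtain ⟨σ, hσ⟩ := exists_isConj hF'
  obtain ⟨w, C⟩ := coded_five hF' hσ
  obtain ⟨e⟩ := e
  have hc := core_of_residual hR
  haveI := hc.simple
  have hPSU : P ≤ SUn 3 F 5 := hR.le.trans hH.1.le
  have hS : Nat.card (P ⧸ Z P) = 168 := (Nat.card_congr e.toEquiv).trans card_PSL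
  haveI : Fact (Nat.Prime 7) := ⟨by norm_num⟩
  obtain ⟨x', s', hx', hs', hxs'⟩ := exists_pair e
  -- lifts of the pair
  obtain ⟨g, hg7, hgx⟩ : ∃ g : P, g ^ 7 = 1 ∧ proj P g = x' := by
    obtain ⟨y, rfl⟩ := QuotientGroup.mk'_surjective (Z P) x'
    refine ⟨y ^ 15, ?_, ?_⟩
    · have hz : y ^ 7 ∈ Z P := proj_eq_one_iff.1 (by rw [map_pow, ← hx', pow_orderOf_eq_one])
      rw [← pow_mul, show 15 * 7 = 7 * (3 * 5) by norm_num, pow_mul, pow_mul, hc.pow_three hz,
        one_pow]
    · rw [map_pow, ← pow_mod_orderOf, hx']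
      norm_num
  have hg : orderOf g = 7 := orderOf_eq_prime hg7 fun h => by
    rw [← hgx, h, map_one, orderOf_one] at hx'
    omega
  obtain ⟨t, ht2, hts⟩ := hc.exists_involution_lift hs'
  -- normalise the element of order seven
  have hx := xA_seven
  simp only [Bool.and_eq_true, beq_iff_eq, bne_iff_ne] at hx
  obtain ⟨⟨⟨⟨hxsu, hxM⟩, hxst⟩, hx7⟩, hx1⟩ := hx
  obtain ⟨u, hu, hum⟩ := exists_su C hxsu
  have hu7 : orderOf u = 7 := orderOf_eq_prime
    (Units.ext (show mat (u ^ 7) = 1 by rw [dm_powC C hum, hx7, dm_oneM C]))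
    fun h => hx1 (dm_injective C hxM (isM_oneM C) (by rw [← hum, h, dm_oneM C]; rfl))
  have huK : u ∈ kGrp 5 w ptsA := mem_kGrp C goodA hu hum hxst
  obtain ⟨A, hA, hAg⟩ := exists_conj_seven (factorization_GU hF') (hPSU g.2).1 hu.1
    (by rw [Subgroup.orderOf_coe, hg]) hu7
  obtain ⟨k, hk, hku⟩ : ∃ k < 7, u ^ k = A * (g : GL (Fin 3) F) * A⁻¹ := by
    obtain ⟨n, hn⟩ := Submonoid.mem_powers_iff _ _ |>.1 ((mem_powers_iff_mem_zpowers).2 hAg)
    exact ⟨n % 7, Nat.mod_lt _ (by norm_num), by rw [← hn, ← pow_mod_orderOf u n, hu7]⟩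
  set t' := A * (t : GL (Fin 3) F) * A⁻¹ with ht'
  have ht'SU : t' ∈ SUn 3 F 5 := mat_mem_of_conj hA (hPSU t.2)
  have htt : (t : GL (Fin 3) F) * t = 1 := by
    have : t * t = 1 := by rw [← pow_two, ← ht2, pow_orderOf_eq_one]
    exact congrArg Subtype.val this
  have ht'2 : t' * t' = 1 := by
    rw [ht']
    calc _ = A * ((t : GL (Fin 3) F) * t) * A⁻¹ := by group
      _ = 1 := by rw [htt, mul_one, mul_inv_cancel]
  have ht'1 : t' ≠ 1 := fun h => by
    rw [ht', conj_eq_one_iff] at h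
    rw [show t = 1 from Subtype.ext h, orderOf_one] at ht2
    omega
  obtain ⟨c, hcs⟩ := mem_Z_iff.1 (proj_eq_one_iff.1 (show proj P ((g * t) ^ 3) = 1 by
    rw [map_pow, map_mul, hgx, hts, hxs']))
  obtain ⟨z, hz, hzu, hzt⟩ := exists_cent C hum ht'SU ht'2 ht'1 hk (c := c) (by
    rw [hku, ht', conj_mul, conj_pow]
    have : mat (A * ((((g * t) ^ 3 : P)) : GL (Fin 3) F) * A⁻¹) =
        mat A * (c • 1) * mat A⁻¹ := by
      rw [← hcs]
      simp [mat]
    rw [SubmonoidClass.coe_pow, Subgroup.coe_mul] at this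
    rw [this, Matrix.mul_smul, mul_one, Matrix.smul_mul, mat_mul_inv])
  set B := A⁻¹ * z with hB
  have hBU : B ∈ Cfsg.GU 3 F 5 := mul_mem (inv_mem hA) hz
  set φ := (MulAut.conj B⁻¹).toMonoidHom with hφ
  have hφx : ∀ x, φ x = B⁻¹ * x * B := fun x => by simp [hφ]
  have hφg : φ g = u ^ k := by
    have hzk : z * u ^ k = u ^ k * z := (show Commute z u from hzu).pow_right k
    rw [hφx, hB]
    calc _ = z⁻¹ * (A * (g : GL (Fin 3) F) * A⁻¹) * z := by group
      _ = z⁻¹ * (u ^ k * z) := by rw [← hku, mul_assoc]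
      _ = u ^ k := by rw [← hzk, inv_mul_cancel_left]
  have hφt : φ t ∈ kGrp 5 w ptsA := by
    rw [hφx, hB]
    convert hzt using 1
    rw [ht']
    group
  have hφSU : ∀ x ∈ SUn 3 F 5, φ x ∈ SUn 3 F 5 := fun x hx => by
    have := mat_mem_of_conj (inv_mem hBU) hx
    rw [inv_inv] at this
    rwa [hφx]
  -- the core lands in the overgroup
  have hPK : ∀ p : P, φ p ∈ kGrp 5 w ptsA := by
    let L : Subgroup P := (kGrp 5 w ptsA).comap (φ.comp P.subtype)
    have hgL : g ∈ L := show φ g ∈ _ by rw [hφg]; exact pow_mem huK k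
    have hZL : Z P ≤ L := fun y hy => by
      show φ (y : GL (Fin 3) F) ∈ kGrp 5 w ptsA
      obtain ⟨a, ha⟩ := mem_Z_iff.1 hy
      have hya : φ y = (y : GL (Fin 3) F) := by
        rw [hφx, mul_assoc, scalars_comm (Subgroup.mem_subgroupOf.1 hy), inv_mul_cancel_left]
      rw [hya]
      refine ⟨?_, hPSU y.2⟩
      show (y : GL (Fin 3) F) ∈ CfsgLib.MaxSub.setStab _
      rw [CfsgLib.MaxSub.mem_setStab]
      have ha0 : a ≠ 0 := by
        rintro rfl
        rw [zero_smul] at ha
        exact (y : GL (Fin 3) F).ne_zero ha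
      intro x
      simp only [show mat (y : GL (Fin 3) F) *ᵥ x = a • x by
        rw [ha, Matrix.smul_mulVec, Matrix.one_mulVec]]
      constructor
      · rintro ⟨p, hp, b, hb, hxb⟩
        exact ⟨p, hp, a⁻¹ * b, mul_ne_zero (inv_ne_zero ha0) hb, by
          rw [mul_smul, ← hxb, inv_smul_smul₀ ha0]⟩
      · rintro ⟨p, hp, b, hb, rfl⟩
        exact ⟨p, hp, a * b, mul_ne_zero ha0 hb, smul_smul _ _ _⟩
    have htop : L.map (proj P) = ⊤ := eq_top_of_pair hS hx' hs' hxs'
      ⟨g, hgL, hgx⟩ ⟨t, hφt, hts⟩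
    intro p
    obtain ⟨y, hy, hyp⟩ : proj P p ∈ L.map (proj P) := htop ▸ Subgroup.mem_top _
    have hd : y⁻¹ * p ∈ Z P := proj_eq_one_iff.1 (by rw [map_mul, map_inv, hyp, inv_mul_cancel])
    have := L.mul_mem hy (hZL hd)
    rwa [mul_inv_cancel_left] at this
  -- the field of the element of order seven
  let R : Subalgebra F (Matrix (Fin 3) (Fin 3) F) := Algebra.adjoin F {mat u}
  have hRc : ∀ a ∈ R, ∀ b ∈ R, a * b = b * a := fun a ha b hb =>
    congrArg Subtype.val ((Algebra.adjoinCommRingOfComm F (s := {mat u})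
      (by rintro a rfl b rfl; rfl)).mul_comm ⟨a, ha⟩ ⟨b, hb⟩)
  have huR : mat u ∈ R := Algebra.subset_adjoin rfl
  have hnorm : ∀ m : GL (Fin 3) F, m * u * m⁻¹ ∈ Subgroup.zpowers u →
      ∀ a ∈ R, mat m * a * mat m⁻¹ ∈ R := by
    intro m hm a ha
    induction ha using Algebra.adjoin_induction with
    | mem a ha =>
      obtain rfl : a = mat u := ha
      obtain ⟨n, hn⟩ := Submonoid.mem_powers_iff _ _ |>.1 ((mem_powers_iff_mem_zpowers).2 hm)
      rw [show mat m * mat u * mat m⁻¹ = mat (m * u * m⁻¹) by simp [mat], ← hn,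
        show mat (u ^ n) = mat u ^ n from Units.val_pow_eq_pow_val u n]
      exact R.pow_mem huR n
    | algebraMap r =>
      rw [Algebra.algebraMap_eq_smul_one, Matrix.mul_smul, mul_one, Matrix.smul_mul, mat_mul_inv]
      exact R.smul_mem R.one_mem r
    | add a b _ _ ha hb => rw [mul_add, add_mul]; exact R.add_mem ha hb
    | mul a b _ _ ha hb =>
      have : mat m * (a * b) * mat m⁻¹ = mat m * a * mat m⁻¹ * (mat m * b * mat m⁻¹) := by
        simp [mat, mul_assoc]
      rw [this]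
      exact R.mul_mem ha hb
  -- the normalizer follows
  have hHK : ∀ h ∈ H, B⁻¹ * h * B ∈ kGrp 5 w ptsA := by
    intro h hh
    let g' : P := ⟨h * g * h⁻¹, hR.normal h hh _ g.2⟩
    have hg'7 : g' ^ 7 = 1 := Subtype.ext (by
      rw [SubmonoidClass.coe_pow, OneMemClass.coe_one]
      show (h * (g : GL (Fin 3) F) * h⁻¹) ^ 7 = 1
      rw [conj_pow, ← SubmonoidClass.coe_pow, hg7]
      simp)
    have hg' : orderOf (proj P g') = 7 := orderOf_eq_prime
      (by rw [← map_pow, hg'7, map_one]) fun h1 => by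
        have h3 := hc.pow_three (proj_eq_one_iff.1 h1)
        have : g' = 1 := by
          calc g' = g' ^ 7 * (g' ^ 3)⁻¹ * (g' ^ 3)⁻¹ := by group
            _ = 1 := by rw [hg'7, h3]; group
        have : h * (g : GL (Fin 3) F) * h⁻¹ = 1 := congrArg Subtype.val this
        rw [conj_eq_one_iff] at this
        rw [show g = 1 from Subtype.ext this, orderOf_one] at hg
        omega
    obtain ⟨y', hy'⟩ := exists_conj_zpowers (p := 7) (by
      rw [hS, show 168 = 7 * 24 by norm_num, Nat.factorization_mul (by norm_num) (by norm_num),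
        Finsupp.add_apply, Nat.Prime.factorization_self (by norm_num),
        Nat.factorization_eq_zero_of_not_dvd (by norm_num)]) hx' hg'
    obtain ⟨y, rfl⟩ := QuotientGroup.mk'_surjective (Z P) y'
    obtain ⟨n, hn⟩ := Submonoid.mem_powers_iff _ _ |>.1 ((mem_powers_iff_mem_zpowers).2 hy')
    have hyg : y * g' * y⁻¹ = g ^ n := by
      have hd : (g ^ n)⁻¹ * (y * g' * y⁻¹) ∈ Z P := proj_eq_one_iff.1 (by
        rw [map_mul, map_inv, map_pow, hgx, hn, map_mul, map_mul, map_inv, inv_mul_cancel])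
      set d := (g ^ n)⁻¹ * (y * g' * y⁻¹) with hdef
      have e : y * g' * y⁻¹ = g ^ n * d := by rw [hdef, mul_inv_cancel_left]
      have h7 : (g ^ n * d) ^ 7 = 1 := by rw [← e, conj_pow, hg'7]; simp
      have hcomm : Commute (g ^ n) d := (comm_of_mem_Z hd _).symm
      rw [hcomm.mul_pow, ← pow_mul, mul_comm n, pow_mul, hg7, one_pow, one_mul, pow_succ,
        show 6 = 3 * 2 from rfl, pow_mul, hc.pow_three hd, one_pow, one_mul] at h7
      rw [e, h7, mul_one]
    set m := φ ((y : GL (Fin 3) F) * h) with hm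
    have hmu : m * u * m⁻¹ ∈ Subgroup.zpowers u := by
      have h1 : m * u ^ k * m⁻¹ = (u ^ k) ^ n := by
        have eG : (y : GL (Fin 3) F) * h * g * ((y : GL (Fin 3) F) * h)⁻¹ =
            (g : GL (Fin 3) F) ^ n := by
          rw [← SubmonoidClass.coe_pow, ← hyg]
          show _ = (y : GL (Fin 3) F) * (h * g * h⁻¹) * (y : GL (Fin 3) F)⁻¹
          group
        have e2 := congrArg φ eG
        rw [map_mul φ, map_mul φ, map_inv φ, map_pow φ, hφg] at e2
        exact e2
      have hzk : Subgroup.zpowers (u ^ k) = Subgroup.zpowers u :=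
        zpowers_eq_of_mem (pow_mem (Subgroup.mem_zpowers u) k) (by
          rw [hu7, hku, MulAut.conj_apply A (g : GL (Fin 3) F) |>.symm, MulEquiv.orderOf_eq,
            Subgroup.orderOf_coe, hg])
      obtain ⟨j, hj⟩ := Subgroup.mem_zpowers_iff.1 (hzk.symm ▸ Subgroup.mem_zpowers u)
      rw [← hj, ← conj_zpow, h1]
      exact zpow_mem (pow_mem (pow_mem (hj.symm ▸ Subgroup.mem_zpowers u) k) n) j
    have hmSU : m ∈ SUn 3 F 5 := hφSU _ (mul_mem (hPSU y.2) (hH.1.le hh))
    have hm' : m⁻¹ * u * m⁻¹⁻¹ ∈ Subgroup.zpowers u := by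
      have hle : (Subgroup.zpowers u).map (MulAut.conj m).toMonoidHom = Subgroup.zpowers u := by
        refine Subgroup.eq_of_le_of_card_ge ?_ (le_of_eq ?_)
        · rw [MonoidHom.map_zpowers, Subgroup.zpowers_le]
          simpa using hmu
        · rw [Subgroup.card_map_of_injective (MulAut.conj m).injective]
      obtain ⟨b, hb, hbu⟩ := hle.symm.le (Subgroup.mem_zpowers u)
      convert hb using 1
      rw [← hbu]
      simp [mul_assoc]
    have hmN : m ∈ Cfsg.Geo.subalgebraNormalizer R := fun a =>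
      ⟨fun ha => hnorm m hmu a ha, fun ha => by
        have := hnorm m⁻¹ hm' _ ha
        simpa [mat, mul_assoc] using this⟩
    have hmK := field_mem C goodA fieldA hRc (hum ▸ huR) hmSU hmN
    have := mul_mem (inv_mem (hPK y)) hmK
    rwa [hm, map_mul, inv_mul_cancel_left, hφx] at this
  -- an element of the overgroup outside
  have hk0 := lineK_ok
  simp only [Bool.and_eq_true] at hk0
  obtain ⟨q, hqK, hqm⟩ := exists_mem_of_cert C goodA hk0.1.1 hk0.1.2
  have ho := outA_ok
  simp only [Bool.and_eq_true] at ho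
  refine not_maximal_of_overgroup hH (kGrp_lt C ho.1 ho.2) hBU hHK hqK fun hqH => ?_
  have hBu : B * u * B⁻¹ ∈ P := by
    have hgk : B * u ^ k * B⁻¹ = g := by
      rw [← hφg, hφx]
      group
    have hzk : u ∈ Subgroup.zpowers (u ^ k) := by
      rw [zpowers_eq_of_mem (pow_mem (Subgroup.mem_zpowers u) k) (by
        rw [hu7, hku, MulAut.conj_apply A (g : GL (Fin 3) F) |>.symm, MulEquiv.orderOf_eq,
          Subgroup.orderOf_coe, hg])]
      exact Subgroup.mem_zpowers u
    obtain ⟨j, hj⟩ := Subgroup.mem_zpowers_iff.1 hzk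
    rw [← hj, ← conj_zpow, hgk]
    exact zpow_mem g.2 j
  have hv := fifteen_ok
  simp only [Bool.and_eq_true, beq_iff_eq, bne_iff_ne] at hv
  obtain ⟨⟨hv15, hv1⟩, hvM⟩ := hv
  let v : P := ⟨B * u * B⁻¹ * ((B * q * B⁻¹) * (B * u * B⁻¹) * (B * q * B⁻¹)⁻¹),
    mul_mem hBu (hR.normal _ hqH _ hBu)⟩
  have hvB : (v : GL (Fin 3) F) = B * (u * (q * u * q⁻¹)) * B⁻¹ := by
    show B * u * B⁻¹ * ((B * q * B⁻¹) * (B * u * B⁻¹) * (B * q * B⁻¹)⁻¹) = _
    group
  have hf : mat (u * (q * u * q⁻¹)) = dm 5 w fifteen := by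
    rw [fifteen, dm_mmC C, dm_mmC C, dm_mmC C, dm_starC C, ← hum, ← hqm, ← inv_eq_star C hqK.2.1]
    simp [mat]
  set f := u * (q * u * q⁻¹) with hfdef
  have hf3 : mat (f ^ 3) = dm 5 w (mmC 5 2 fifteen (mmC 5 2 fifteen fifteen)) := by
    rw [dm_mmC C, dm_mmC C, ← hf, pow_succ', pow_two]
    simp [mat]
  have hf15 : f ^ 15 = 1 := Units.ext (by
    show mat (f ^ 15) = 1
    rw [← dm_oneM C, ← hv15, dm_mmC C, dm_mmC C, dm_mmC C, ← hf3,
      show 15 = 3 * 5 from rfl, pow_mul]
    generalize f ^ 3 = a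
    simp only [mat, ← Units.val_mul]
    congr 1
    simp only [pow_succ, pow_zero, one_mul, mul_assoc])
  have hv' : v ^ 15 = 1 := Subtype.ext (by
    rw [SubmonoidClass.coe_pow, hvB, conj_pow, hf15]
    simp)
  have hproj : proj P (v ^ 3) = 1 := by
    rw [← orderOf_eq_one_iff]
    refine Nat.eq_one_of_dvd_coprimes (a := 5) (b := 168) (by norm_num) ?_ ?_
    · exact orderOf_dvd_of_pow_eq_one (by rw [← map_pow, ← pow_mul, hv', map_one])
    · exact hS ▸ orderOf_dvd_natCard _
  have h3 := hc.pow_three (proj_eq_one_iff.1 hproj)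
  have hv3 : v ^ 3 = 1 := by
    calc v ^ 3 = (v ^ 15)⁻¹ * ((v ^ 3) ^ 3) ^ 2 := by group
      _ = 1 := by rw [h3, hv']; group
  have : f ^ 3 = 1 := by
    have := congrArg Subtype.val hv3
    rwa [SubmonoidClass.coe_pow, hvB, conj_pow, OneMemClass.coe_one, conj_eq_one_iff] at this
  exact hv1 (dm_injective C hvM (isM_oneM C) (by rw [← hf3, this, dm_oneM C]; rfl))

end CfsgLib.PGLThree
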