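import Cfsg.Agent.PGLThree.Setup
import Cfsg.Agent.MaxSub.FormCompare
import Mathlib.LinearAlgebra.Matrix.Charpoly.FiniteField

/-!
# Forms from traces

An absolutely irreducible group in which the inverse of every element has the conjugate trace fixes
a form. In characteristic `p` the trace of the `p`-th power is the `p`-th power of the trace.
-/

set_option autoImplicit false
set_option linter.unusedSectionVars false

namespace CfsgLib.PGLThree

open Matrix Cfsg.Geo CfsgLib.Aschbacher Polynomial

variable {F : Type*} [Field F] {P : Subgroup (GL (Fin 3) F)}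

theorem charpoly_pow_char {n : Type*} [DecidableEq n] [Fintype n] [Nonempty n] (p : ℕ)
    [Fact p.Prime] [CharP F p] (M : Matrix n n F) :
    (M ^ p).charpoly = M.charpoly.map (frobenius F p) := by
  haveI : ExpChar F p := ExpChar.prime (Fact.out : p.Prime)
  have key : expand F p (M ^ p).charpoly = M.charpoly ^ p := by
    unfold Matrix.charpoly
    rw [AlgHom.map_det, ← coe_detMonoidHom, ← (detMonoidHom : Matrix n n F[X] →* F[X]).map_pow]
    apply congr_arg det
    refine matPolyEquiv.injective ?_
    rw [map_pow, matPolyEquiv_charmatrix, sub_pow_char_of_commute _ (C M).commute_X.symm.symm, ← C_pow]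
    exact (id (matPolyEquiv_eq_X_pow_sub_C p M) :)
  apply expand_injective (R := F) (Fact.out : p.Prime).pos
  rw [key, ← Polynomial.map_frobenius_expand, Polynomial.map_expand]

/-- The trace of the `p`-th power. -/
theorem trace_pow_char (p : ℕ) [Fact p.Prime] [CharP F p] (M : Matrix (Fin 3) (Fin 3) F) :
    (M ^ p).trace = M.trace ^ p := by
  have hp := (Fact.out : p.Prime)
  rw [Matrix.trace_eq_neg_charpoly_coeff, Matrix.trace_eq_neg_charpoly_coeff,
    charpoly_pow_char p M, Polynomial.coeff_map, frobenius_def]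
  rcases hp.eq_two_or_odd' with h | h
  · subst h
    rw [CharTwo.neg_eq, CharTwo.neg_eq]
  · rw [Odd.neg_pow h]

theorem mat_inj {a b : GL (Fin 3) F} (h : mat a = mat b) : a = b := Units.ext h

/-- A matrix intertwining the group with the inverse transpose conjugate. -/
theorem exists_intertwiner (hP : ActsAbsolutelyIrreducibly (matrixSet P)) (σ : F ≃+* F)
    (hσ : ∀ g ∈ P, σ (mat g).trace = (mat g⁻¹).trace) :
    ∃ A : Matrix (Fin 3) (Fin 3) F, IsUnit A ∧
      ∀ g ∈ P, ((mat g).map σ)ᵀ * A * mat g = A := by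
  classical
  let θ : GL (Fin 3) F → Matrix (Fin 3) (Fin 3) F := fun g => ((mat g⁻¹).map σ)ᵀ
  have hθmul : ∀ a b, θ (a * b) = θ a * θ b := fun a b => by
    simp only [θ, _root_.mul_inv_rev, mat, Units.val_mul]
    rw [Matrix.map_mul, transpose_mul]
  have hθ1 : θ 1 = 1 := by simp [θ, mat]
  have htr : ∀ g ∈ P, (θ g).trace = (mat g).trace := fun g hg => by
    have h := hσ g⁻¹ (inv_mem hg)
    rw [inv_inv] at h
    rw [← h]
    simp [θ, Matrix.trace, map_sum]
  have hspan := span_eq_top_of_absIrred hP
  -- a basis of group elements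
  obtain ⟨s, hsS, hs, hsi⟩ := exists_linearIndependent F (matrixSet P)
  rw [hspan] at hs
  let bas : Module.Basis s F (Matrix (Fin 3) (Fin 3) F) := Module.Basis.mk hsi (by simp [hs])
  have hmem : ∀ i : s, ∃ g ∈ P, mat g = (i : Matrix (Fin 3) (Fin 3) F) := fun i => hsS i.2
  choose e he hee using hmem
  let L : Matrix (Fin 3) (Fin 3) F →ₗ[F] Matrix (Fin 3) (Fin 3) F :=
    bas.constr F fun i => θ (e i)
  have hbil : ∀ X, ∀ h ∈ P, (L X * θ h).trace = (X * mat h).trace := by
    intro X h hh
    let l₁ : Matrix (Fin 3) (Fin 3) F →ₗ[F] F :=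
      Matrix.traceLinearMap (Fin 3) F F ∘ₗ LinearMap.mulRight F (θ h) ∘ₗ L
    let l₂ : Matrix (Fin 3) (Fin 3) F →ₗ[F] F :=
      Matrix.traceLinearMap (Fin 3) F F ∘ₗ LinearMap.mulRight F (mat h)
    have : l₁ = l₂ := bas.ext fun i => by
      show (L (bas i) * θ h).trace = (bas i * mat h).trace
      rw [show L (bas i) = θ (e i) from bas.constr_basis F _ i, ← hθmul, htr _ (mul_mem (he i) hh),
        show bas i = (i : Matrix (Fin 3) (Fin 3) F) from Module.Basis.mk_apply hsi _ i, ← hee i]
      exact congrArg Matrix.trace (Units.val_mul _ _)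
    exact LinearMap.congr_fun this X
  have hθspan : ∀ X : Matrix (Fin 3) (Fin 3) F,
      X ∈ Submodule.span F (θ '' (P : Set (GL (Fin 3) F))) := by
    intro X
    obtain ⟨W, rfl⟩ : ∃ W : Matrix (Fin 3) (Fin 3) F, (W.map σ)ᵀ = X := by
      refine ⟨(Xᵀ).map σ.symm, ?_⟩
      ext i j; simp
    have hW : W ∈ Submodule.span F (matrixSet P) := hspan ▸ Submodule.mem_top
    induction hW using Submodule.span_induction with
    | mem W hW =>
      obtain ⟨g, hg, rfl⟩ := hW
      refine Submodule.subset_span ⟨g⁻¹, inv_mem hg, ?_⟩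
      simp [θ, mat]
    | zero => simp
    | add a b _ _ h h' => rw [Matrix.map_add σ (map_add σ), transpose_add]; exact add_mem h h'
    | smul c a _ h =>
      have e : ((c • a).map σ)ᵀ = σ c • (a.map σ)ᵀ := by ext i j; simp
      rw [e]; exact Submodule.smul_mem _ _ h
  have hL : ∀ g ∈ P, L (mat g) = θ g := by
    intro g hg
    rw [← sub_eq_zero]
    set D := L (mat g) - θ g with hD
    have h0 : ∀ X, (D * X).trace = 0 := by
      intro X
      induction hθspan X using Submodule.span_induction with
      | mem X hX =>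
        obtain ⟨h, hh, rfl⟩ := hX
        rw [hD, sub_mul, Matrix.trace_sub, hbil _ h hh, ← hθmul, htr _ (mul_mem hg hh), sub_eq_zero]
        exact (congrArg Matrix.trace (Units.val_mul _ _)).symm
      | zero => simp
      | add a b _ _ h h' => rw [mul_add, Matrix.trace_add, h, h', add_zero]
      | smul c a _ h => rw [Matrix.mul_smul, Matrix.trace_smul, h, smul_zero]
    ext i j
    have := h0 (Matrix.single j i 1)
    rw [Matrix.trace_mul_single] at this
    simpa using this
  have hLg : ∀ g ∈ P, ∀ X, L (mat g * X) = θ g * L X := by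
    intro g hg X
    have : L ∘ₗ LinearMap.mulLeft F (mat g) = LinearMap.mulLeft F (θ g) ∘ₗ L := bas.ext fun i => by
      show L (mat g * bas i) = θ g * L (bas i)
      rw [show bas i = (i : Matrix (Fin 3) (Fin 3) F) from Module.Basis.mk_apply hsi _ i, ← hee i,
        show mat g * mat (e i) = mat (g * e i) from (Units.val_mul _ _).symm,
        hL _ (mul_mem hg (he i)), hL _ (he i), hθmul]
    exact LinearMap.congr_fun this X
  -- evaluate at a vector
  have hinj : L (Matrix.single 0 0 1) ≠ 0 := fun h => by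
    have h1 : ∀ X, (Matrix.single (0 : Fin 3) (0 : Fin 3) (1 : F) * X).trace = 0 := by
      intro X
      have hX : X ∈ Submodule.span F (matrixSet P) := hspan ▸ Submodule.mem_top
      induction hX using Submodule.span_induction with
      | mem X hX =>
        obtain ⟨g, hg, rfl⟩ := hX
        rw [← hbil _ g hg, h, zero_mul, Matrix.trace_zero]
      | zero => simp
      | add a b _ _ h h' => rw [mul_add, Matrix.trace_add, h, h', add_zero]
      | smul c a _ h => rw [Matrix.mul_smul, Matrix.trace_smul, h, smul_zero]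
    have := h1 (Matrix.single 0 0 1)
    simp at this
  obtain ⟨u, hu⟩ : ∃ u, L (Matrix.single 0 0 1) *ᵥ u ≠ 0 := by
    by_contra! hall
    exact hinj (Matrix.toLin'.injective (LinearMap.ext fun v => by simp [hall v]))
  let φ : (Fin 3 → F) →ₗ[F] (Fin 3 → F) :=
    { toFun := fun w => L (vecMulVec w (Pi.single (0 : Fin 3) 1)) *ᵥ u
      map_add' := fun a b => by rw [add_vecMulVec, map_add, add_mulVec]
      map_smul' := fun c a => by rw [smul_vecMulVec, map_smul, smul_mulVec]; rfl }
  let A := LinearMap.toMatrix' φ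
  have hφ : ∀ g ∈ P, ∀ w, φ (mat g *ᵥ w) = θ g *ᵥ φ w := fun g hg w => by
    show L (vecMulVec _ _) *ᵥ u = θ g *ᵥ (L _ *ᵥ u)
    rw [← mul_vecMulVec, hLg g hg, mulVec_mulVec]
  have hker : LinearMap.ker φ = ⊥ := by
    refine (hP.1 (LinearMap.ker φ) (forall_matrixSet.2 fun g hg => ?_)).resolve_right fun h => hu ?_
    · rintro _ ⟨w, hw, rfl⟩
      rw [SetLike.mem_coe, LinearMap.mem_ker] at hw
      rw [LinearMap.mem_ker, Matrix.toLin'_apply, hφ g hg, hw, mulVec_zero]
    · have : φ (Pi.single 0 1) = 0 := LinearMap.mem_ker.1 (h ▸ Submodule.mem_top)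
      rw [show φ (Pi.single 0 1) = L (vecMulVec (Pi.single 0 1) (Pi.single 0 1)) *ᵥ u from rfl] at this
      rw [show vecMulVec (Pi.single (0 : Fin 3) (1 : F)) (Pi.single (0 : Fin 3) (1 : F)) = Matrix.single 0 0 1 from by
        ext i j; fin_cases i <;> fin_cases j <;> simp [vecMulVec_apply]] at this
      exact this
  have hA : IsUnit A := Matrix.mulVec_injective_iff_isUnit.1 (by
    have : (fun v => A *ᵥ v) = φ := funext fun v => by
      simp [A, ← Matrix.toLin'_apply]
    show Function.Injective fun v => A *ᵥ v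
    rw [this]; exact LinearMap.ker_eq_bot.1 hker)
  refine ⟨A, hA, fun g hg => Matrix.toLin'.injective (LinearMap.ext fun v => ?_)⟩
  have hA' : ∀ v, A *ᵥ v = φ v := fun v => by simp [A, ← Matrix.toLin'_apply]
  have hone : ((mat g).map σ)ᵀ * θ g = 1 := by
    simp only [θ]
    rw [← transpose_mul, ← Matrix.map_mul, mat_inv_mul, Matrix.map_one σ (map_zero σ) (map_one σ),
      transpose_one]
  rw [Matrix.toLin'_apply, Matrix.toLin'_apply, ← mulVec_mulVec, ← mulVec_mulVec, hA', hφ g hg,
    mulVec_mulVec, hone, one_mulVec, hA']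

/-- The intertwiner can be chosen Hermitian. -/
theorem exists_hermitian [Finite F] (hP : ActsAbsolutelyIrreducibly (matrixSet P)) (σ : F ≃+* F)
    (hinv : ∀ a, σ (σ a) = a) (hσ : ∀ g ∈ P, σ (mat g).trace = (mat g⁻¹).trace) :
    ∃ A : Matrix (Fin 3) (Fin 3) F, IsUnit A ∧ (A.map σ)ᵀ = A ∧
      ∀ g ∈ P, ((mat g).map σ)ᵀ * A * mat g = A := by
  obtain ⟨A, hA, hg⟩ := exists_intertwiner hP σ hσ
  obtain ⟨B, hB⟩ : ∃ B, B = (A.map σ)ᵀ := ⟨_, rfl⟩
  have hmm : ∀ X : Matrix (Fin 3) (Fin 3) F, (X.map σ).map σ = X := fun X => by ext i j; simp [hinv]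
  have hBg : ∀ g ∈ P, ((mat g).map σ)ᵀ * B * mat g = B := fun g hgP => by
    have h := congrArg (fun X => (X.map σ)ᵀ) (hg g hgP)
    simp only [Matrix.map_mul, transpose_mul, transpose_map, hmm] at h
    rw [← mul_assoc] at h
    rw [hB]
    simpa only [transpose_map, transpose_transpose] using h
  obtain ⟨c, hc⟩ := hP.2 (A⁻¹ * B) (forall_matrixSet.2 fun g hgP => by
    have h1 : ((mat g).map σ)ᵀ * (A * (mat g * (A⁻¹ * B) - A⁻¹ * B * mat g)) = 0 := by
      have hAi : A * (A⁻¹ * B) = B :=
        Matrix.mul_nonsing_inv_cancel_left A B ((Matrix.isUnit_iff_isUnit_det A).1 hA)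
      rw [mul_sub, mul_sub, ← mul_assoc A (mat g), ← mul_assoc _ (A * mat g), ← mul_assoc _ A (mat g),
        hg g hgP, hAi, ← mul_assoc A, hAi, ← mul_assoc, hBg g hgP, sub_self]
    have hu : IsUnit (((mat g).map σ)ᵀ * A) := by
      refine ((Matrix.isUnit_transpose _).2 ?_).mul hA
      exact (g.isUnit).map σ.toRingHom.mapMatrix
    rw [← mul_assoc] at h1
    exact (sub_eq_zero.1 (hu.mul_right_eq_zero.1 h1)).symm)
  have hBA : B = c • A := by
    rw [← one_mul B, ← Matrix.mul_nonsing_inv _ ((Matrix.isUnit_iff_isUnit_det A).1 hA), mul_assoc, hc,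
      Matrix.mul_smul, mul_one]
  have hcc : c * σ c = 1 := by
    have h := congrArg (fun X => (X.map σ)ᵀ) hBA
    rw [hB] at h
    simp only [transpose_map, transpose_transpose, hmm] at h
    have e : ((c • A).map σ)ᵀ = σ c • B := by rw [hB]; ext i j; simp
    rw [e, hBA, smul_smul] at h
    have h' : (σ c * c - 1) • A = 0 := by rw [sub_smul, one_smul, ← h, sub_self]
    rw [mul_comm]
    exact sub_eq_zero.1 ((smul_eq_zero.1 h').resolve_right hA.ne_zero)
  by_cases hσ1 : σ = RingEquiv.refl F
  · subst hσ1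
    have hc2 : c = 1 ∨ c = -1 := by
      simp only [RingEquiv.refl_apply] at hcc
      exact mul_self_eq_one_iff.1 hcc
    rcases hc2 with rfl | rfl
    · exact ⟨A, hA, by rw [← hB, hBA, one_smul], hg⟩
    · have hd := congrArg Matrix.det hBA
      rw [hB, det_transpose, det_smul, Fintype.card_fin,
        show A.map (RingEquiv.refl F) = A by ext i j; rfl] at hd
      have h0 : A.det ≠ 0 := ((Matrix.isUnit_iff_isUnit_det A).1 hA).ne_zero
      have h2 : (-1 : F) = 1 := mul_right_cancel₀ h0 (by linear_combination -hd)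
      exact ⟨A, hA, by rw [← hB, hBA, h2, one_smul], hg⟩
  · obtain ⟨w, hw0, hw⟩ := CfsgLib.MaxSub.exists_hilbert90 hσ1 hinv hcc
    refine ⟨w • A, (Matrix.isUnit_iff_isUnit_det _).2 (by
      rw [det_smul]
      exact ((IsUnit.mk0 w hw0).pow _).mul ((Matrix.isUnit_iff_isUnit_det A).1 hA)), ?_, fun g hgP => ?_⟩
    · have e : ((w • A).map σ)ᵀ = σ w • (A.map σ)ᵀ := by ext i j; simp
      rw [e, ← hB, hBA, smul_smul, mul_comm (σ w), hw]
    · rw [Matrix.mul_smul, Matrix.smul_mul, hg g hgP]

/-- **A form from traces.** If `σ` is an involution taking the trace of every element to the trace of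
its inverse, the group fixes a unitary form, or `σ = 1`, the characteristic is odd and it fixes a
quadratic form. -/
theorem exists_form_of_traces [Finite F] (hP : ActsAbsolutelyIrreducibly (matrixSet P)) (σ : F ≃+* F)
    (hinv : ∀ a, σ (σ a) = a) (hσ : ∀ g ∈ P, σ (mat g).trace = (mat g⁻¹).trace) :
    (∃ f, IsUnitaryForm σ f ∧ FixesForm (matrixSet P) f) ∨
      ((2 : F) ≠ 0 ∧ ∃ Q, IsNondegenerateQuadraticForm Q ∧ FixesQuadForm (matrixSet P) Q) := by
  classical
  obtain ⟨A, hA, hherm, hg⟩ := exists_hermitian hP σ hinv hσ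
  let f : (Fin 3 → F) → (Fin 3 → F) → F := fun u v => (fun i => σ (v i)) ⬝ᵥ (A *ᵥ u)
  have hadd : ∀ x y v, f (x + y) v = f x v + f y v := fun x y v => by
    simp only [f, mulVec_add, dotProduct_add]
  have hsmul : ∀ (c : F) x v, f (c • x) v = c * f x v := fun c x v => by
    simp only [f, mulVec_smul, dotProduct_smul, smul_eq_mul]
  have hsym : ∀ v w, f v w = σ (f w v) := by
    intro v w
    simp only [f, dotProduct, Matrix.mulVec, map_sum, map_mul, hinv, Finset.mul_sum]
    rw [Finset.sum_comm]
    refine Finset.sum_congr rfl fun i _ => Finset.sum_congr rfl fun j _ => ?_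
    have hij : σ (A i j) = A j i := congrFun (congrFun hherm j) i
    rw [hij]; ring
  have hnd : ∀ v : Fin 3 → F, v ≠ 0 → ∃ x, f v x ≠ 0 := fun v hv => by
    have hAv : A *ᵥ v ≠ 0 := fun h => hv (Matrix.mulVec_injective_iff_isUnit.2 hA (h.trans (mulVec_zero A).symm))
    obtain ⟨i, hi⟩ := Function.ne_iff.1 hAv
    refine ⟨Pi.single i 1, ?_⟩
    have e : (fun j => σ ((Pi.single i 1 : Fin 3 → F) j)) = Pi.single i 1 := by
      funext j
      rcases eq_or_ne j i with rfl | h <;> simp [*]
    simp only [f, e, single_dotProduct, one_mul]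
    exact hi
  have hnd' : IsNondegenerateForm f := fun v hv => by
    obtain ⟨x, hx⟩ := hnd v hv
    exact ⟨⟨x, fun h => hx (by rw [hsym, h, map_zero])⟩, x, hx⟩
  have hfix : ∀ g ∈ P, ∀ u v, f (mat g *ᵥ u) (mat g *ᵥ v) = f u v := fun g hgP u v => by
    have e : (fun i => σ ((mat g *ᵥ v) i)) = (mat g).map σ *ᵥ fun i => σ (v i) := by
      funext i; simp [Matrix.mulVec, dotProduct, map_sum, map_mul]
    simp only [f, e]
    rw [← vecMul_transpose, mulVec_mulVec, ← dotProduct_mulVec, mulVec_mulVec, ← mul_assoc, hg g hgP]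
  by_cases hσ1 : σ = RingEquiv.refl F
  · subst hσ1
    simp only [RingEquiv.refl_apply] at hsym
    have hbr : ∀ v x y, f v (x + y) = f v x + f v y := fun v x y => by
      rw [hsym, hadd, ← hsym x, ← hsym y]
    have hsr : ∀ (c : F) v x, f v (c • x) = c * f v x := fun c v x => by rw [hsym, hsmul, ← hsym x]
    rcases ne_or_eq (2 : F) 0 with h2 | h2
    · refine Or.inr ⟨h2, fun v => f v v, ?_, forall_matrixSet.2 fun g hgP v => hfix g hgP v v⟩
      have hpol : QuadraticMap.polar (fun v => f v v) = fun u v => 2 * f u v := by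
        funext u v
        rw [QuadraticMap.polar, hadd, hbr, hbr, hsym v u]
        ring
      refine ⟨fun c v => by rw [hsmul, hsr]; ring, ?_, ?_⟩
      · rw [hpol]
        exact ⟨fun x y v => by rw [hadd]; ring, fun c x v => by rw [hsmul]; ring,
          fun v x y => by rw [hbr]; ring, fun c v x => by rw [hsr]; ring⟩
      · rw [hpol]
        intro v hv
        obtain ⟨⟨x, hx⟩, y, hy⟩ := hnd' v hv
        exact ⟨⟨x, mul_ne_zero h2 hx⟩, y, mul_ne_zero h2 hy⟩
    · exfalso
      haveI : CharP F 2 := CharTwo.of_one_ne_zero_of_two_eq_zero one_ne_zero h2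
      have hd : ∀ x y, f (x + y) (x + y) = f x x + f y y := fun x y => by
        rw [hadd, hbr, hbr, hsym y x]
        linear_combination f x y * h2
      let W : Submodule F (Fin 3 → F) :=
        { carrier := {v | f v v = 0}
          add_mem' := fun {a b} ha hb => by
            show f (a + b) (a + b) = 0
            rw [hd, ha, hb, add_zero]
          zero_mem' := by simp [f]
          smul_mem' := fun c v hv => by
            show f (c • v) (c • v) = 0
            rw [hsmul, hsr, hv, mul_zero, mul_zero] }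
      rcases hP.1 W (forall_matrixSet.2 fun g hgP => by
        rintro _ ⟨w, hw, rfl⟩
        show f (Matrix.toLin' (mat g) w) (Matrix.toLin' (mat g) w) = 0
        rw [Matrix.toLin'_apply, hfix g hgP]
        exact hw) with h | h
      · haveI := Fintype.ofFinite F
        have hinj : Function.Injective fun v : Fin 3 → F => f v v := fun a b hab => by
          have : a + b ∈ W := by
            show f (a + b) (a + b) = 0
            rw [hd, show f a a = f b b from hab]
            linear_combination f b b * h2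
          rw [h, Submodule.mem_bot] at this
          funext i
          exact (CharTwo.add_eq_zero).1 (congrFun this i)
        have := Fintype.card_le_of_injective _ hinj
        rw [Fintype.card_fun, Fintype.card_fin] at this
        have h1 : Fintype.card F < Fintype.card F ^ 3 :=
          lt_self_pow₀ Fintype.one_lt_card (by norm_num)
        omega
      · have hdiag : ∀ i, A i i = 0 := fun i => by
          have : f (Pi.single i 1) (Pi.single i 1) = 0 :=
            (h.symm ▸ Submodule.mem_top : (Pi.single i 1 : Fin 3 → F) ∈ W)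
          simpa [f] using this
        have h0 : A.det ≠ 0 := ((Matrix.isUnit_iff_isUnit_det A).1 hA).ne_zero
        apply h0
        have s : ∀ i j, A j i = A i j := fun i j => congrFun (congrFun hherm i) j
        rw [Matrix.det_fin_three, hdiag 0, hdiag 1, hdiag 2, s 0 1, s 0 2, s 1 2]
        linear_combination (A 0 1 * A 0 2 * A 1 2) * h2
  · exact Or.inl ⟨f, ⟨hσ1, hinv, hadd, hsmul, hsym, hnd'⟩,
      forall_matrixSet.2 fun g hgP u v => hfix g hgP u v⟩

end CfsgLib.PGLThree
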