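import Cfsg.Agent.PGLThree.Ctx
import Cfsg.Agent.DicksonPSL2.CoprimeCase

/-!
# Two reflections and an element scalar on the axis of the first

In coordinates adapted to two reflections `T`, `U` and with `D = diag (l, m, m)`, `m ^ 6 ≠ 1`: either
`diag (-1, -1, 1)` is in the group, or there is a transvection.
-/

set_option autoImplicit false
set_option linter.unusedSectionVars false

namespace CfsgLib.PGLThree

open Matrix Cfsg.Geo CfsgLib.Aschbacher CfsgLib.MaxSub CfsgLib.SLThree
open scoped MatrixGroups commutatorElement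

variable {F : Type*} [Field F]

/-- A finite group of odd order prime to `p` inside `PSL(2, F)` is commutative. -/
theorem comm_of_odd_psl2 [Fintype F] {p : ℕ} [Fact p.Prime] [CharP F p] {G : Type*} [Group G]
    [Finite G] (φ : G →* PSL(2, F)) (hinj : Function.Injective φ) (hodd : ¬ 2 ∣ Nat.card G)
    (hp : ¬ p ∣ Nat.card G) (a b : G) : a * b = b * a := by
  have hcard : Nat.card φ.range = Nat.card G :=
    (Nat.card_congr (MonoidHom.ofInjective hinj).toEquiv).symm
  rcases DicksonPSL2.coprime_case (H := φ.range) p (hcard ▸ hp) with h | ⟨x, hx, hle⟩ |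
    ⟨h, -, -⟩ | ⟨h, -, -⟩ | ⟨h, -, -⟩
  · have h1 : ∀ g : G, φ g = 1 := fun g => Subgroup.mem_bot.1 (h ▸ ⟨g, rfl⟩)
    exact hinj (by rw [h1, h1])
  · have key : ∀ g : G, φ g ∈ DicksonPSL2.torus x := by
      intro g
      rcases DicksonPSL2.mem_or_inverts hx
        ((DicksonPSL2.mem_normalizer_torus_iff hx).1 (hle ⟨g, rfl⟩)) with h | ⟨h, -⟩
      · exact h
      · have h1 : g * g = 1 := hinj (by rw [map_mul, h, map_one])
        by_cases hg : g = 1
        · rw [hg, map_one]
          exact one_mem _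
        · exact absurd ((orderOf_eq_prime (p := 2) (by rw [pow_two, h1]) hg) ▸
            orderOf_dvd_natCard g) hodd
    exact hinj (by rw [map_mul, map_mul, DicksonPSL2.torus_comm hx (key a) (key b)])
  all_goals exact absurd (by rw [← hcard, h]; norm_num) hodd

/-! ### The stabiliser of the third coordinate -/

/-- The elements fixing the third vector and the third coordinate. -/
def blk : Subgroup (GL (Fin 3) F) where
  carrier := {g | mat g *ᵥ ![0, 0, 1] = ![0, 0, 1] ∧ ![0, 0, 1] ᵥ* mat g = ![0, 0, 1]}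
  one_mem' := by constructor <;> simp [mat]
  mul_mem' {a b} ha hb := by
    constructor
    · rw [mat, Units.val_mul, ← mulVec_mulVec, hb.1, ha.1]
    · rw [mat, Units.val_mul, ← vecMul_vecMul, ha.2, hb.2]
  inv_mem' {a} ha := by
    constructor
    · have := congrArg (mat a⁻¹ *ᵥ ·) ha.1
      simp only [mulVec_mulVec, mat_inv_mul, one_mulVec] at this
      exact this.symm
    · have := congrArg (· ᵥ* mat a⁻¹) ha.2
      simp only [vecMul_vecMul, mat, Units.mul_inv, vecMul_one] at this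
      exact this.symm

theorem mem_blk {g : GL (Fin 3) F} : g ∈ blk (F := F) ↔
    mat g 0 2 = 0 ∧ mat g 1 2 = 0 ∧ mat g 2 0 = 0 ∧ mat g 2 1 = 0 ∧ mat g 2 2 = 1 := by
  show (_ ∧ _) ↔ _
  constructor
  · rintro ⟨h, h'⟩
    have a0 := congrFun h 0
    have a1 := congrFun h 1
    have b0 := congrFun h' 0
    have b1 := congrFun h' 1
    have b2 := congrFun h' 2
    simp [mulVec, vecMul, dotProduct, Fin.sum_univ_three] at a0 a1 b0 b1 b2
    exact ⟨a0, a1, b0, b1, b2⟩
  · rintro ⟨a0, a1, b0, b1, b2⟩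
    constructor <;> ext i <;> fin_cases i <;>
      simp [mulVec, vecMul, dotProduct, Fin.sum_univ_three, a0, a1, b0, b1, b2]

theorem det_blk {g : GL (Fin 3) F} (hg : g ∈ blk (F := F)) :
    (mat g).det = mat g 0 0 * mat g 1 1 - mat g 0 1 * mat g 1 0 := by
  obtain ⟨a0, a1, b0, b1, b2⟩ := mem_blk.1 hg
  rw [det_fin_three, a0, a1, b0, b1, b2]
  ring

/-- The upper left block. -/
def blockHom {Q : Subgroup (GL (Fin 3) F)} (hQ : Q ≤ blk) (hdet : ∀ g ∈ Q, (mat g).det = 1) :
    Q →* SL(2, F) where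
  toFun g := ⟨!![mat g.1 0 0, mat g.1 0 1; mat g.1 1 0, mat g.1 1 1], by
    have h := det_blk (hQ g.2)
    rw [hdet _ g.2] at h
    rw [det_fin_two_of, ← h]⟩
  map_one' := by
    apply Subtype.ext
    ext i j
    fin_cases i <;> fin_cases j <;> simp [mat]
  map_mul' a b := by
    obtain ⟨a0, a1, -, -, -⟩ := mem_blk.1 (hQ a.2)
    apply Subtype.ext
    show !![mat (a * b).1 0 0, mat (a * b).1 0 1; mat (a * b).1 1 0, mat (a * b).1 1 1] =
      !![mat a.1 0 0, mat a.1 0 1; mat a.1 1 0, mat a.1 1 1] *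
        !![mat b.1 0 0, mat b.1 0 1; mat b.1 1 0, mat b.1 1 1]
    ext i j
    fin_cases i <;> fin_cases j <;>
      simp [mat, Matrix.mul_apply, Fin.sum_univ_three, Fin.sum_univ_two, a0, a1]

theorem blockHom_apply {Q : Subgroup (GL (Fin 3) F)} (hQ : Q ≤ blk)
    (hdet : ∀ g ∈ Q, (mat g).det = 1) (g : Q) :
    (blockHom hQ hdet g).1 = !![mat g.1 0 0, mat g.1 0 1; mat g.1 1 0, mat g.1 1 1] := rfl

/-- An element of order `p` of the stabiliser is a transvection. -/
theorem flag_of_order_char {p : ℕ} [Fact p.Prime] [CharP F p] {P : Subgroup (GL (Fin 3) F)}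
    (hdet : ∀ g ∈ P, (mat g).det = 1) {g : GL (Fin 3) F} (hP : g ∈ P) (hg : g ∈ blk (F := F))
    (hne : g ≠ 1) (hpow : g ^ p = 1) : ∃ v a, Flag P v a := by
  have htr : (mat g).trace = 3 := by
    have h1 := trace_pow_char p (mat g)
    have h2 := trace_pow_char p (1 : Matrix (Fin 3) (Fin 3) F)
    rw [mat, ← Units.val_pow_eq_pow_val, hpow, Units.val_one] at h1
    rw [one_pow] at h2
    have h3 := h1.symm.trans h2
    haveI : ExpChar F p := ExpChar.prime (Fact.out : p.Prime)
    simpa using frobenius_inj F p h3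
  obtain ⟨a0, a1, b0, b1, b2⟩ := mem_blk.1 hg
  have hd := det_blk hg
  rw [hdet g hP] at hd
  rw [trace_fin_three, b2] at htr
  set x := mat g 0 0 - 1 with hx
  set y := mat g 0 1 with hy
  set z := mat g 1 0 with hz
  have h00 : mat g 0 0 = 1 + x := by rw [hx]; ring
  have h11 : mat g 1 1 = 1 - x := by linear_combination htr - h00
  rw [h00, h11] at hd
  have hnil : x ^ 2 + y * z = 0 := by linear_combination hd
  by_cases hy0 : y = 0
  · have hx0 : x = 0 := by simpa [hy0] using hnil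
    have hz0 : z ≠ 0 := fun hz0 => hne (by
      apply Units.ext
      ext i j
      fin_cases i <;> fin_cases j <;>
        simp [a0, a1, b0, b1, b2, h00, h11, hx0, hy0, hz0, ← hy, ← hz])
    have hdot : ![(1 : F), 0, 0] ⬝ᵥ ![0, z, 0] = 0 := by simp
    refine ⟨_, _, flag_of_tv hdot (fun e => hz0 (by simpa using congrFun e 1))
      (fun e => one_ne_zero (α := F) (by simpa using congrFun e 0)) ?_⟩
    convert hP using 1
    apply Units.ext
    rw [MaxSub.tv_coe hdot]
    ext i j
    fin_cases i <;> fin_cases j <;>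
      simp [vecMulVec_apply, a0, a1, b0, b1, b2, h00, h11, hx0, hy0, ← hy, ← hz]
  · have hdot : ![x / y, 1, 0] ⬝ᵥ ![y, -x, 0] = 0 := by
      simp [dotProduct, Fin.sum_univ_three, hy0]
    refine ⟨_, _, flag_of_tv hdot (fun e => hy0 (by simpa using congrFun e 0))
      (fun e => one_ne_zero (α := F) (by simpa using congrFun e 1)) ?_⟩
    convert hP using 1
    apply Units.ext
    rw [MaxSub.tv_coe hdot]
    ext i j
    fin_cases i <;> fin_cases j <;>
      simp [vecMulVec_apply, a0, a1, b0, b1, b2, h00, h11, hy0, ← hy, ← hz]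
    · field_simp
    · field_simp
      linear_combination -hnil
    · ring

/-- An involution of the stabiliser. -/
theorem mat_of_involution {g : GL (Fin 3) F} (h2 : (2 : F) ≠ 0) (hd : (mat g).det = 1)
    (hg : g ∈ blk (F := F)) (hsq : g * g = 1) (hne : g ≠ 1) :
    mat g = !![-1, 0, 0; 0, -1, 0; 0, 0, 1] := by
  obtain ⟨a0, a1, b0, b1, b2⟩ := mem_blk.1 hg
  rw [det_blk hg] at hd
  have hm : mat g * mat g = 1 := by rw [mat, ← Units.val_mul, hsq, Units.val_one]
  have e00 := congrFun (congrFun hm 0) 0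
  have e01 := congrFun (congrFun hm 0) 1
  have e10 := congrFun (congrFun hm 1) 0
  have e11 := congrFun (congrFun hm 1) 1
  simp [Matrix.mul_apply, Fin.sum_univ_three, a0, a1, b0, b1] at e00 e01 e10 e11
  set a := mat g 0 0 with ha
  set b := mat g 0 1 with hb
  set c := mat g 1 0 with hc
  set d := mat g 1 1 with hd'
  have hs : a + d ≠ 0 := fun hs => by
    have : (2 : F) = 0 := by linear_combination -hd - e00 + a * hs
    exact h2 this
  have hb0 : b = 0 := (mul_eq_zero.1 (show b * (a + d) = 0 by linear_combination e01)).resolve_right hs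
  have hc0 : c = 0 := (mul_eq_zero.1 (show c * (a + d) = 0 by linear_combination e10)).resolve_right hs
  have hda : d = a := by
    rw [hb0, hc0] at hd e00
    linear_combination a * hd - d * e00
  rcases mul_eq_zero.1 (show (a - 1) * (a + 1) = 0 by rw [hb0] at e00; linear_combination e00)
    with h | h
  · refine absurd (Units.ext ?_) hne
    ext i j
    fin_cases i <;> fin_cases j <;>
      simp [← ha, ← hb, ← hc, ← hd', a0, a1, b0, b1, b2, hb0, hc0, hda, sub_eq_zero.1 h]
  · ext i j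
    fin_cases i <;> fin_cases j <;>
      simp [← ha, ← hb, ← hc, ← hd', a0, a1, b0, b1, b2, hb0, hc0, hda, eq_neg_of_add_eq_zero_left h]

theorem mat_inv_of_diag {D : GL (Fin 3) F} {l m : F} (hl : l ≠ 0) (hm : m ≠ 0)
    (hD : mat D = !![l, 0, 0; 0, m, 0; 0, 0, m]) :
    mat D⁻¹ = !![l⁻¹, 0, 0; 0, m⁻¹, 0; 0, 0, m⁻¹] := by
  have h : mat D * !![l⁻¹, 0, 0; 0, m⁻¹, 0; 0, 0, m⁻¹] = 1 := by
    rw [hD]
    ext i j
    fin_cases i <;> fin_cases j <;> simp [Matrix.mul_apply, Fin.sum_univ_three, hl, hm]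
  calc mat D⁻¹ = mat D⁻¹ * (mat D * !![l⁻¹, 0, 0; 0, m⁻¹, 0; 0, 0, m⁻¹]) := by rw [h, mul_one]
    _ = _ := by rw [← mul_assoc, mat_inv_mul, one_mul]

/-- The scalars of an element commuting with the reflection. -/
theorem diag_facts {D : GL (Fin 3) F} {l m : F} (hd : (mat D).det = 1)
    (hD : mat D = !![l, 0, 0; 0, m, 0; 0, 0, m]) (hm : m ^ 6 ≠ 1) :
    l ≠ 0 ∧ m ≠ 0 ∧ m ^ 2 - l ^ 2 ≠ 0 := by
  rw [hD, det_fin_three] at hd
  simp at hd
  refine ⟨?_, ?_, fun e => hm ?_⟩
  · rintro rfl; simp at hd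
  · rintro rfl; simp at hd
  · linear_combination m ^ 4 * e + (l * m * m + 1) * hd

section Coordinates

variable {P : Subgroup (GL (Fin 3) F)} {s g0 g1 l m : F} {T U D : GL (Fin 3) F}

/-- Two reflections whose common fixed line is off the line of their centres. -/
theorem exists_neg_blk [Fintype F] {p : ℕ} [Fact p.Prime] [CharP F p] (h2 : (2 : F) ≠ 0)
    (hdet : ∀ g ∈ P, (mat g).det = 1) (hM : NoFlag P)
    (hs : s ≠ 0) (hg0 : g0 ≠ 0) (hg1 : g1 ≠ 0) (hg : g0 * s + g1 = 1) (hm : m ^ 6 ≠ 1)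
    (hT : T ∈ P) (hU : U ∈ P) (hD : D ∈ P)
    (eT : mat T = !![1, 0, 0; 0, -1, 0; 0, 0, -1])
    (eU : mat U = !![2 * g0 * s - 1, 2 * g1 * s, 0; 2 * g0, 2 * g1 - 1, 0; 0, 0, -1])
    (eD : mat D = !![l, 0, 0; 0, m, 0; 0, 0, m]) :
    ∃ g ∈ P, mat g = !![-1, 0, 0; 0, -1, 0; 0, 0, 1] := by
  obtain ⟨hl, hm0, hlm⟩ := diag_facts (hdet D hD) eD hm
  let Q : Subgroup (GL (Fin 3) F) := P ⊓ blk
  by_cases heven : 2 ∣ Nat.card Q
  · obtain ⟨g, hg2⟩ := exists_prime_orderOf_dvd_card' (G := Q) 2 heven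
    have hne : g ≠ 1 := fun e => by rw [e, orderOf_one] at hg2; omega
    have hsq : g * g = 1 := by rw [← pow_two, ← hg2, pow_orderOf_eq_one]
    exact ⟨g, g.2.1, mat_of_involution h2 (hdet _ g.2.1) g.2.2 (congrArg Subtype.val hsq)
      fun e => hne (Subtype.ext e)⟩
  exfalso
  have hdQ : ∀ g ∈ Q, (mat g).det = 1 := fun g hg => hdet g hg.1
  let φ : Q →* PSL(2, F) := DicksonPSL2.projHom.comp (blockHom inf_le_right hdQ)
  have hinj : Function.Injective φ := by
    refine (injective_iff_map_eq_one φ).2 fun g hg => ?_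
    obtain ⟨a0, a1, b0, b1, b2⟩ := mem_blk.1 g.2.2
    rcases (SL2Trace.proj_eq_one_iff _).1 hg with h | h
    · have e00 := congrFun (congrFun (congrArg Subtype.val h) 0) 0
      have e01 := congrFun (congrFun (congrArg Subtype.val h) 0) 1
      have e10 := congrFun (congrFun (congrArg Subtype.val h) 1) 0
      have e11 := congrFun (congrFun (congrArg Subtype.val h) 1) 1
      simp [blockHom_apply] at e00 e01 e10 e11
      apply Subtype.ext
      apply Units.ext
      ext i j
      fin_cases i <;> fin_cases j <;> simp [a0, a1, b0, b1, b2, e00, e01, e10, e11]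
    · have e00 := congrFun (congrFun (congrArg Subtype.val h) 0) 0
      have e01 := congrFun (congrFun (congrArg Subtype.val h) 0) 1
      have e10 := congrFun (congrFun (congrArg Subtype.val h) 1) 0
      have e11 := congrFun (congrFun (congrArg Subtype.val h) 1) 1
      simp [blockHom_apply] at e00 e01 e10 e11
      have h1 : g * g = 1 := by
        apply Subtype.ext
        apply Units.ext
        ext i j
        fin_cases i <;> fin_cases j <;>
          simp [Matrix.mul_apply, Fin.sum_univ_three, a0, a1, b0, b1, b2, e00, e01, e10, e11]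
      by_contra hne
      exact heven ((orderOf_eq_prime (p := 2) (by rw [pow_two, h1]) hne) ▸ orderOf_dvd_natCard g)
  have hp : ¬ p ∣ Nat.card Q := fun hdvd => by
    obtain ⟨g, hgp⟩ := exists_prime_orderOf_dvd_card' (G := Q) p hdvd
    have hne : g ≠ 1 := fun e => by
      rw [e, orderOf_one] at hgp
      exact (Fact.out : p.Prime).one_lt.ne hgp
    obtain ⟨v, a, hva⟩ := flag_of_order_char (p := p) hdet g.2.1 g.2.2 (fun e => hne (Subtype.ext e))
      (by rw [← SubmonoidClass.coe_pow, ← hgp, pow_orderOf_eq_one]; rfl)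
    exact hM v a hva
  have eR : mat (T * U) = !![2 * g0 * s - 1, 2 * g1 * s, 0; -(2 * g0), 2 * g0 * s - 1, 0; 0, 0, 1] := by
    rw [mat, Units.val_mul, show (T : Matrix (Fin 3) (Fin 3) F) = _ from eT,
      show (U : Matrix (Fin 3) (Fin 3) F) = _ from eU]
    ext i j
    fin_cases i <;> fin_cases j <;> simp [Matrix.mul_apply, Fin.sum_univ_three]
    linear_combination (-2) * hg
  have eR' : mat (D * (T * U) * D⁻¹) = !![2 * g0 * s - 1, l * (2 * g1 * s) / m, 0;
      -(m * (2 * g0)) / l, 2 * g0 * s - 1, 0; 0, 0, 1] := by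
    rw [mat, Units.val_mul, Units.val_mul, show (D : Matrix (Fin 3) (Fin 3) F) = _ from eD,
      show ((T * U : GL (Fin 3) F) : Matrix (Fin 3) (Fin 3) F) = _ from eR,
      show ((D⁻¹ : GL (Fin 3) F) : Matrix (Fin 3) (Fin 3) F) = _ from mat_inv_of_diag hl hm0 eD]
    ext i j
    fin_cases i <;> fin_cases j <;> simp [Matrix.mul_apply, Fin.sum_univ_three] <;> field_simp
  have hR : T * U ∈ Q := ⟨P.mul_mem hT hU, by
    show T * U ∈ blk
    rw [mem_blk, eR]; simp⟩
  have hR' : D * (T * U) * D⁻¹ ∈ Q :=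
    ⟨P.mul_mem (P.mul_mem hD (P.mul_mem hT hU)) (P.inv_mem hD), by
      show D * (T * U) * D⁻¹ ∈ blk
      rw [mem_blk, eR']; simp⟩
  have hcomm := comm_of_odd_psl2 (p := p) φ hinj heven hp ⟨_, hR⟩ ⟨_, hR'⟩
  have e : mat (T * U * (D * (T * U) * D⁻¹)) = mat (D * (T * U) * D⁻¹ * (T * U)) :=
    congrArg (fun g : Q => mat (g : GL (Fin 3) F)) hcomm
  simp only [mat] at eR eR'
  rw [mat, mat, Units.val_mul (T * U) (D * (T * U) * D⁻¹),
    Units.val_mul (D * (T * U) * D⁻¹) (T * U), eR, eR'] at e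
  replace e := congrFun (congrFun e 0) 0
  simp [Matrix.mul_apply, Fin.sum_univ_three] at e
  field_simp at e
  exact hlm (by linear_combination -e)

/-- Two reflections whose common fixed line is the line of their centres and the point on it. -/
theorem flag_of_tangent (h2 : (2 : F) ≠ 0) (hdet : ∀ g ∈ P, (mat g).det = 1)
    (hg : g0 * s = 1) (hm : m ^ 6 ≠ 1) (hT : T ∈ P) (hU : U ∈ P) (hD : D ∈ P)
    (eT : mat T = !![1, 0, 0; 0, -1, 0; 0, 0, -1])
    (eU : mat U = !![1, 0, 2 * s; 2 * g0, -1, 2; 0, 0, -1])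
    (eD : mat D = !![l, 0, 0; 0, m, 0; 0, 0, m]) :
    ∃ v a, Flag P v a := by
  obtain ⟨hl, hm0, hlm⟩ := diag_facts (hdet D hD) eD hm
  have eR : mat (T * U) = !![1, 0, 2 * s; -(2 * g0), 1, -2; 0, 0, 1] := by
    rw [mat, Units.val_mul, show (T : Matrix (Fin 3) (Fin 3) F) = _ from eT,
      show (U : Matrix (Fin 3) (Fin 3) F) = _ from eU]
    ext i j
    fin_cases i <;> fin_cases j <;> simp [Matrix.mul_apply, Fin.sum_univ_three]
  have eR' : mat (D * (T * U) * D⁻¹) = !![1, 0, l * (2 * s) / m; -(m * (2 * g0)) / l, 1, -2; 0, 0, 1] := by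
    rw [mat, Units.val_mul, Units.val_mul, show (D : Matrix (Fin 3) (Fin 3) F) = _ from eD,
      show ((T * U : GL (Fin 3) F) : Matrix (Fin 3) (Fin 3) F) = _ from eR,
      show ((D⁻¹ : GL (Fin 3) F) : Matrix (Fin 3) (Fin 3) F) = _ from mat_inv_of_diag hl hm0 eD]
    ext i j
    fin_cases i <;> fin_cases j <;> simp [Matrix.mul_apply, Fin.sum_univ_three] <;> field_simp
  set d : F := -4 * (l / m - m / l) with hd
  have hd0 : d ≠ 0 := by
    have h4 : (-4 : F) ≠ 0 := by
      intro h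
      exact h2 (pow_eq_zero_iff (n := 2) (by norm_num) |>.1 (by linear_combination -h))
    refine mul_ne_zero h4 fun e => hlm ?_
    field_simp at e
    linear_combination -e
  have hdot : ![(0 : F), 0, 1] ⬝ᵥ ![0, d, 0] = 0 := by simp
  have hmem : MaxSub.tv ![0, d, 0] ![0, 0, 1] =
      (T * U) * (D * (T * U) * D⁻¹) * ((D * (T * U) * D⁻¹) * (T * U))⁻¹ := by
    rw [eq_mul_inv_iff_mul_eq]
    apply Units.ext
    simp only [mat] at eR eR'
    rw [Units.val_mul, Units.val_mul (D * (T * U) * D⁻¹) (T * U),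
      Units.val_mul (T * U) (D * (T * U) * D⁻¹), MaxSub.tv_coe hdot, eR', eR]
    ext i j
    fin_cases i <;> fin_cases j <;>
      simp [Matrix.mul_apply, Fin.sum_univ_three, vecMulVec_apply] <;>
      first | ring1 | (rw [hd]; field_simp; linear_combination (4 * l ^ 2 - 4 * m ^ 2) * hg)
  refine ⟨_, _, flag_of_tv hdot (fun e => hd0 (by simpa using congrFun e 1))
    (fun e => one_ne_zero (α := F) (by simpa using congrFun e 2)) ?_⟩
  rw [hmem]
  have hR := P.mul_mem hT hU
  have hR' := P.mul_mem (P.mul_mem hD hR) (P.inv_mem hD)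
  exact P.mul_mem (P.mul_mem hR hR') (P.inv_mem (P.mul_mem hR' hR))

end Coordinates

end CfsgLib.PGLThree
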