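import Cfsg.Agent.DicksonPSL2.NineList

/-!
# A binary quadratic form over nine elements

The values of a binary quadratic form on ten representatives of the points of the line over `F₉`
cannot all be fourth roots of one: the sum of their fourth powers is zero.
-/

set_option autoImplicit false
set_option linter.unusedSectionVars false

namespace CfsgLib.PGLThree

open CfsgLib.DicksonPSL2

/-- `a x² + b x y + c y²`. -/
def quadForm {R : Type*} [CommRing R] (a b c x y : R) : R := a * x * x + b * x * y + c * y * y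

/-- Ten representatives of the points of the line, for `i² = -1`. -/
def tenPoints {R : Type*} [CommRing R] (i : R) : List (R × R) :=
  [(1, 0), (0, 1), (1, 1), (1, -1), (i, 1), (-i, 1), (1 + i, 1), (1 - i, 1), (1 + i, -1),
    (1 - i, -1)]

theorem sum_fourth_gauss : ∀ a₁ a₂ b₁ b₂ c₁ c₂ : ZMod 3,
    ((tenPoints (gz 0 1)).map fun q =>
      let v := quadForm (gz a₁ a₂) (gz b₁ b₂) (gz c₁ c₂) q.1 q.2
      (v * v) * (v * v)).sum = 0 := by
  decide +kernel

variable {F : Type*} [Field F]

/-- A binary quadratic form takes a value which is not a fourth root of one at one of ten points. -/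
theorem false_of_ten [CharP F 3] {i a b c : F} (hi : i ^ 2 = -1)
    (h : ∀ q ∈ tenPoints i, quadForm a b c q.1 q.2 ^ 4 = 1) : False := by
  have h3 : (3 : F) = 0 := by simpa using CharP.cast_eq_zero F 3
  let e := gaussHom i hi
  have ei : e (gz 0 1) = i := by
    show gaussHom i hi _ = i
    rw [gaussHom_gz]
    simp [ZMod.cast_zero, ZMod.cast_one (dvd_refl 3)]
  have hrange : ∀ x : F, x ^ 4 = 1 → ∃ m n : ZMod 3, e (gz m n) = x := by
    intro x hx
    have : (x ^ 2 - 1) * (x ^ 2 + 1) = 0 := by linear_combination hx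
    rcases mul_eq_zero.1 this with h | h
    · rcases sq_eq_one_iff.1 (sub_eq_zero.1 h) with rfl | rfl
      · exact ⟨1, 0, by rw [show gz 1 0 = 1 from rfl, map_one]⟩
      · exact ⟨-1, 0, by rw [show gz (-1) 0 = -gz 1 0 by ext <;> simp [gz],
          show gz 1 0 = 1 from rfl, map_neg, map_one]⟩
    · have h' : (x - i) * (x + i) = 0 := by linear_combination h - hi
      rcases mul_eq_zero.1 h' with h' | h'
      · exact ⟨0, 1, by rw [ei]; exact (sub_eq_zero.1 h').symm⟩
      · exact ⟨0, -1, by
          rw [show gz 0 (-1) = -gz 0 1 by ext <;> simp [gz], map_neg, ei]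
          exact (eq_neg_of_add_eq_zero_left h').symm⟩
  simp only [tenPoints, List.forall_mem_cons, List.not_mem_nil, false_implies, implies_true,
    and_true, quadForm] at h
  obtain ⟨h1, h2, h4, h5, h6, h7, h8, h9, h10, h11⟩ := h
  obtain ⟨a₁, a₂, ha⟩ := hrange a (by simpa using h1)
  obtain ⟨c₁, c₂, hc⟩ := hrange c (by simpa using h2)
  obtain ⟨s₁, s₂, hs⟩ := hrange (a + b + c) (by simpa using h4)
  have hb : e (gz (s₁ - a₁ - c₁) (s₂ - a₂ - c₂)) = b := by
    rw [show gz (s₁ - a₁ - c₁) (s₂ - a₂ - c₂) = gz s₁ s₂ - gz a₁ a₂ - gz c₁ c₂ by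
      ext <;> simp [gz], map_sub, map_sub, hs, ha, hc]
    ring
  have key := congrArg e (sum_fourth_gauss a₁ a₂ (s₁ - a₁ - c₁) (s₂ - a₂ - c₂) c₁ c₂)
  simp only [tenPoints, List.map_cons, List.map_nil, List.sum_cons, List.sum_nil, quadForm, map_add,
    map_mul, map_sub, map_neg, map_one, map_zero, ei, ha, hb, hc] at key
  exact one_ne_zero (α := F) (by
    linear_combination key - h1 - h2 - h4 - h5 - h6 - h7 - h8 - h9 - h10 - h11 - 3 * h3)

end CfsgLib.PGLThree
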