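import Cfsg.Agent.DicksonPSL2.Transvections

/-!
# A group of `SL₂` with translations on both sides

If a subgroup `L` of `SL(2, F)` holds at least three upper translations and a lower one, the upper
ones are `w F₀`, the lower ones `w⁻¹ F₀` for a subfield `F₀`, or `p = 3` and it is `A₅` modulo sign.
-/

set_option autoImplicit false
set_option linter.unusedSectionVars false

namespace CfsgLib.PGLThree

open Matrix CfsgLib.SL2Trace CfsgLib.DicksonPSL2
open CfsgLib.SL2Tori (tr)
open scoped MatrixGroups

variable {F : Type*} [Field F]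

/-- `[[1, 0], [t, 1]]`. -/
def loSL (t : F) : SL(2, F) := ⟨!![1, 0; t, 1], by simp [Matrix.det_fin_two]⟩

theorem coe_loSL (t : F) : (loSL t).1 = !![1, 0; t, 1] := rfl

theorem loSL_add (s t : F) : loSL (s + t) = loSL s * loSL t := by
  apply Subtype.ext
  rw [Matrix.SpecialLinearGroup.coe_mul, coe_loSL, coe_loSL, coe_loSL]
  ext i j
  fin_cases i <;> fin_cases j <;> simp [Matrix.mul_apply, Fin.sum_univ_two, add_comm]

theorem loSL_zero : loSL (0 : F) = 1 := by
  apply Subtype.ext
  ext i j
  fin_cases i <;> fin_cases j <;> simp [coe_loSL]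

theorem upSL_pow (w : F) (n : ℕ) : upSL w ^ n = upSL (n * w) := by
  induction n with
  | zero => simp [upSL_zero]
  | succ n ih => rw [pow_succ, ih, ← upSL_add]; congr 1; push_cast; ring

theorem loSL_pow (w : F) (n : ℕ) : loSL w ^ n = loSL (n * w) := by
  induction n with
  | zero => simp [loSL_zero]
  | succ n ih => rw [pow_succ, ih, ← loSL_add]; congr 1; push_cast; ring

variable (p : ℕ) [hp : Fact p.Prime] [CharP F p]

include hp in
/-- A translation lies in a subgroup if its image does. -/
theorem mem_of_proj {L : Subgroup SL(2, F)} {g : SL(2, F)} (hg : g ^ p = 1)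
    (h : proj g ∈ L.map projHom) : g ∈ L := by
  obtain ⟨l, hl, he⟩ := h
  rcases proj_eq_proj_iff.1 (show proj l = proj g from he) with e | e
  · rwa [e]
  · rcases hp.out.eq_two_or_odd' with h2 | h2
    · have : (2 : F) = 0 := by
        have := CharP.cast_eq_zero F p
        rw [h2] at this
        exact_mod_cast this
      have hl' : -l = l := by
        apply Subtype.ext
        ext i j
        rw [Matrix.SpecialLinearGroup.coe_neg, Matrix.neg_apply]
        linear_combination (-(l.1 i j)) * this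
      rwa [e, hl']
    · have hlp : l ^ p = -1 := by
        have : (-g) ^ p = -1 := by rw [h2.neg_pow, hg]
        rwa [show l = -g by rw [e, neg_neg]]
      have hm : (-1 : SL(2, F)) ∈ L := hlp ▸ pow_mem hl p
      have := mul_mem hm hl
      rwa [neg_one_mul, ← e] at this

include hp in
theorem mem_of_proj_up {L : Subgroup SL(2, F)} {w : F} (h : u w ∈ L.map projHom) : upSL w ∈ L :=
  mem_of_proj p (by rw [upSL_pow, CharP.cast_eq_zero, zero_mul, upSL_zero]) h

include hp in
theorem mem_of_proj_lo {L : Subgroup SL(2, F)} {w : F} (h : proj (loSL w) ∈ L.map projHom) :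
    loSL w ∈ L :=
  mem_of_proj p (by rw [loSL_pow, CharP.cast_eq_zero, zero_mul, loSL_zero]) h

variable [Fintype F]

include hp in
/-- In the subfield case the slope zero occurs. -/
theorem isCentred_of_lower {H : Subgroup PSL(2, F)} (hs : IsSubfieldType H) {w₀ t : F}
    (hw₀ : u w₀ ∈ H) (h0 : w₀ ≠ 0) (ht : proj (loSL t) ∈ H) (ht0 : t ≠ 0) : IsCentred H := by
  obtain ⟨-, hk, e, he⟩ := hs
  have sl : ∀ g : SL(2, F), proj g ∈ H → g.1 1 0 ≠ 0 → g.1 0 0 / g.1 1 0 - e ∈ trans H :=
    fun g hg hc => by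
      have := he _ ⟨proj g, ⟨hg, fun h => hc ((proj_mem_BP_iff _).1 h)⟩, rfl⟩
      rwa [slope_proj] at this
  have s1 : 1 / t - e ∈ trans H := by simpa [coe_loSL] using sl _ ht (by simpa [coe_loSL] using ht0)
  have ht' : proj (loSL (-t)) ∈ H := by
    have e' : loSL (-t) = (loSL t)⁻¹ := eq_inv_of_mul_eq_one_left (by rw [← loSL_add, neg_add_cancel, loSL_zero])
    rw [e', proj_inv]; exact inv_mem ht
  have s2 : -(1 / t) - e ∈ trans H := by
    simpa [coe_loSL, neg_div, div_neg] using sl _ ht' (by simpa [coe_loSL] using ht0)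
  suffices he0 : e ∈ trans H by
    intro s hs
    simpa using (trans H).add_mem (he s hs) he0
  rcases hp.out.eq_two_or_odd' with h2 | h2
  · -- the conjugate of the translation by `w₀` also gives a slope
    obtain ⟨K, instK, instK', ι, w, -, hT, -⟩ := exists_field p hk hw₀ h0
    have hF2 : (2 : F) = 0 := by
      have := CharP.cast_eq_zero F p
      rw [h2] at this
      exact_mod_cast this
    have h3 := sl (loSL t * upSL w₀ * loSL t)
      (by rw [proj_mul, proj_mul]; exact mul_mem (mul_mem ht hw₀) ht)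
    have hm : (loSL t * upSL w₀ * loSL t).1 = !![1 + w₀ * t, w₀; w₀ * t ^ 2, t * w₀ + 1] := by
      rw [Matrix.SpecialLinearGroup.coe_mul, Matrix.SpecialLinearGroup.coe_mul, coe_loSL, coe_upSL]
      ext i j
      fin_cases i <;> fin_cases j <;> simp [Matrix.mul_apply, Fin.sum_univ_two]
      linear_combination t * hF2
    rw [hm] at h3
    have h4 := (trans H).sub_mem (h3 (by simpa using mul_ne_zero h0 (pow_ne_zero 2 ht0))) s1
    obtain ⟨a, ha⟩ := (hT _).1 hw₀
    have h5 : (1 + w₀ * t) / (w₀ * t ^ 2) - e - (1 / t - e) = 1 / (w₀ * t ^ 2) := by field_simp; ring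
    obtain ⟨b, hb⟩ := (hT _).1 (show 1 / (w₀ * t ^ 2) ∈ trans H by rw [← h5]; simpa using h4)
    haveI : CharP K 2 := (RingHom.charP_iff_charP ι 2).2 (h2 ▸ inferInstance)
    obtain ⟨c, hc⟩ := (bijective_frobenius K 2).2 (a * b / a ^ 2)
    rw [frobenius_def] at hc
    have hw : (w : F) ≠ 0 := w.ne_zero
    have ha0 : ι a ≠ 0 := fun h => h0 (by rw [ha, h, mul_zero])
    have hsq : (1 / t) ^ 2 = (w * (ι a * ι c)) ^ 2 := by
      have hb' : w * ι b * (w₀ * t ^ 2) = 1 := by
        rw [← hb, one_div, inv_mul_cancel₀ (mul_ne_zero h0 (pow_ne_zero 2 ht0))]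
      have hc' : ι c ^ 2 * ι a = ι b := by
        rw [← map_pow, hc, map_div₀, map_mul, map_pow]; field_simp
      rw [ha] at hb'
      field_simp
      linear_combination -hb' - (w * w * ι a * t ^ 2 : F) * hc'
    have hinv : 1 / t ∈ trans H := (hT _).2 ⟨a * c, by
      rw [map_mul]
      haveI : CharP F 2 := CharTwo.of_one_ne_zero_of_two_eq_zero one_ne_zero hF2
      exact CharTwo.sq_injective hsq⟩
    simpa using (trans H).sub_mem hinv s1
  · obtain ⟨m, hm⟩ := h2
    have h2e : 2 * e ∈ trans H := by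
      have := (trans H).neg_mem ((trans H).add_mem s1 s2)
      convert this using 1; ring
    have := (trans H).nsmul_mem h2e (m + 1)
    rw [nsmul_eq_mul] at this
    have hp' : (2 * m + 1 : F) = 0 := by exact_mod_cast hm ▸ CharP.cast_eq_zero F p
    convert this using 1
    push_cast
    linear_combination (-e) * hp'

include hp in
/-- Translations on both sides generate a subfield group or, in characteristic three, `A₅`. -/
theorem plane_pair (L : Subgroup SL(2, F)) {K K' : AddSubgroup F}
    (hK : ∀ w, upSL w ∈ L ↔ w ∈ K) (hK' : ∀ t, loSL t ∈ L ↔ t ∈ K') (h3 : 3 ≤ Nat.card K)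
    (h0 : ∃ t ∈ K', t ≠ 0) :
    Nat.card K' = Nat.card K ∧
      ((∃ F₀ : Subfield F, Nat.card F₀ = Nat.card K ∧ ∀ s ∈ K, ∀ t ∈ K', s * t ∈ F₀) ∨
        (p = 3 ∧ Nat.card K = 3 ∧ ∀ s ∈ K, ∀ t ∈ K', s ≠ 0 → t ≠ 0 → (s * t) ^ 2 = -1)) := by
  classical
  obtain ⟨H, hH⟩ : ∃ H, H = L.map projHom := ⟨_, rfl⟩
  have hTr : trans H = K := by
    ext w
    rw [mem_trans, hH, ← hK]
    exact ⟨mem_of_proj_up p, fun h => ⟨_, h, rfl⟩⟩
  obtain ⟨s₀, hs₀, hs0⟩ : ∃ s ∈ K, s ≠ 0 := by
    by_contra! h
    have : Nat.card K ≤ 1 := Finite.card_le_one_iff_subsingleton.2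
      ⟨fun x y => Subtype.ext ((h _ x.2).trans (h _ y.2).symm)⟩
    omega
  obtain ⟨t₀, ht₀, ht0⟩ := h0
  have hu : u s₀ ∈ H := by rw [← mem_trans, hTr]; exact hs₀
  have hl : ∀ t ∈ K', proj (loSL t) ∈ H := fun t ht => hH ▸ ⟨_, (hK' t).2 ht, rfl⟩
  rcases char_case p hu hs0 with hB | ⟨hp2, x, hx, hle⟩ | ⟨h60, hp3, ⟨e5⟩⟩ | hs
  · exact absurd ((proj_mem_BP_iff _).1 (hB (hl _ ht₀))) (by simpa [coe_loSL] using ht0)
  · exfalso
    have hinv : ∀ s ∈ K, s ≠ 0 → u s * x * (u s)⁻¹ = x⁻¹ := fun s hs hs' => by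
      have hm : u s ∈ Subgroup.normalizer (torus x : Set PSL(2, F)) :=
        hle (by rw [← mem_trans, hTr]; exact hs)
      rcases mem_or_inverts hx (((mem_normalizer_torus_iff hx).1 hm)) with h | ⟨-, h⟩
      · exact absurd (isTor_of_mem_torus hx h (u_ne_one hs')).1 (not_isTor_u s)
      · exact h x (self_mem_torus x)
    obtain ⟨s₁, hs₁, hs1, hne⟩ : ∃ s₁ ∈ K, s₁ ≠ 0 ∧ s₀ + s₁ ≠ 0 := by
      by_contra! h
      have : Nat.card K ≤ 2 := by
        refine le_trans (Nat.card_le_card_of_injective (fun s : K => decide ((s : F) = 0)) ?_) (by simp)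
        intro a b hab
        simp only [decide_eq_decide] at hab
        apply Subtype.ext
        by_cases ha : (a : F) = 0
        · rw [ha, hab.1 ha]
        · exact add_left_cancel ((h _ a.2 ha).trans (h _ b.2 fun hb => ha (hab.2 hb)).symm)
      omega
    have h01 := hinv _ (K.add_mem hs₀ hs₁) hne
    rw [u_add, _root_.mul_inv_rev, show u s₀ * u s₁ * x * ((u s₁)⁻¹ * (u s₀)⁻¹) =
      u s₀ * (u s₁ * x * (u s₁)⁻¹) * (u s₀)⁻¹ by group, hinv _ hs₁ hs1,
      show u s₀ * x⁻¹ * (u s₀)⁻¹ = (u s₀ * x * (u s₀)⁻¹)⁻¹ by group, hinv _ hs₀ hs0, inv_inv] at h01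
    exact (isTor_iff_pow p x).1 hx (by rw [hp2, pow_two]; exact eq_inv_iff_mul_eq_one.1 h01)
  · -- the alternating group of degree five
    subst hp3
    have h3F : (3 : F) = 0 := by exact_mod_cast CharP.cast_eq_zero F 3
    obtain ⟨P, hP, -⟩ := exists_sylow_eq 3 hu hs0
    have hP3 : Nat.card P = 3 := by
      rw [Sylow.card_eq_multiplicity, h60,
        show (60 : ℕ) = 3 * 20 by norm_num, Nat.factorization_mul (by norm_num) (by norm_num),
        Finsupp.add_apply, Nat.prime_three.factorization_self,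
        Nat.factorization_eq_zero_of_not_dvd (by norm_num : ¬ 3 ∣ 20)]
      norm_num
    have hK3 : Nat.card K = 3 := by rw [← hTr, ← card_upGroup_subgroupOf, ← hP, hP3]
    have hord : ∀ x : H, x ^ 2 = 1 ∨ x ^ 3 = 1 ∨ x ^ 5 = 1 := by
      have key : ∀ y : alternatingGroup (Fin 5), y ^ 2 = 1 ∨ y ^ 3 = 1 ∨ y ^ 5 = 1 := by decide +kernel
      intro x
      rcases key (e5 x) with h | h | h <;> [left; (right; left); (right; right)] <;>
        exact e5.injective (by rw [map_pow, h, map_one])
    have hlam : ∀ s ∈ K, ∀ t ∈ K', s ≠ 0 → t ≠ 0 → (s * t) ^ 2 = 1 ∨ (s * t) ^ 2 = -1 := by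
      intro s hs t ht hs' ht'
      have key : ∀ r ∈ K, r ≠ 0 → r * t = 1 ∨ r * t = -1 ∨ (r * t - 1) ^ 4 + 1 = 0 := by
        intro r hr hr'
        obtain ⟨g, hg⟩ : ∃ g, g = upSL r * loSL t := ⟨_, rfl⟩
        have hgH : proj g ∈ H := by
          rw [hg, proj_mul]; exact mul_mem (by rw [← u, ← mem_trans, hTr]; exact hr) (hl t ht)
        have hm : g.1 = !![1 + r * t, r; t, 1] := by
          rw [hg, Matrix.SpecialLinearGroup.coe_mul, coe_loSL, coe_upSL]
          ext i j
          fin_cases i <;> fin_cases j <;> simp [Matrix.mul_apply, Fin.sum_univ_two]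
        have htr : tr g = r * t - 1 := by
          rw [tr, hm, Matrix.trace_fin_two]
          simp
          linear_combination h3F
        rcases trace_of_order (g := g) (by rw [hm]; simpa using ht') (by
          rcases hord ⟨_, hgH⟩ with h | h | h <;> [left; (right; left); (right; right)] <;>
            exact congrArg Subtype.val h) with h | h | h <;> rw [htr] at h
        · exact Or.inl (sub_eq_zero.1 h)
        · rcases sq_eq_one_iff.1 h with h | h
          · exact Or.inr (Or.inl (by linear_combination h + h3F))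
          · exact absurd (show r * t = 0 by linear_combination h) (mul_ne_zero hr' ht')
        · exact Or.inr (Or.inr (by linear_combination h + (r * t - 1) ^ 2 * h3F))
      rcases key s hs hs' with h | h | h
      · exact Or.inl (by rw [h, one_pow])
      · exact Or.inl (by rw [h, neg_one_sq])
      · rcases key (-s) (K.neg_mem hs) (neg_ne_zero.2 hs') with h' | h' | h'
        · exact Or.inl (by linear_combination (1 - s * t) * h')
        · exact Or.inl (by linear_combination (s * t + 1) * h' * (-1))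
        · refine Or.inr ?_
          have h0 : s * t * ((s * t) ^ 2 + 1) = 0 := by
            linear_combination h - h' + (3 * s * t * ((s * t) ^ 2 + 1)) * h3F
          linear_combination (mul_eq_zero.1 h0).resolve_left (mul_ne_zero hs' ht')
    have hmul : ∀ r ∈ K, ∀ s ∈ K, s ≠ 0 → r = 0 ∨ r = s ∨ r = -s := by
      intro r hr s hs hs'
      by_contra! hn
      have hcard : ({0, s, -s, r} : Finset F).card ≤ Nat.card K := by
        rw [← Nat.card_eq_finsetCard]
        refine Nat.card_le_card_of_injective (fun x => ⟨x.1, ?_⟩) fun x y h => Subtype.ext (congrArg Subtype.val h :)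
        have := x.2
        simp only [Finset.mem_insert, Finset.mem_singleton] at this
        rcases this with h | h | h | h <;> rw [h]
        exacts [K.zero_mem, hs, K.neg_mem hs, hr]
      have hne : s ≠ -s := fun h => hs' (by linear_combination (s : F) * h3F - h)
      rw [Finset.card_insert_of_notMem (by simp [Ne.symm hs', Ne.symm hn.1, hs']),
        Finset.card_insert_of_notMem (by simp [hne, Ne.symm hn.2.1]),
        Finset.card_insert_of_notMem (by simp [Ne.symm hn.2.2]), Finset.card_singleton, hK3] at hcard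
      omega
    have hK'3 : Nat.card K' = 3 := by
      obtain ⟨n, -, hn⟩ := FiniteField.card F 3
      have hdvd : Nat.card K' ∣ 3 ^ (n : ℕ) := by
        rw [← hn, ← Nat.card_eq_fintype_card]; exact K'.card_addSubgroup_dvd_card
      obtain ⟨j, -, hj⟩ := (Nat.dvd_prime_pow Nat.prime_three).1 hdvd
      obtain ⟨f, hf⟩ : ∃ f : Polynomial F, f = Polynomial.X ^ 5 - Polynomial.X := ⟨_, rfl⟩
      have hf0 : f ≠ 0 := fun h => by
        have := congrArg (fun q => Polynomial.coeff q 5) (hf ▸ h)
        simp [Polynomial.coeff_X] at this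
      have h5 : Nat.card K' ≤ 5 := by
        have hr : ∀ t : K', s₀ * t.1 ∈ f.roots.toFinset := fun t => by
          rw [Multiset.mem_toFinset, Polynomial.mem_roots hf0, hf]
          rcases eq_or_ne (t : F) 0 with h | h
          · simp [h]
          · have h4 : (s₀ * t.1) ^ 4 = 1 := by
              rcases hlam s₀ hs₀ _ t.2 hs0 h with e | e
              · linear_combination ((s₀ * t.1) ^ 2 + 1) * e
              · linear_combination ((s₀ * t.1) ^ 2 - 1) * e
            simp [pow_succ]
            linear_combination (s₀ * t.1) * h4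
        calc Nat.card K' ≤ Nat.card f.roots.toFinset :=
              Nat.card_le_card_of_injective (fun t => ⟨_, hr t⟩) fun x y h =>
                Subtype.ext (mul_left_cancel₀ hs0 (congrArg Subtype.val h))
          _ ≤ 5 := by
            rw [Nat.card_eq_finsetCard]
            refine le_trans (Multiset.toFinset_card_le _) (le_trans (Polynomial.card_roots' f) ?_)
            rw [hf]
            refine le_trans (Polynomial.natDegree_sub_le _ _) ?_
            simp
      have h2 : 2 ≤ Nat.card K' :=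
        Finite.one_lt_card_iff_nontrivial.2 ⟨⟨t₀, ht₀⟩, 0, fun h => ht0 (congrArg Subtype.val h)⟩
      rcases j with _ | _ | j
      · rw [hj] at h2; norm_num at h2
      · rw [hj, pow_one]
      · rw [hj, pow_succ, pow_succ] at h5
        have := Nat.one_le_pow j 3 (by norm_num)
        omega
    have hsq : ∀ t ∈ K', t ≠ 0 → t ^ 2 = t₀ ^ 2 := by
      intro t ht ht'
      by_contra hne
      have h4 : ({0, t₀, -t₀, t} : Finset F).card ≤ Nat.card K' := by
        rw [← Nat.card_eq_finsetCard]
        refine Nat.card_le_card_of_injective (fun x => ⟨x.1, ?_⟩) fun x y h => Subtype.ext (congrArg Subtype.val h :)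
        have := x.2
        simp only [Finset.mem_insert, Finset.mem_singleton] at this
        rcases this with h | h | h | h <;> rw [h]
        exacts [K'.zero_mem, ht₀, K'.neg_mem ht₀, ht]
      have h1 : t₀ ≠ t := fun e => hne (by rw [e])
      have h2 : -t₀ ≠ t := fun e => hne (by rw [← e]; ring)
      have h5 : t₀ ≠ -t₀ := fun h => ht0 (by linear_combination (t₀ : F) * h3F - h)
      rw [Finset.card_insert_of_notMem (by simp [Ne.symm ht0, Ne.symm ht', ht0]),
        Finset.card_insert_of_notMem (by simp [h5, h1]),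
        Finset.card_insert_of_notMem (by simp [h2]), Finset.card_singleton, hK'3] at h4
      omega
    have hall : ∀ s ∈ K, ∀ t ∈ K', s ≠ 0 → t ≠ 0 → (s * t) ^ 2 = (s₀ * t₀) ^ 2 := by
      intro s hs t ht hs' ht'
      rcases hmul s hs s₀ hs₀ hs0 with h | h | h
      · exact absurd h hs'
      · rw [h, mul_pow, mul_pow, hsq t ht ht']
      · rw [h, mul_pow, mul_pow, hsq t ht ht', neg_sq]
    refine ⟨by rw [hK'3, hK3], ?_⟩
    rcases hlam s₀ hs₀ t₀ ht₀ hs0 ht0 with h1 | h1
    · refine Or.inl ⟨⊥, ?_, fun s hs t ht => ?_⟩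
      · rw [hK3]; exact Subfield.card_bot F 3
      · rcases eq_or_ne s 0 with rfl | hs'
        · simp
        rcases eq_or_ne t 0 with rfl | ht'
        · simp
        rcases sq_eq_one_iff.1 ((hall s hs t ht hs' ht').trans h1) with h | h <;> rw [h]
        · exact one_mem _
        · exact neg_mem (one_mem _)
    · exact Or.inr ⟨rfl, hK3, fun s hs t ht hs' ht' => (hall s hs t ht hs' ht').trans h1⟩
  · -- a subfield
    have hc : IsCentred H := isCentred_of_lower p hs hu hs0 (hl t₀ ht₀) ht0
    obtain ⟨-, hk, -⟩ := hs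
    obtain ⟨E, instE, instE', ι, w, hcard, hT, -⟩ := exists_field p hk hu hs0
    have hw : (w : F) ≠ 0 := w.ne_zero
    have hne : ¬ H ≤ BP := fun hle =>
      absurd ((proj_mem_BP_iff _).1 (hle (hl _ ht₀))) (by simpa [coe_loSL] using ht0)
    have hKw : ∀ s : F, s ∈ K ↔ ∃ a, s = w * ι a := fun s => by rw [← hTr]; exact hT s
    have hK'w : ∀ t : F, t ∈ K' ↔ ∃ b, t = ι b / w := by
      intro t
      refine ⟨fun ht => ?_, ?_⟩
      · rcases eq_or_ne t 0 with rfl | ht'
        · exact ⟨0, by simp⟩
        have hnB : proj (loSL t) ∉ BP := fun h => ht' (by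
          have := (proj_mem_BP_iff _).1 h
          simpa [coe_loSL] using this)
        have h := hc (slope (proj (loSL t))) ⟨proj (loSL t), ⟨hl t ht, hnB⟩, rfl⟩
        rw [slope_proj, coe_loSL] at h
        obtain ⟨a, ha⟩ := (hT _).1 h
        simp at ha
        have e : t = ((w : F) * ι a)⁻¹ := by rw [← ha, inv_inv]
        exact ⟨a⁻¹, by rw [e, map_inv₀, _root_.mul_inv_rev, div_eq_mul_inv]⟩
      · rintro ⟨b, rfl⟩
        refine (hK' _).1 (mem_of_proj_lo p ?_)
        rw [← hH]
        refine range_psiS_le ι w hT hc hne ⟨proj (LocalEven50.lowerHom E (.ofAdd b)), ?_⟩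
        rw [psiS_proj]
        congr 1
        apply Subtype.ext
        rw [coe_psiSL, psiMat_apply, coe_lowerHom, coe_loSL]
        simp
    have hcardE : Nat.card E = Nat.card K := by rw [Nat.card_eq_fintype_card, hcard, hTr]
    refine ⟨?_, Or.inl ⟨ι.fieldRange, ?_, fun s hs t ht => ?_⟩⟩
    · rw [← hcardE]
      exact (Nat.card_eq_of_bijective (fun b : E => (⟨ι b / w, (hK'w _).2 ⟨b, rfl⟩⟩ : K'))
        ⟨fun x y h => ι.injective (by simpa [hw] using congrArg Subtype.val h),
          fun y => let ⟨b, hb⟩ := (hK'w _).1 y.2; ⟨b, Subtype.ext hb.symm⟩⟩).symm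
    · rw [← hcardE]
      exact (Nat.card_congr (Equiv.ofInjective ι ι.injective)).symm
    · obtain ⟨a, rfl⟩ := (hKw _).1 hs
      obtain ⟨b, rfl⟩ := (hK'w _).1 ht
      refine ⟨a * b, ?_⟩
      rw [map_mul]; field_simp

end CfsgLib.PGLThree
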