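import Cfsg.Agent.PGLThree.SingleMain
import Cfsg.Agent.SUThree.Basic
import Cfsg.Agent.AschbacherUnitary.Basic

/-!
# The hypotheses in the linear and in the unitary case

A maximal subgroup contains no complete root group, and a flag without incident flags is
impossible: it gives a unitary form, resp. complete unitary root groups.
-/

set_option autoImplicit false
set_option linter.unusedSectionVars false

namespace CfsgLib.PGLThree

open Matrix Cfsg.Geo CfsgLib.MaxSub CfsgLib.MaxSub.UC CfsgLib.SLThree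
open CfsgLib.Aschbacher (mat)

variable {F : Type*} [Field F] [Fintype F] {H P : Subgroup (GL (Fin 3) F)}

theorem ctx_linear (hH : IsMaximalIn (specialLinear (Fin 3) F) H) (hR : IsResidualCore H P)
    (hQ : ¬ ∃ Q, IsNondegenerateQuadraticForm Q ∧ FixesQuadForm (matrixSet P) Q) : Ctx P :=
  ⟨core_of_residual hR, gen_of_residual hR,
    fun _ _ hv ha h => hH.1.not_ge ((specialLinear_le_of_rootIn (core_of_residual hR).irreducible hv ha h).trans hR.le),
    hQ⟩

theorem ctx_unitary {q : ℕ} (hH : IsMaximalIn (Cfsg.GU 3 F q ⊓ specialLinear (Fin 3) F) H)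
    (hR : IsResidualCore H P)
    (hQ : ¬ ∃ Q, IsNondegenerateQuadraticForm Q ∧ FixesQuadForm (matrixSet P) Q) : Ctx P :=
  ⟨core_of_residual hR, gen_of_residual hR,
    fun _ _ hv ha h => hH.1.not_ge (inf_le_right.trans
      ((specialLinear_le_of_rootIn (core_of_residual hR).irreducible hv ha h).trans hR.le)),
    hQ⟩

/-- Every flag has an incident one, linear case. -/
theorem double_of_linear (p : ℕ) [Fact p.Prime] [CharP F p] (hc : Ctx P)
    (hU : ¬ ∃ σ f, IsUnitaryForm σ f ∧ FixesForm (matrixSet P) f) {v a : Fin 3 → F}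
    (hfl : SLThree.Flag P v a) : Double P := by
  by_contra hd
  obtain ⟨σ, hne, htr, -⟩ := not_single p hc hd hfl
  rcases exists_form_of_traces hc.core.absIrred σ (hc.involutive htr) htr with ⟨f, hf, hfix⟩ | ⟨-, hQ⟩
  · exact hU ⟨σ, f, hf, hfix⟩
  · exact hc.noQuad hQ

/-- A transvection of the unitary group. -/
theorem tv_unitary {σ : F ≃+* F} {q : ℕ} (hf : IsUnitaryForm σ (Cfsg.hermForm 3 F q))
    {u a : Fin 3 → F} (hu : u ≠ 0) (ha : a ≠ 0) (hau : a ⬝ᵥ u = 0)
    (h : tv u a ∈ Cfsg.GU 3 F q) :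
    Cfsg.hermForm 3 F q u u = 0 ∧ ∃ t : F, t ≠ 0 ∧ σ t = -t ∧
      a = t • leftVec (Cfsg.hermForm 3 F q) u := by
  have hs := sesqForm_of_unitary hf
  set η := Cfsg.hermForm 3 F q with hη
  have key : ∀ x y, (a ⬝ᵥ x) * η u y + σ (a ⬝ᵥ y) * η x u + (a ⬝ᵥ x) * σ (a ⬝ᵥ y) * η u u = 0 := by
    intro x y
    have h1 := mem_GU_iff_forall.1 h x y
    rw [← hη] at h1
    rw [tv_mulVec hau, tv_mulVec hau, hs.add_left, hs.add_right, hs.add_right, hs.smul_left,
      hs.smul_left, hs.smul_right, hs.smul_right] at h1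
    linear_combination h1
  obtain ⟨y, hy⟩ := exists_dot_eq_one ha
  rw [dotProduct_comm] at hy
  have huu : η u u = 0 := by
    have := key y u
    simp only [hau, hy, map_zero, one_mul, mul_zero, zero_mul, add_zero] at this
    exact this
  refine ⟨huu, ?_⟩
  obtain ⟨x, hx⟩ := (hf.nondegenerate u hu).1
  have h2 : ∀ z, η z u = -(η u y) * (a ⬝ᵥ z) := fun z => by
    have := key z y
    rw [hy, map_one, huu] at this
    linear_combination this
  have hd : η u y ≠ 0 := fun e => hx (by rw [h2 x, e, neg_zero, zero_mul])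
  refine ⟨-(η u y)⁻¹, neg_ne_zero.2 (inv_ne_zero hd), ?_, dotProduct_eq _ _ fun z => ?_⟩
  · have h3 := h2 y
    rw [hy, mul_one] at h3
    have h4 : σ (η u y) = η y u := (hf.herm y u).symm
    rw [map_neg, map_inv₀, h4, h3, inv_neg]
  · rw [smul_dotProduct, hs.dot_leftVec, h2, smul_eq_mul]
    field_simp

/-- Every flag has an incident one, unitary case. -/
theorem double_of_unitary {q : ℕ} (hF : Fintype.card F = q ^ 2) (hq : 3 ≤ q)
    (hH : IsMaximalIn (Cfsg.GU 3 F q ⊓ specialLinear (Fin 3) F) H) (hR : IsResidualCore H P)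
    (p : ℕ) [Fact p.Prime] [CharP F p] (hc : Ctx P) {v a : Fin 3 → F} (hfl : SLThree.Flag P v a) :
    Double P := by
  by_contra hd
  obtain ⟨σ₁, -, -, hcard⟩ := not_single p hc hd hfl
  obtain ⟨σ, hconj⟩ := CfsgLib.AschbacherUnitary.exists_isConj (F := F) hF
  have hf : IsUnitaryForm σ (Cfsg.hermForm 3 F q) := hconj.unitary
  have hPG : P ≤ Cfsg.GU 3 F q := (hR.le.trans hH.1.le).trans inf_le_left
  have hbar : Circle.IsBar q σ := ⟨hconj.eq_pow, hF, hconj.ne_refl, hconj.involutive⟩
  obtain ⟨s₀, hs₀, hs0⟩ := hfl.scal_ne_bot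
  set u := s₀ • v with hu
  have hflu : SLThree.Flag P u a := hfl.smul_centre hs0
  obtain ⟨huu, d, hd0, -, had⟩ := tv_unitary hf hflu.centre_ne hflu.axis_ne hflu.dot (hPG hs₀)
  set ℓ := leftVec (Cfsg.hermForm 3 F q) u with hℓ
  have hcen : CentreIn q σ P u := by
    classical
    let S : Finset F := Finset.univ.filter (fun c => σ c = -c)
    let T : Finset F := (Finset.univ.filter (fun s => s ∈ scal P u a hflu.dot)).image (· * d)
    have hTS : T ⊆ S := by
      intro c hc'
      obtain ⟨s, hs, rfl⟩ := Finset.mem_image.1 hc'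
      have hs' : tv (s • u) a ∈ P := (Finset.mem_filter.1 hs).2
      refine Finset.mem_filter.2 ⟨Finset.mem_univ _, ?_⟩
      rcases eq_or_ne s 0 with rfl | hs1
      · simp
      obtain ⟨-, t, -, ht, hat⟩ := tv_unitary hf (smul_ne_zero hs1 hflu.centre_ne) hflu.axis_ne
        (by rw [dotProduct_smul, hflu.dot, smul_zero]) (hPG hs')
      rw [(sesqForm_of_unitary hf).leftVec_smul, smul_smul, ← hℓ, had] at hat
      have hℓ0 : ℓ ≠ 0 := fun e => hflu.axis_ne (by rw [had, e, smul_zero])
      have e : d = t * σ s := smul_left_injective F hℓ0 hat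
      rw [e, map_mul, map_mul, ht, hconj.involutive]
      ring
    have hS : S.card ≤ q := by
      obtain ⟨f, hfdef⟩ : ∃ f : Polynomial F, f = Polynomial.X ^ q + Polynomial.X := ⟨_, rfl⟩
      have hdeg : f.natDegree = q := by
        rw [hfdef, Polynomial.natDegree_add_eq_left_of_natDegree_lt] <;>
          simp only [Polynomial.natDegree_X_pow, Polynomial.natDegree_X]
        omega
      have hf0 : f ≠ 0 := fun e => by rw [e, Polynomial.natDegree_zero] at hdeg; omega
      have hsub : S ⊆ f.roots.toFinset := fun c hc' => by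
        rw [Multiset.mem_toFinset, Polynomial.mem_roots hf0, hfdef]
        simp [← hconj.eq_pow, (Finset.mem_filter.1 hc').2]
      exact (Finset.card_le_card hsub).trans
        ((Multiset.toFinset_card_le _).trans ((Polynomial.card_roots' f).trans hdeg.le))
    have hT : T.card = q := by
      rw [Finset.card_image_of_injective _ (mul_left_injective₀ hd0),
        ← Fintype.card_subtype, ← Nat.card_eq_fintype_card]
      exact Nat.pow_left_injective two_ne_zero ((hcard u a hflu).trans hF)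
    intro c hc'
    have hcT : c ∈ T := (Finset.eq_of_subset_of_card_le hTS (hT ▸ hS)).symm ▸
      Finset.mem_filter.2 ⟨Finset.mem_univ _, hc'⟩
    obtain ⟨s, hs, rfl⟩ := Finset.mem_image.1 hcT
    have hs' : tv (s • u) a ∈ P := (Finset.mem_filter.1 hs).2
    rw [uTv, mul_comm, ← smul_smul, ← tv_smul_right, ← hℓ, ← had]
    exact hs'
  exact hH.1.not_ge ((CfsgLib.SUThree.su_le_of_centre hf hbar hq hPG hc.core.irreducible huu hflu.centre_ne hcen).trans hR.le)

/-- In the unitary group the trace of the inverse is the `q`-th power of the trace. -/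
theorem pow_trace_of_gu {σ : F ≃+* F} {q : ℕ} (h : CfsgLib.AschbacherUnitary.IsConj q σ)
    {g : GL (Fin 3) F} (hg : g ∈ Cfsg.GU 3 F q) : (mat g).trace ^ q = (mat g⁻¹).trace := by
  have h1 := Matrix.transpose_one (α := F) (n := Fin 3)
  rw [← h.mem_GU_iff.1 hg, transpose_mul, transpose_transpose] at h1
  have h2 : ((mat g).map σ)ᵀ * mat g = 1 := h1.trans (h.mem_GU_iff.1 hg)
  have e : ((g⁻¹ : GL (Fin 3) F) : Matrix (Fin 3) (Fin 3) F) = ((mat g).map σ)ᵀ := by
    calc ((g⁻¹ : GL (Fin 3) F) : Matrix (Fin 3) (Fin 3) F)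
        = ((mat g).map σ)ᵀ * mat g * ((g⁻¹ : GL (Fin 3) F) : Matrix (Fin 3) (Fin 3) F) := by
          rw [h2, one_mul]
      _ = ((mat g).map σ)ᵀ := by
          rw [mul_assoc]
          show _ * ((g : Matrix (Fin 3) (Fin 3) F) * _) = _
          rw [Units.mul_inv, mul_one]
  rw [show mat g⁻¹ = ((mat g).map σ)ᵀ from e, Matrix.trace_transpose, ← h.eq_pow]
  simp [Matrix.trace, map_sum]

end CfsgLib.PGLThree
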