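import Cfsg.Agent.SLThree.Homology
import Cfsg.Agent.MaxSub.TraceDescent
import Cfsg.Agent.Aschbacher.SymplecticType
import Cfsg.Prelude.Def_CaseTheorems

/-!
# Perfect absolutely irreducible subgroups of `GL₃` which are simple modulo scalars

The scalars in such a group form its centre, of order one or three, and involutions of the simple
quotient lift uniquely.
-/

set_option autoImplicit false
set_option linter.unusedSectionVars false

namespace CfsgLib.PGLThree

open Matrix Cfsg.Geo CfsgLib.Aschbacher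
open scoped commutatorElement

variable {F : Type*} [Field F]

/-- The scalars of a subgroup. -/
abbrev Z (P : Subgroup (GL (Fin 3) F)) : Subgroup P := (scalars (Fin 3) F).subgroupOf P

/-- A perfect absolutely irreducible group, non-abelian simple modulo scalars. -/
structure Core (P : Subgroup (GL (Fin 3) F)) : Prop where
  perfect : ⁅P, P⁆ = P
  simple : IsSimpleGroup (P ⧸ Z P)
  nonabelian : ¬ IsMulCommutative (P ⧸ Z P)
  absIrred : ActsAbsolutelyIrreducibly (matrixSet P)

/-- The projection to the simple quotient. -/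
abbrev proj (P : Subgroup (GL (Fin 3) F)) : P →* P ⧸ Z P := QuotientGroup.mk' (Z P)

theorem core_of_residual {H P : Subgroup (GL (Fin 3) F)} (h : IsResidualCore H P) : Core P :=
  ⟨h.perfect, h.simple, h.nonabelian, h.absIrred⟩

variable {P : Subgroup (GL (Fin 3) F)}

theorem Core.le_specialLinear (hc : Core P) : P ≤ specialLinear (Fin 3) F := by
  have h : ⁅P, P⁆ ≤ specialLinear (Fin 3) F := Subgroup.commutator_le.2 fun a _ b _ => by
    rw [specialLinear, MonoidHom.mem_ker, map_commutatorElement]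
    simp [commutatorElement_def, mul_comm]
  rwa [hc.perfect] at h

theorem Core.det_eq_one (hc : Core P) {g : GL (Fin 3) F} (hg : g ∈ P) : (mat g).det = 1 :=
  mem_specialLinear_iff.1 (hc.le_specialLinear hg)

theorem mem_Z_iff {g : P} : g ∈ Z P ↔ ∃ c : F, mat (g : GL (Fin 3) F) = c • 1 := by
  rw [Subgroup.mem_subgroupOf, mem_scalars_iff]
  refine ⟨fun ⟨c, hc⟩ => ⟨c, hc⟩, fun ⟨c, hc⟩ => ?_⟩
  have hc0 : c ≠ 0 := by
    rintro rfl
    rw [zero_smul] at hc
    exact (g : GL (Fin 3) F).ne_zero hc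
  exact ⟨Units.mk0 c hc0, hc⟩

theorem proj_eq_one_iff {g : P} : proj P g = 1 ↔ g ∈ Z P := QuotientGroup.eq_one_iff g

theorem comm_of_mem_Z {z : P} (hz : z ∈ Z P) (g : P) : z * g = g * z :=
  Subtype.ext (scalars_comm (Subgroup.mem_subgroupOf.1 hz))

/-- A scalar in the group is a cube root of unity. -/
theorem Core.scalar_pow (hc : Core P) {g : GL (Fin 3) F} (hg : g ∈ P) {c : F} (h : mat g = c • 1) :
    c ^ 3 = 1 := by
  have := hc.det_eq_one hg
  rwa [h, det_smul, det_one, mul_one, Fintype.card_fin] at this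

theorem Core.pow_three (hc : Core P) {z : P} (hz : z ∈ Z P) : z ^ 3 = 1 := by
  obtain ⟨c, h⟩ := mem_Z_iff.1 hz
  apply Subtype.ext
  rw [SubmonoidClass.coe_pow, OneMemClass.coe_one]
  apply Units.ext
  rw [Units.val_pow_eq_pow_val, Units.val_one,
    show ((z : GL (Fin 3) F) : Matrix (Fin 3) (Fin 3) F) = c • 1 from h, smul_pow, one_pow,
    hc.scalar_pow z.2 h, one_smul]

theorem Core.coprime_card_Z (hc : Core P) [Finite F] : Nat.Coprime (Nat.card (Z P)) 2 := by
  haveI : Finite (Z P) := inferInstance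
  refine Nat.Coprime.symm ((Nat.Prime.coprime_iff_not_dvd Nat.prime_two).2 fun h => ?_)
  obtain ⟨z, hz⟩ := exists_prime_orderOf_dvd_card' (G := Z P) 2 h
  have h3 : z ^ 3 = 1 := Subtype.ext (hc.pow_three z.2)
  have := orderOf_dvd_of_pow_eq_one h3
  rw [hz] at this
  omega

/-- An element of `P` whose square is one modulo scalars has a unique multiple of square one. -/
theorem Core.exists_sq_lift (hc : Core P) {g : P} (hg : g * g ∈ Z P) :
    ∃! u : P, u * u = 1 ∧ proj P u = proj P g := by
  have h3 := hc.pow_three hg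
  have h6 : g ^ 3 * g ^ 3 = 1 := by
    rw [← pow_add, show 3 + 3 = 2 * 3 from rfl, pow_mul, pow_two, h3]
  have hz : g ^ 3 = (g * g) * g := by rw [pow_succ, pow_two]
  refine ⟨g ^ 3, ⟨h6, ?_⟩, fun u hu => ?_⟩
  · rw [hz, map_mul, proj_eq_one_iff.2 hg, one_mul]
  · obtain ⟨hu1, hu2⟩ := hu
    have hd : u⁻¹ * g ∈ Z P := proj_eq_one_iff.1 (by rw [map_mul, map_inv, hu2, inv_mul_cancel])
    set z := u⁻¹ * g with hzdef
    have e : g = u * z := by rw [hzdef, mul_inv_cancel_left]
    have hcomm : Commute u z := (comm_of_mem_Z hd u).symm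
    rw [e, hcomm.mul_pow, hc.pow_three hd, mul_one, pow_succ, pow_two, hu1, one_mul]

/-- The involutions of the quotient lift. -/
theorem Core.exists_involution_lift (hc : Core P) {s : P ⧸ Z P} (hs : orderOf s = 2) :
    ∃ u : P, orderOf u = 2 ∧ proj P u = s := by
  obtain ⟨g, rfl⟩ := QuotientGroup.mk'_surjective (Z P) s
  have hg : g * g ∈ Z P := proj_eq_one_iff.1 (by
    rw [map_mul, ← pow_two, ← hs, pow_orderOf_eq_one])
  obtain ⟨u, ⟨hu, he⟩, -⟩ := hc.exists_sq_lift hg
  refine ⟨u, orderOf_eq_prime (by rw [pow_two, hu]) fun h => ?_, he⟩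
  rw [← he, h, map_one, orderOf_one] at hs
  omega

/-- An element commuting with an involution modulo scalars commutes with it. -/
theorem Core.commute_of_proj (hc : Core P) {t g : P} (ht : t * t = 1)
    (h : proj P g * proj P t = proj P t * proj P g) : g * t = t * g := by
  have e : g * t * g⁻¹ = t := by
    obtain ⟨u, -, huniq⟩ := hc.exists_sq_lift (g := t) (by rw [ht]; exact one_mem _)
    have h1 : (g * t * g⁻¹) * (g * t * g⁻¹) = 1 := by
      rw [show g * t * g⁻¹ * (g * t * g⁻¹) = g * (t * t) * g⁻¹ by group, ht, mul_one, mul_inv_cancel]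
    have h2 : proj P (g * t * g⁻¹) = proj P t := by
      rw [map_mul, map_mul, h, map_inv, mul_inv_cancel_right]
    exact (huniq _ ⟨h1, h2⟩).trans (huniq t ⟨ht, rfl⟩).symm
  calc g * t = g * t * g⁻¹ * g := by group
    _ = t * g := by rw [e]

/-- The quotient is not cyclic, so `P` is not scalar. -/
theorem Core.exists_not_scalar (hc : Core P) : ∃ g : P, g ∉ Z P := by
  by_contra! h
  refine hc.nonabelian ⟨⟨fun a b => ?_⟩⟩
  obtain ⟨x, rfl⟩ := QuotientGroup.mk'_surjective (Z P) a
  obtain ⟨y, rfl⟩ := QuotientGroup.mk'_surjective (Z P) b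
  rw [← map_mul, ← map_mul, comm_of_mem_Z (h x) y]

theorem Core.irreducible (hc : Core P) : CfsgLib.MaxSub.Irreducible P := fun W hW =>
  hc.absIrred.1 W (forall_matrixSet.2 fun g hg => by
    rintro _ ⟨w, hw, rfl⟩
    simpa [Matrix.toLin'_apply] using hW g hg w hw)

/-- A normal subgroup of `P` is scalar or everything. -/
theorem Core.eq_top_of_normal (hc : Core P) (N : Subgroup P) [N.Normal] (hN : ¬ N ≤ Z P) :
    N = ⊤ := by
  haveI := hc.simple
  have hsur := QuotientGroup.mk'_surjective (Z P)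
  haveI : (N.map (proj P)).Normal := ‹N.Normal›.map _ hsur
  rcases (inferInstance : (N.map (proj P)).Normal).eq_bot_or_eq_top with h | h
  · rw [Subgroup.map_eq_bot_iff, QuotientGroup.ker_mk'] at h
    exact absurd h hN
  · have hsup : N ⊔ Z P = ⊤ := by
      rw [← Subgroup.comap_top (proj P), ← h, Subgroup.comap_map_eq, QuotientGroup.ker_mk']
    refine eq_top_iff.2 fun g _ => ?_
    have hperf : commutator P = ⊤ := by
      refine Subgroup.map_injective P.subtype_injective ?_
      rw [commutator_def, Subgroup.map_commutator, ← MonoidHom.range_eq_map, P.range_subtype,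
        hc.perfect]
    have hle : commutator P ≤ N := by
      rw [commutator_def, Subgroup.commutator_le]
      intro a _ b _
      have key : ∀ x : P, ∃ n ∈ N, ∃ z ∈ Z P, n * z = x := fun x =>
        Subgroup.mem_sup_of_normal_right.1 (show x ∈ N ⊔ Z P by rw [hsup]; trivial)
      obtain ⟨n, hn, z, hz, rfl⟩ := key a
      obtain ⟨m, hm, w, hw, rfl⟩ := key b
      have e : ⁅n * z, m * w⁆ = ⁅n, m⁆ := by
        simp only [commutatorElement_def, _root_.mul_inv_rev]
        calc n * z * (m * w) * (z⁻¹ * n⁻¹) * (w⁻¹ * m⁻¹)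
            = n * (z * (m * w)) * (z⁻¹ * n⁻¹) * (w⁻¹ * m⁻¹) := by simp only [mul_assoc]
          _ = n * (m * w) * n⁻¹ * (w⁻¹ * m⁻¹) := by rw [comm_of_mem_Z hz (m * w)]; group
          _ = n * m * (w * n⁻¹) * w⁻¹ * m⁻¹ := by simp only [mul_assoc]
          _ = n * m * n⁻¹ * m⁻¹ := by rw [comm_of_mem_Z hw n⁻¹]; group
      rw [e, commutatorElement_def]
      exact mul_mem (mul_mem (mul_mem hn hm) (inv_mem hn)) (inv_mem hm)
    exact hle (by rw [hperf]; trivial)

end CfsgLib.PGLThree
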