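import Cfsg.Agent.PGLThree.Exception
import Cfsg.Agent.PGLThree.Involution
import Cfsg.Agent.S0204

/-!
# The case without incident flags

All transvection groups have one order `q₀` and with one flag as base the products around triangles
show that `x ↦ x ^ q₀` takes every trace to the trace of the inverse.
-/

set_option autoImplicit false
set_option linter.unusedSectionVars false

namespace CfsgLib.PGLThree

open Matrix Cfsg.Geo CfsgLib.MaxSub CfsgLib.SLThree CfsgLib.DicksonPSL2

variable {F : Type*} [Field F] [Fintype F] {P : Subgroup (GL (Fin 3) F)}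

/-- Any two flags have a flag opposite to both. -/
theorem exists_common_opposite (hirr : Irreducible P) {v a : Fin 3 → F} (h : SLThree.Flag P v a)
    {w : Fin 3 → F} (hw : w ≠ 0) :
    ∃ u c, SLThree.Flag P u c ∧ (∀ s : F, s • v ≠ u) ∧ ∀ s : F, s • w ≠ u := by
  obtain ⟨g, hg, hoff⟩ := exists_off_line hirr h.centre_ne w
  exact ⟨_, _, h.conj hg, fun s hs => hoff s 0 (by rw [zero_smul, add_zero]; exact hs),
    fun s hs => hoff 0 s (by rw [zero_smul, zero_add]; exact hs)⟩

theorem card_scal_le_two (hd : ¬ Double P) (p : ℕ) [Fact p.Prime] [CharP F p] {v a w b : Fin 3 → F}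
    (h1 : SLThree.Flag P v a) (h2 : SLThree.Flag P w b) (hne : ∀ s : F, s • v ≠ w)
    (h : Nat.card (scal P v a h1.dot) ≤ 2) : Nat.card (scal P w b h2.dot) ≤ 2 := by
  obtain ⟨haw, hbv⟩ := opposite hd h1 h2 hne
  by_contra h3
  have := (pair p h2 h1 hbv haw (by omega)).1
  omega

/-- There is no transvection group of order two. -/
theorem three_le_scal (hc : Ctx P) (hd : ¬ Double P) (p : ℕ) [Fact p.Prime] [CharP F p]
    {v a : Fin 3 → F} (h : SLThree.Flag P v a) : 3 ≤ Nat.card (scal P v a h.dot) := by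
  classical
  by_contra hlt
  have hle : ∀ w b, ∀ h' : SLThree.Flag P w b, Nat.card (scal P w b h'.dot) ≤ 2 := fun w b h' => by
    obtain ⟨u, c, hu, hv', hw'⟩ := exists_common_opposite hc.core.irreducible h h'.centre_ne
    refine card_scal_le_two hd p hu h' (fun s hs => ?_) (card_scal_le_two hd p h hu hv' (by omega))
    have hs0 : s ≠ 0 := fun e => h'.centre_ne (by rw [← hs, e, zero_smul])
    exact hw' s⁻¹ (by rw [← hs, smul_smul, inv_mul_cancel₀ hs0, one_smul])
  obtain ⟨s₀, hs₀, hs0⟩ := h.scal_ne_bot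
  have hF2 : (2 : F) = 0 := by
    by_contra h2
    have h3 : ({0, s₀, s₀ + s₀} : Finset F).card ≤ Nat.card (scal P v a h.dot) := by
      rw [← Nat.card_eq_finsetCard]
      refine Nat.card_le_card_of_injective (fun x => ⟨x.1, ?_⟩) fun x y e =>
        Subtype.ext (congrArg Subtype.val e :)
      have := x.2
      simp only [Finset.mem_insert, Finset.mem_singleton] at this
      rcases this with e | e | e <;> rw [e]
      exacts [zero_mem _, hs₀, add_mem hs₀ hs₀]
    have hne : s₀ + s₀ ≠ 0 := by rw [← two_mul]; exact mul_ne_zero h2 hs0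
    rw [Finset.card_insert_of_notMem (by simp [Ne.symm hs0, Ne.symm hne]),
      Finset.card_insert_of_notMem (by simp [hs0]), Finset.card_singleton] at h3
    omega
  haveI := hc.core.simple
  haveI : Finite (GL (Fin 3) F) := inferInstance
  obtain ⟨E, hE⟩ := Cfsg.Agent.S0204.result (G := P ⧸ Z P) fun hcyc => hc.core.nonabelian
    (by haveI := hcyc; exact IsCyclic.commutative)
  haveI := hE
  obtain ⟨x, y, hx, hy, hxy⟩ : ∃ x y : E, x ≠ 1 ∧ y ≠ 1 ∧ x ≠ y := by
    haveI := Fintype.ofFinite E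
    obtain ⟨a, b, c, hab, hac, hbc⟩ : ∃ a b c : E, a ≠ b ∧ a ≠ c ∧ b ≠ c :=
      Fintype.two_lt_card_iff.1 (by rw [← Nat.card_eq_fintype_card, hE.card_four]; norm_num)
    rcases eq_or_ne a 1 with rfl | ha
    · exact ⟨b, c, Ne.symm hab, Ne.symm hac, hbc⟩
    rcases eq_or_ne b 1 with rfl | hb
    · exact ⟨a, c, ha, Ne.symm hbc, hac⟩
    · exact ⟨a, b, ha, hb, hab⟩
  have hord : ∀ z : E, z ≠ 1 → orderOf (z : P ⧸ Z P) = 2 := fun z hz => by
    rw [Subgroup.orderOf_coe]
    exact orderOf_eq_prime (by rw [← hE.exponent_two]; exact Monoid.pow_exponent_eq_one z) hz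
  obtain ⟨u₁, hu₁, he₁⟩ := hc.core.exists_involution_lift (hord x hx)
  obtain ⟨u₂, hu₂, he₂⟩ := hc.core.exists_involution_lift (hord y hy)
  have hsq : ∀ u : P, orderOf u = 2 → u * u = 1 := fun u hu => by
    rw [← pow_two, ← hu, pow_orderOf_eq_one]
  have hcomm : u₂ * u₁ = u₁ * u₂ := hc.core.commute_of_proj (hsq _ hu₁) (by
    rw [he₁, he₂, ← Subgroup.coe_mul, ← Subgroup.coe_mul, mul_comm_of_exponent_two hE.exponent_two y x])
  have hne1 : ∀ u : P, orderOf u = 2 → (u : GL (Fin 3) F) ≠ 1 := fun u hu e => by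
    rw [show u = 1 from Subtype.ext e, orderOf_one] at hu
    omega
  have hgsq : ∀ u : P, orderOf u = 2 → (u : GL (Fin 3) F) * u = 1 := fun u hu =>
    congrArg Subtype.val (hsq u hu)
  obtain ⟨v₁, a₁, h₁, ht₁, hk₁⟩ := exists_flag_of_sq hF2 u₁.2 (hgsq _ hu₁) (hne1 _ hu₁)
  obtain ⟨v₂, a₂, h₂, ht₂, hk₂⟩ := exists_flag_of_sq hF2 u₂.2 (hgsq _ hu₂) (hne1 _ hu₂)
  have hcG : tv v₂ a₂ * tv v₁ a₁ * (tv v₂ a₂)⁻¹ = tv v₁ a₁ := by
    rw [ht₁, ht₂, mul_inv_eq_iff_eq_mul]
    exact congrArg Subtype.val hcomm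
  by_cases hsame : ∀ s : F, s • v₁ ≠ v₂
  · obtain ⟨h12, h21⟩ := opposite hd h₁ h₂ hsame
    rw [conj_tv, tv_inv, tv_mulVec h₂.dot, vecMul_tv (by simp [dotProduct_neg, h₂.dot])] at hcG
    have hm := congrArg (fun g : GL (Fin 3) F => (g : Matrix (Fin 3) (Fin 3) F) *ᵥ v₂) hcG
    rw [tv_mulVec (by simp [add_dotProduct, dotProduct_add, h₁.dot, h₂.dot, dotProduct_smul,
      smul_dotProduct, mul_comm]), tv_mulVec h₁.dot] at hm
    simp [add_dotProduct, smul_dotProduct, h₂.dot, dotProduct_neg] at hm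
    rcases hm with hm | hm | hm
    all_goals first | exact h12 hm | exact h21 hm | exact h₂.centre_ne hm
  · push Not at hsame
    obtain ⟨s, hs⟩ := hsame
    obtain ⟨-, t, ht⟩ := eq_of_incident hd h₁ h₂ (by rw [← hs, dotProduct_smul, h₁.dot, smul_zero])
    have hst : t * s ∈ scal P v₁ a₁ h₁.dot := by
      rw [mem_scal, ← smul_smul, ← tv_smul_right, hs, ht, ht₂]; exact u₂.2
    have hst1 : t * s = 1 := by
      by_contra hne
      have hts : t * s ≠ 0 := mul_ne_zero (fun e => h₂.axis_ne (by rw [← ht, e, zero_smul]))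
        (fun e => h₂.centre_ne (by rw [← hs, e, zero_smul]))
      have h3 : ({0, 1, t * s} : Finset F).card ≤ Nat.card (scal P v₁ a₁ h₁.dot) := by
        rw [← Nat.card_eq_finsetCard]
        refine Nat.card_le_card_of_injective (fun x => ⟨x.1, ?_⟩) fun x y e =>
          Subtype.ext (congrArg Subtype.val e :)
        have := x.2
        simp only [Finset.mem_insert, Finset.mem_singleton] at this
        rcases this with e | e | e <;> rw [e]
        exacts [zero_mem _, hk₁, hst]
      rw [Finset.card_insert_of_notMem (by simp [Ne.symm hts]),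
        Finset.card_insert_of_notMem (by simp [Ne.symm hne]), Finset.card_singleton] at h3
      have := hle _ _ h₁
      omega
    refine hxy (Subtype.ext ?_)
    rw [← he₁, ← he₂]
    congr 1
    apply Subtype.ext
    rw [← ht₁, ← ht₂, ← hs, ← ht, tv_smul_right, smul_smul, hst1, one_smul]

/-- The flags have equally many transvections. -/
theorem card_scal_eq (hc : Ctx P) (hd : ¬ Double P) (p : ℕ) [Fact p.Prime] [CharP F p]
    {v a w b : Fin 3 → F} (h1 : SLThree.Flag P v a) (h2 : SLThree.Flag P w b) :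
    Nat.card (scal P w b h2.dot) = Nat.card (scal P v a h1.dot) := by
  obtain ⟨u, c, hu, hv', hw'⟩ := exists_common_opposite hc.core.irreducible h1 h2.centre_ne
  obtain ⟨o1, o2⟩ := opposite hd h1 hu hv'
  obtain ⟨o3, o4⟩ := opposite hd h2 hu hw'
  rw [← (pair p h1 hu o1 o2 (three_le_scal hc hd p h1)).1,
    (pair p h2 hu o3 o4 (three_le_scal hc hd p h2)).1]

/-- Distinct normalised flags pair into the subfield of order `q₀`. -/
theorem pow_pairing (hc : Ctx P) (hd : ¬ Double P) (p : ℕ) [Fact p.Prime] [CharP F p]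
    {v a w b : Fin 3 → F} (h1 : SLThree.Flag P v a) (h2 : SLThree.Flag P w b) (hm2 : tv w b ∈ P)
    (hne : ∀ s : F, s • v ≠ w) {k : F} (hk : k ∈ scal P v a h1.dot) :
    (k * (a ⬝ᵥ w) * (b ⬝ᵥ v)) ^ Nat.card (scal P v a h1.dot) = k * (a ⬝ᵥ w) * (b ⬝ᵥ v) := by
  obtain ⟨haw, hbv⟩ := opposite hd h1 h2 hne
  have h3 := three_le_scal hc hd p h1
  have h1' : (1 : F) ∈ scal P w b h2.dot := by rw [mem_scal, one_smul]; exact hm2
  rcases (pair p h1 h2 haw hbv h3).2 with ⟨F₀, hF₀, hmem⟩ | ⟨rfl, h, hmem⟩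
  · have hx := hmem k hk 1 h1'
    rw [mul_one] at hx
    letI : Fintype F₀ := Fintype.ofFinite F₀
    have := FiniteField.pow_card (⟨_, hx⟩ : F₀)
    rw [← Nat.card_eq_fintype_card, hF₀] at this
    exact congrArg Subtype.val this
  · exfalso
    obtain ⟨k₀, hk₀, hk0⟩ := h1.scal_ne_bot
    refine no_exception hc.core.irreducible hd (fun x y hxy => (card_scal_eq hc hd 3 h1 hxy).trans h)
      (h1.smul_centre hk0) h2 hk₀ hm2 ?_
    have := hmem k₀ hk₀ 1 h1' hk0 one_ne_zero
    rw [mul_one] at this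
    rw [dotProduct_smul, smul_eq_mul]
    linear_combination this

/-- The scalars of a normalised flag are the fixed points of `x ↦ x ^ q₀`. -/
theorem mem_scal_iff_pow (hc : Ctx P) (hd : ¬ Double P) (p : ℕ) [Fact p.Prime] [CharP F p]
    {v a : Fin 3 → F} (h : SLThree.Flag P v a) (hm : tv v a ∈ P) (k : F) :
    k ∈ scal P v a h.dot ↔ k ^ Nat.card (scal P v a h.dot) = k := by
  classical
  obtain ⟨u, c, hu, hv', -⟩ := exists_common_opposite hc.core.irreducible h h.centre_ne
  obtain ⟨s₀, hs₀, hs0⟩ := hu.scal_ne_bot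
  have hu' := hu.smul_centre hs0
  have hne : ∀ s : F, s • v ≠ s₀ • u := fun s e => hv' (s₀⁻¹ * s)
    (by rw [← smul_smul, e, smul_smul, inv_mul_cancel₀ hs0, one_smul])
  obtain ⟨haw, hbv⟩ := opposite hd h hu' hne
  have hfix : ∀ x ∈ scal P v a h.dot, x ^ Nat.card (scal P v a h.dot) = x := fun x hx => by
    have h1 : (1 : F) ∈ scal P v a h.dot := by rw [mem_scal, one_smul]; exact hm
    have e1 := pow_pairing hc hd p h hu' hs₀ hne h1
    have e2 := pow_pairing hc hd p h hu' hs₀ hne hx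
    rw [one_mul] at e1
    rw [mul_assoc, mul_pow, e1] at e2
    exact mul_right_cancel₀ (mul_ne_zero haw hbv) e2
  refine ⟨hfix k, fun hk => ?_⟩
  set Q := Nat.card (scal P v a h.dot) with hQ
  have h3 := three_le_scal hc hd p h
  obtain ⟨f, hf⟩ : ∃ f : Polynomial F, f = Polynomial.X ^ Q - Polynomial.X := ⟨_, rfl⟩
  have hf0 : f ≠ 0 := hf ▸ FiniteField.X_pow_card_sub_X_ne_zero F (by omega)
  have hmem : ∀ x, x ^ Q = x → x ∈ f.roots.toFinset := fun x hx => by
    rw [Multiset.mem_toFinset, Polynomial.mem_roots hf0, hf]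
    simp [hx]
  let S : Finset F := Finset.univ.filter (· ∈ scal P v a h.dot)
  have hsub : S ⊆ f.roots.toFinset := fun x hx => hmem x (hfix x (Finset.mem_filter.1 hx).2)
  have hcard : f.roots.toFinset.card ≤ S.card := by
    refine le_trans (Multiset.toFinset_card_le _) (le_trans (Polynomial.card_roots' f) ?_)
    rw [hf, FiniteField.X_pow_card_sub_X_natDegree_eq F (by omega), hQ, Nat.card_eq_fintype_card,
      Fintype.card_subtype]
  have := Finset.eq_of_subset_of_card_le hsub hcard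
  exact (Finset.mem_filter.1 (this ▸ hmem k hk : k ∈ S)).2

end CfsgLib.PGLThree
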