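import Cfsg.Agent.PGLThree.Single

/-!
# Triangles of flags, and the semilinear relation of the traces

For three normalised flags with triangle products `μ`, `ν` one has `ν = -σ μ` for `σ x = x ^ q₀`.
Relative to a base flag this makes `σ` carry the matrix of every element to that of its inverse.
-/

set_option autoImplicit false
set_option linter.unusedSectionVars false

namespace CfsgLib.PGLThree

open Matrix Cfsg.Geo CfsgLib.MaxSub CfsgLib.SLThree CfsgLib.DicksonPSL2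
open CfsgLib.Aschbacher (mat)

variable {F : Type*} [Field F] [Fintype F] {P : Subgroup (GL (Fin 3) F)}

/-- **Triangles.** -/
theorem triangle (hc : Ctx P) (hd : ¬ Double P) (p : ℕ) [Fact p.Prime] [CharP F p]
    {c₁ a₁ c₂ a₂ c₃ a₃ : Fin 3 → F} (h1 : SLThree.Flag P c₁ a₁) (h2 : SLThree.Flag P c₂ a₂)
    (h3 : SLThree.Flag P c₃ a₃) (m1 : tv c₁ a₁ ∈ P) (m2 : tv c₂ a₂ ∈ P) (m3 : tv c₃ a₃ ∈ P)
    (n12 : ∀ s : F, s • c₁ ≠ c₂) (n13 : ∀ s : F, s • c₁ ≠ c₃) (n23 : ∀ s : F, s • c₂ ≠ c₃)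
    {σ : F ≃+* F} (hσ : ∀ x, σ x = x ^ Nat.card (scal P c₁ a₁ h1.dot)) :
    (a₂ ⬝ᵥ c₁) * (a₃ ⬝ᵥ c₂) * (a₁ ⬝ᵥ c₃) =
      -σ ((a₁ ⬝ᵥ c₂) * (a₂ ⬝ᵥ c₃) * (a₃ ⬝ᵥ c₁)) := by
  set m := a₁ ⬝ᵥ c₂ with hm
  set n := a₂ ⬝ᵥ c₁ with hn
  set A := a₃ ⬝ᵥ c₁ with hA
  set B := a₃ ⬝ᵥ c₂ with hB
  set C := a₁ ⬝ᵥ c₃ with hC
  set D := a₂ ⬝ᵥ c₃ with hD
  obtain ⟨hm0, hn0⟩ := opposite hd h1 h2 n12
  obtain ⟨hC0, hA0⟩ := opposite hd h1 h3 n13
  obtain ⟨hD0, hB0⟩ := opposite hd h2 h3 n23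
  rw [← hm] at hm0; rw [← hn] at hn0; rw [← hA] at hA0; rw [← hB] at hB0; rw [← hC] at hC0; rw [← hD] at hD0
  have hk : ∀ {v a : Fin 3 → F} (h : SLThree.Flag P v a), tv v a ∈ P → (1 : F) ∈ scal P v a h.dot :=
    fun h hm => by rw [mem_scal, one_smul]; exact hm
  have e13 : σ (C * A) = C * A := by
    have := pow_pairing hc hd p h1 h3 m3 n13 (hk h1 m1)
    rwa [one_mul, ← hσ] at this
  have e12 : σ (m * n) = m * n := by
    have := pow_pairing hc hd p h1 h2 m2 n12 (hk h1 m1)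
    rwa [one_mul, ← hσ] at this
  have e23 : σ (D * B) = D * B := by
    have := pow_pairing hc hd p h2 h3 m3 n23 (hk h2 m2)
    rwa [one_mul, card_scal_eq hc hd p h1 h2, ← hσ] at this
  -- the first flag moved by the second
  let x : F → Fin 3 → F := fun k => c₁ + (k * n) • c₂
  let ax : F → Fin 3 → F := fun k => a₁ - (k * m) • a₂
  have hx : ∀ k ∈ scal P c₂ a₂ h2.dot, SLThree.Flag P (x k) (ax k) ∧ tv (x k) (ax k) ∈ P := by
    intro k hk'
    have hcj := h1.conj (g := tv (k • c₂) a₂) hk'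
    have hmj := tv_mem_conj hk' m1
    have hdot : a₂ ⬝ᵥ (k • c₂) = 0 := by simp [dotProduct_smul, h2.dot]
    rw [tv_inv, tv_mulVec hdot, vecMul_tv (by simp [dotProduct_neg, hdot])] at hcj hmj
    have e1 : c₁ + (a₂ ⬝ᵥ c₁) • k • c₂ = x k := by simp only [x]; rw [smul_smul, mul_comm]
    have e2 : a₁ + (a₁ ⬝ᵥ -(k • c₂)) • a₂ = ax k := by
      simp only [ax, dotProduct_neg, dotProduct_smul, smul_eq_mul, neg_smul, ← sub_eq_add_neg, ← hm]
    rw [e1, e2] at hcj hmj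
    exact ⟨hcj, hmj⟩
  have hQx : ∀ k, (ax k ⬝ᵥ c₃) * (a₃ ⬝ᵥ x k) =
      C * A + k * (n * B * C - m * D * A) - k * k * ((m * n) * (D * B)) := fun k => by
    simp only [x, ax, sub_dotProduct, smul_dotProduct, dotProduct_add, dotProduct_smul, smul_eq_mul,
      ← hA, ← hB, ← hC, ← hD]
    ring
  obtain ⟨d, hd'⟩ : ∃ d, d = n * B * C - m * D * A := ⟨_, rfl⟩
  have ed : σ d = d := by
    obtain ⟨hf, hmf⟩ := hx 1 (hk h2 m2)
    have hval : σ ((ax 1 ⬝ᵥ c₃) * (a₃ ⬝ᵥ x 1)) = (ax 1 ⬝ᵥ c₃) * (a₃ ⬝ᵥ x 1) := by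
      by_cases hne : ∀ s : F, s • x 1 ≠ c₃
      · have := pow_pairing hc hd p hf h3 m3 hne (hk hf hmf)
        rwa [one_mul, card_scal_eq hc hd p h1 hf, ← hσ] at this
      · push Not at hne
        obtain ⟨s, hs⟩ := hne
        rw [show ax 1 ⬝ᵥ c₃ = 0 by rw [← hs, dotProduct_smul, hf.dot, smul_zero], zero_mul, map_zero]
    simp only [hQx, one_mul, ← hd'] at hval
    simp only [map_sub, map_add, map_mul σ (m * n) (D * B), e13, e12, e23] at hval
    linear_combination hval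
  have hq : σ (m * D * A) * (σ (m * D * A) + d) = (m * D * A) * (m * D * A + d) := by
    have e : (m * D * A) * (m * D * A + d) = (m * n) * (D * B) * (C * A) := by rw [hd']; ring
    conv_rhs => rw [e, ← e12, ← e23, ← e13, ← map_mul, ← map_mul, ← e, map_mul, map_add, ed]
  have hroots : (σ (m * D * A) - m * D * A) * (σ (m * D * A) + (m * D * A + d)) = 0 := by
    linear_combination hq
  show n * B * C = -σ (m * D * A)
  rcases mul_eq_zero.1 hroots with h | h
  · -- the third flag is a moved first flag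
    have hμ : σ (m * D * A) = m * D * A := sub_eq_zero.1 h
    have hν : σ (n * B * C) = n * B * C := by
      rw [show n * B * C = m * D * A + d by rw [hd']; ring, map_add, hμ, ed]
    set k := -(C * A) / (n * B * C) with hkdef
    have hk0 : σ k = k := by rw [hkdef, map_div₀, map_neg, e13, hν]
    have hkm : k ∈ scal P c₂ a₂ h2.dot := by
      rw [mem_scal_iff_pow hc hd p h2 m2, card_scal_eq hc hd p h1 h2, ← hσ, hk0]
    obtain ⟨hf, -⟩ := hx k hkm
    have hz : a₃ ⬝ᵥ x k = 0 := by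
      simp only [x, dotProduct_add, dotProduct_smul, smul_eq_mul, ← hA, ← hB, hkdef]
      field_simp
      ring
    obtain ⟨⟨s, hs⟩, -⟩ := eq_of_incident hd h3 hf hz
    have hs0 : s ≠ 0 := fun e => hf.centre_ne (by rw [← hs, e, zero_smul])
    have hz2 : ax k ⬝ᵥ c₃ = 0 := by
      have := hf.dot
      rw [← hs, dotProduct_smul, smul_eq_mul] at this
      exact (mul_eq_zero.1 this).resolve_left hs0
    simp only [ax, sub_dotProduct, smul_dotProduct, smul_eq_mul, ← hC, ← hD, hkdef] at hz2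
    rw [hμ]
    field_simp at hz2
    linear_combination hz2
  · linear_combination h - hd'

/-- **No two incident flags.** -/
theorem not_single (p : ℕ) [Fact p.Prime] [CharP F p] (hc : Ctx P) (hd : ¬ Double P)
    {v a : Fin 3 → F} (hfl : SLThree.Flag P v a) :
    ∃ σ : F ≃+* F, σ ≠ RingEquiv.refl F ∧ (∀ g ∈ P, σ (mat g).trace = (mat g⁻¹).trace) ∧
      ∀ v a (h : SLThree.Flag P v a), Nat.card (scal P v a h.dot) ^ 2 = Fintype.card F := by
  classical
  obtain ⟨s₀, hs₀, hs0⟩ := hfl.scal_ne_bot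
  obtain ⟨c₁, hc₁⟩ : ∃ c₁, c₁ = s₀ • v := ⟨_, rfl⟩
  have hb : SLThree.Flag P c₁ a := hc₁ ▸ hfl.smul_centre hs0
  have hbm : tv c₁ a ∈ P := hc₁ ▸ hs₀
  set q₀ := Nat.card (scal P c₁ a hb.dot) with hq₀
  obtain ⟨e, he⟩ : ∃ e, q₀ = p ^ e := by
    obtain ⟨n, hp, hn⟩ := FiniteField.card F p
    have hdvd : q₀ ∣ p ^ (n : ℕ) := by
      rw [← hn, ← Nat.card_eq_fintype_card]; exact AddSubgroup.card_addSubgroup_dvd_card _
    obtain ⟨j, -, hj⟩ := (Nat.dvd_prime_pow hp).1 hdvd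
    exact ⟨j, hj⟩
  haveI : ExpChar F p := ExpChar.prime (Fact.out : p.Prime)
  obtain ⟨σ, hσ⟩ : ∃ σ : F ≃+* F, ∀ x, σ x = x ^ q₀ :=
    ⟨iterateFrobeniusEquiv F p e, fun x => by rw [iterateFrobeniusEquiv_def, he]⟩
  -- the normalised flags generate
  let J : Set ((Fin 3 → F) × (Fin 3 → F)) := {i | SLThree.Flag P i.1 i.2 ∧ tv i.1 i.2 ∈ P ∧
    ((a ⬝ᵥ i.1 ≠ 0 ∧ i.2 ⬝ᵥ c₁ ≠ 0) ∨ i = (c₁, a))}
  let G : Set (GL (Fin 3) F) := {g | ∃ i ∈ J, ∃ k : F, σ k = k ∧ g = tv (k • i.1) i.2}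
  have hscal : ∀ i ∈ J, ∀ k : F, σ k = k → tv (k • i.1) i.2 ∈ P := fun i hi k hk => by
    have := (mem_scal_iff_pow hc hd p hi.1 hi.2.1 k).2
      (by rw [card_scal_eq hc hd p hb hi.1, ← hq₀, ← hσ, hk])
    exact this
  have hGP : G ⊆ P := by
    rintro g ⟨i, hi, k, hk, rfl⟩
    exact hscal i hi k hk
  have hall : ∀ w b, SLThree.Flag P w b → tv w b ∈ P → tv w b ∈ G := by
    intro w b hw hwm
    by_cases hne : ∀ s : F, s • c₁ ≠ w
    · exact ⟨(w, b), ⟨hw, hwm, Or.inl (opposite hd hb hw hne)⟩, 1, map_one σ, by rw [one_smul]⟩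
    · push Not at hne
      obtain ⟨s, hs⟩ := hne
      obtain ⟨-, t, ht⟩ := eq_of_incident hd hb hw (by rw [← hs, dotProduct_smul, hb.dot, smul_zero])
      refine ⟨(c₁, a), ⟨hb, hbm, Or.inr rfl⟩, t * s, ?_, by rw [← hs, ← ht, tv_smul_right, smul_smul]⟩
      rw [hσ]
      exact (mem_scal_iff_pow hc hd p hb hbm _).1
        (by rw [mem_scal, ← smul_smul, ← tv_smul_right, hs, ht]; exact hwm)
  have hgen : ∀ g ∈ P, g ∈ Subgroup.closure G := by
    set N : Subgroup P := (Subgroup.closure G).subgroupOf P with hN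
    haveI : N.Normal := ⟨fun n hn g => by
      rw [hN, Subgroup.mem_subgroupOf] at hn ⊢
      suffices Subgroup.closure G ≤ (Subgroup.closure G).comap
          (MulAut.conj (g : GL (Fin 3) F)).toMonoidHom by
        exact this hn
      rw [Subgroup.closure_le]
      rintro x ⟨i, hi, k, hk, rfl⟩
      rw [SetLike.mem_coe, Subgroup.mem_comap, MulEquiv.coe_toMonoidHom, MulAut.conj_apply, conj_tv]
      rcases eq_or_ne k 0 with rfl | hk0
      · rw [zero_smul, mulVec_zero, tv_zero_left]; exact one_mem _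
      · exact Subgroup.subset_closure (hall _ _ ((hi.1.smul_centre hk0).conj g.2)
          (tv_mem_conj g.2 (hscal i hi k hk)))⟩
    have hNZ : ¬ N ≤ Z P := fun h => by
      have hmem : (⟨tv c₁ a, hbm⟩ : P) ∈ N := by
        rw [hN, Subgroup.mem_subgroupOf]
        exact Subgroup.subset_closure (hall _ _ hb hbm)
      obtain ⟨c, hce⟩ := mem_Z_iff.1 (h hmem)
      have hcv := congrArg (· *ᵥ c₁) (show ((tv c₁ a : GL (Fin 3) F) : Matrix (Fin 3) (Fin 3) F) = c • 1 from hce)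
      rw [tv_mulVec hb.dot, hb.dot, zero_smul, add_zero, smul_mulVec, one_mulVec] at hcv
      have hc1 : c = 1 := by
        have h0 : (c - 1) • c₁ = 0 := by rw [sub_smul, one_smul, ← hcv, sub_self]
        exact sub_eq_zero.1 ((smul_eq_zero.1 h0).resolve_right hb.centre_ne)
      exact tv_ne_one hb.dot hb.centre_ne hb.axis_ne (Units.ext (by
        rw [show ((tv c₁ a : GL (Fin 3) F) : Matrix (Fin 3) (Fin 3) F) = c • 1 from hce, hc1, one_smul]; rfl))
    intro g hg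
    have := hc.core.eq_top_of_normal N hNZ
    have hgN : (⟨g, hg⟩ : P) ∈ N := this ▸ Subgroup.mem_top _
    exact hgN
  -- the gauge
  let N : (Fin 3 → F) × (Fin 3 → F) → F := fun i =>
    if i = (c₁, a) then -1 else σ (a ⬝ᵥ i.1) / (i.2 ⬝ᵥ c₁)
  have hN0 : ∀ i ∈ J, N i ≠ 0 := fun i hi => by
    simp only [N]
    split_ifs with h
    · exact neg_ne_zero.2 one_ne_zero
    · obtain ⟨h1, h2⟩ := hi.2.2.resolve_right h
      exact div_ne_zero (fun e => h1 (by simpa using e)) h2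
  have hrel : ∀ i ∈ J, ∀ j ∈ J, N j * (j.2 ⬝ᵥ i.1) = -σ (i.2 ⬝ᵥ j.1) * N i := by
    intro i hi j hj
    by_cases hne : ∀ s : F, s • i.1 ≠ j.1
    · have hcase : ∀ l ∈ J, l ≠ (c₁, a) → (∀ s : F, s • c₁ ≠ l.1) ∧
          σ ((a ⬝ᵥ l.1) * (l.2 ⬝ᵥ c₁)) = (a ⬝ᵥ l.1) * (l.2 ⬝ᵥ c₁) := fun l hl hlb => by
        have hn : ∀ s : F, s • c₁ ≠ l.1 := fun s hs => (hl.2.2.resolve_right hlb).1
          (by rw [← hs, dotProduct_smul, hb.dot, smul_zero])
        refine ⟨hn, ?_⟩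
        have := pow_pairing hc hd p hb hl.1 hl.2.1 hn (k := 1) (by rw [mem_scal, one_smul]; exact hbm)
        rwa [one_mul, ← hσ] at this
      by_cases hib : i = (c₁, a)
      · by_cases hjb : j = (c₁, a)
        · exact absurd (one_smul F _) (hib ▸ hjb ▸ hne 1)
        · subst hib
          obtain ⟨-, -⟩ := hcase j hj hjb
          have h2 := (hj.2.2.resolve_right hjb).2
          simp only [N, if_neg hjb, if_pos rfl]
          field_simp
      · obtain ⟨hni, hσi⟩ := hcase i hi hib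
        obtain ⟨hi1, hi2⟩ := hi.2.2.resolve_right hib
        by_cases hjb : j = (c₁, a)
        · subst hjb
          simp only [N, if_neg hib, if_pos rfl]
          rw [map_mul] at hσi
          have hσ0 : σ (a ⬝ᵥ i.1) ≠ 0 := fun e => hi1 (by simpa using e)
          field_simp
          linear_combination hσi
        · obtain ⟨hnj, hσj⟩ := hcase j hj hjb
          obtain ⟨hj1, hj2⟩ := hj.2.2.resolve_right hjb
          have ht := triangle hc hd p hb hi.1 hj.1 hbm hi.2.1 hj.2.1 hni hnj hne hσ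
          simp only [N, if_neg hib, if_neg hjb]
          simp only [map_mul] at ht hσi hσj
          have hσ0 : σ (a ⬝ᵥ i.1) ≠ 0 := fun e => hi1 (by simpa using e)
          field_simp
          refine mul_right_cancel₀ (mul_ne_zero hj1 hi1) ?_
          linear_combination (σ (a ⬝ᵥ j.1) * (a ⬝ᵥ i.1)) * ht
            - (σ (a ⬝ᵥ i.1) * σ (i.2 ⬝ᵥ j.1) * (a ⬝ᵥ i.1)) * hσj
    · push Not at hne
      obtain ⟨s, hs⟩ := hne
      have hsn : s ≠ 0 := fun e => hj.1.centre_ne (by rw [← hs, e, zero_smul])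
      have e1 : i.2 ⬝ᵥ j.1 = 0 := by rw [← hs, dotProduct_smul, hi.1.dot, smul_zero]
      have e2 : j.2 ⬝ᵥ i.1 = 0 := by
        have := hj.1.dot
        rw [← hs, dotProduct_smul, smul_eq_mul] at this
        exact (mul_eq_zero.1 this).resolve_left hsn
      rw [e1, e2, map_zero, mul_zero, neg_zero, zero_mul]
  -- words
  have hW : ∀ g ∈ Subgroup.closure G, (∀ i ∈ J, ∀ j ∈ J,
      N j * (j.2 ⬝ᵥ (mat g⁻¹ *ᵥ i.1)) = -σ (i.2 ⬝ᵥ (mat g *ᵥ j.1)) * N i) ∧
      σ (mat g).trace = (mat g⁻¹).trace := by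
    have step : ∀ l ∈ J, ∀ k : F, σ k = k → ∀ y : GL (Fin 3) F, ((∀ i ∈ J, ∀ j ∈ J,
        N j * (j.2 ⬝ᵥ (mat y⁻¹ *ᵥ i.1)) = -σ (i.2 ⬝ᵥ (mat y *ᵥ j.1)) * N i) ∧
        σ (mat y).trace = (mat y⁻¹).trace) → ((∀ i ∈ J, ∀ j ∈ J,
        N j * (j.2 ⬝ᵥ (mat (tv (k • l.1) l.2 * y)⁻¹ *ᵥ i.1)) =
          -σ (i.2 ⬝ᵥ (mat (tv (k • l.1) l.2 * y) *ᵥ j.1)) * N i) ∧
        σ (mat (tv (k • l.1) l.2 * y)).trace = (mat (tv (k • l.1) l.2 * y)⁻¹).trace) := by
      intro l hl k hk y ⟨hy, hyt⟩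
      have hdot : l.2 ⬝ᵥ (k • l.1) = 0 := by simp [dotProduct_smul, hl.1.dot]
      have em : mat (tv (k • l.1) l.2 * y) = (1 + vecMulVec (k • l.1) l.2) * mat y := by
        show ((tv (k • l.1) l.2 * y : GL (Fin 3) F) : Matrix (Fin 3) (Fin 3) F) = _
        rw [Units.val_mul, tv_coe hdot]
      have ei : mat (tv (k • l.1) l.2 * y)⁻¹ = mat y⁻¹ * (1 + vecMulVec (-(k • l.1)) l.2) := by
        show (((tv (k • l.1) l.2 * y)⁻¹ : GL (Fin 3) F) : Matrix (Fin 3) (Fin 3) F) = _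
        rw [_root_.mul_inv_rev, Units.val_mul, tv_inv, tv_coe (by rw [dotProduct_neg, hdot, neg_zero])]
      constructor
      · intro i hi j hj
        rw [em, ei, ← mulVec_mulVec, ← mulVec_mulVec, add_mulVec, one_mulVec, vecMulVec_mulVec',
          add_mulVec, one_mulVec, vecMulVec_mulVec', mulVec_add, mulVec_smul, mulVec_neg, mulVec_smul]
        simp only [dotProduct_add, dotProduct_smul, dotProduct_neg, smul_eq_mul, map_add, map_mul, hk]
        linear_combination hy i hi j hj - (k * (l.2 ⬝ᵥ i.1)) * hy l hl j hj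
          + (k * σ (l.2 ⬝ᵥ mat y *ᵥ j.1)) * hrel i hi l hl
      · rw [em, ei, add_mul, one_mul, mul_add, mul_one, vecMulVec_mul, Matrix.trace_add, map_add,
          mul_vecMulVec, Matrix.trace_add, Matrix.trace_vecMulVec, Matrix.trace_vecMulVec]
        rw [mulVec_neg, mulVec_smul, dotProduct_comm (k • l.1), ← dotProduct_mulVec, mulVec_smul,
          dotProduct_smul, smul_eq_mul, map_mul, hk, hyt]
        rw [neg_dotProduct, smul_dotProduct, dotProduct_comm (mat y⁻¹ *ᵥ l.1), smul_eq_mul]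
        refine mul_left_cancel₀ (hN0 l hl) ?_
        linear_combination k * hy l hl l hl
    intro g hg
    induction hg using Subgroup.closure_induction_left with
    | one =>
      refine ⟨fun i hi j hj => ?_, by simp [mat, map_ofNat]⟩
      simpa [mat] using hrel i hi j hj
    | mul_left x hx y _ ih =>
      obtain ⟨l, hl, k, hk, rfl⟩ := hx
      exact step l hl k hk y ih
    | inv_mul_cancel x hx y _ ih =>
      obtain ⟨l, hl, k, hk, rfl⟩ := hx
      rw [tv_inv, ← neg_smul]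
      exact step l hl (-k) (by rw [map_neg, hk]) y ih
  have htr : ∀ g ∈ P, σ (mat g).trace = (mat g⁻¹).trace := fun g hg => (hW g (hgen g hg)).2
  have hne : σ ≠ RingEquiv.refl F := fun h => by
    obtain ⟨g, hg, hg'⟩ := hc.exists_not_real
    exact hg' (by simpa [h] using htr g hg)
  refine ⟨σ, hne, htr, fun w b hw => ?_⟩
  rw [card_scal_eq hc hd p hb hw, ← hq₀]
  have h3 : 3 ≤ q₀ := three_le_scal hc hd p hb
  refine le_antisymm ?_ ?_
  · obtain ⟨E, hE⟩ : ∃ E : Subfield F, ∀ x, x ∈ E ↔ σ x = x :=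
      ⟨(σ : F →+* F).eqLocusField (RingHom.id F), fun x => Iff.rfl⟩
    have hEne : E ≠ ⊤ := fun h => hne (RingEquiv.ext fun x => (hE x).1 (h ▸ Subfield.mem_top x))
    have hcE : Nat.card E = q₀ := Nat.card_congr (Equiv.subtypeEquivRight fun x => by
      rw [hE, hσ, hq₀, ← mem_scal_iff_pow hc hd p hb hbm])
    have := sq_card_subfield_le hEne
    rwa [hcE, Nat.card_eq_fintype_card] at this
  · obtain ⟨f, hf⟩ : ∃ f : Polynomial F, f = Polynomial.X ^ (q₀ ^ 2) - Polynomial.X := ⟨_, rfl⟩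
    have h9 : 1 < q₀ ^ 2 := Nat.one_lt_pow (by norm_num) (by omega)
    have hf0 : f ≠ 0 := hf ▸ FiniteField.X_pow_card_sub_X_ne_zero F h9
    have hroot : ∀ x : F, x ∈ f.roots.toFinset := fun x => by
      rw [Multiset.mem_toFinset, Polynomial.mem_roots hf0, hf]
      have : x ^ q₀ ^ 2 = x := by
        rw [pow_two, pow_mul, ← hσ, ← hσ]; exact hc.involutive htr x
      simp [this]
    have := Finset.card_le_card (fun x (_ : x ∈ Finset.univ) => hroot x)
    rw [Finset.card_univ] at this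
    refine this.trans (le_trans (Multiset.toFinset_card_le _) (le_trans (Polynomial.card_roots' f) ?_))
    rw [hf, FiniteField.X_pow_card_sub_X_natDegree_eq F h9]

end CfsgLib.PGLThree
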