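import Cfsg.Agent.PGLThree.Ctx
import Cfsg.Agent.PGLThree.Classes

/-!
# Traces and the Frobenius automorphism

A real element of the simple quotient has a real lift of the same order, an element of order seven
conjugate to its square a lift with the same property; every trace is a cube root of one times the
trace of such a lift.
-/

set_option autoImplicit false
set_option linter.unusedSectionVars false

namespace CfsgLib.PGLThree

open Matrix Cfsg.Geo CfsgLib.Aschbacher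

variable {F : Type*} [Field F] {P : Subgroup (GL (Fin 3) F)}

/-- The trace of an element. -/
def trc (g : P) : F := (mat (g : GL (Fin 3) F)).trace

theorem trc_def (g : P) : trc g = (mat (g : GL (Fin 3) F)).trace := rfl

theorem trc_conj {x y : P} (h : IsConj x y) : trc x = trc y := trace_eq_of_isConj h

theorem trc_one : trc (1 : P) = 3 := by
  simp [trc, mat, Matrix.trace_one]

theorem trc_mul_Z {z : P} {c : F} (hz : mat (z : GL (Fin 3) F) = c • 1) (g : P) :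
    trc (z * g) = c * trc g := by
  show (((z : GL (Fin 3) F) * g : GL (Fin 3) F) : Matrix (Fin 3) (Fin 3) F).trace = _
  rw [Units.val_mul, show ((z : GL (Fin 3) F) : Matrix (Fin 3) (Fin 3) F) = c • 1 from hz, smul_mul,
    one_mul, Matrix.trace_smul, smul_eq_mul]
  rfl

theorem trc_pow (p : ℕ) [Fact p.Prime] [CharP F p] (g : P) : trc (g ^ p) = trc g ^ p := by
  show (((g ^ p : P) : GL (Fin 3) F) : Matrix (Fin 3) (Fin 3) F).trace = _
  rw [SubmonoidClass.coe_pow, Units.val_pow_eq_pow_val]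
  exact trace_pow_char p _

theorem trc_pow_pow (p : ℕ) [Fact p.Prime] [CharP F p] (g : P) (k : ℕ) :
    trc (g ^ p ^ k) = trc g ^ p ^ k := by
  induction k with
  | zero => simp
  | succ k ih => rw [pow_succ, pow_mul, trc_pow, ih, pow_mul]

theorem frob_three (p : ℕ) [Fact p.Prime] [CharP F p] : (3 : F) ^ p = 3 := by
  haveI : ExpChar F p := ExpChar.prime (Fact.out : p.Prime)
  simpa [frobenius_def] using map_ofNat (frobenius F p) 3

/-- An element of `p`-power order has trace three. -/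
theorem trc_of_pow_prime (p : ℕ) [Fact p.Prime] [CharP F p] {g : P} {k : ℕ} (h : g ^ p ^ k = 1) :
    trc g = 3 := by
  haveI : ExpChar F p := ExpChar.prime (Fact.out : p.Prime)
  have h3 : (3 : F) ^ p ^ k = 3 := by
    induction k generalizing g with
    | zero => simp
    | succ k ih =>
      rw [pow_succ, pow_mul, ih (g := 1) (one_pow _), frob_three p]
  have := trc_pow_pow p g k
  rw [h, trc_one] at this
  exact iterateFrobenius_inj F p k (by rw [iterateFrobenius_def, iterateFrobenius_def, h3]; exact this.symm)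

/-- A real element of the quotient has a real lift of the same order. -/
theorem Core.exists_real_lift (hc : Core P) {g : P} (hr : IsConj (proj P g) (proj P g)⁻¹) :
    ∃ g₀ : P, proj P g₀ = proj P g ∧ IsConj g₀ g₀⁻¹ ∧ ∀ n : ℕ, proj P g ^ n = 1 → g₀ ^ n = 1 := by
  obtain ⟨c, hce⟩ := isConj_iff.1 hr
  obtain ⟨h, rfl⟩ := QuotientGroup.mk'_surjective (Z P) c
  set z := g * (h * g * h⁻¹) with hz
  have hzZ : z ∈ Z P := proj_eq_one_iff.1 (by
    rw [hz, map_mul, map_mul, map_mul, map_inv]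
    exact (congrArg (proj P g * ·) hce).trans (mul_inv_cancel _))
  have hzg : ∀ x : P, z * x = x * z := fun x => comm_of_mem_Z hzZ x
  have e : h * g * h⁻¹ = g⁻¹ * z := by rw [hz, inv_mul_cancel_left]
  have hp : proj P (g * z) = proj P g := by rw [map_mul, proj_eq_one_iff.2 hzZ, mul_one]
  have hconj : h * (g * z) * h⁻¹ = (g * z)⁻¹ := by
    calc h * (g * z) * h⁻¹ = h * g * (z * h⁻¹) := by group
      _ = h * g * h⁻¹ * z := by rw [hzg]; group
      _ = g⁻¹ * (z * z) := by rw [e, mul_assoc]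
      _ = g⁻¹ * z⁻¹ := by
          rw [show z * z = z⁻¹ from eq_inv_of_mul_eq_one_left (by
            rw [← pow_two, ← pow_succ]; exact hc.pow_three hzZ)]
      _ = (g * z)⁻¹ := by rw [_root_.mul_inv_rev]; exact (comm_of_mem_Z (inv_mem hzZ) g⁻¹).symm
  refine ⟨g * z, hp, isConj_iff.2 ⟨h, hconj⟩, fun n hn => ?_⟩
  have hwZ : (g * z) ^ n ∈ Z P := proj_eq_one_iff.1 (by rw [map_pow, hp, hn])
  have h1 : ((g * z) ^ n)⁻¹ = (g * z) ^ n := by
    rw [← inv_pow, ← hconj, conj_pow, ← comm_of_mem_Z hwZ h, mul_inv_cancel_right]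
  have h2 : ((g * z) ^ n) ^ 2 = 1 := by rw [pow_two]; exact inv_eq_iff_mul_eq_one.1 h1
  have h3 := hc.pow_three hwZ
  rw [pow_succ, h2, one_mul] at h3
  exact h3

/-- An element of order seven conjugate to its square has a lift with the same properties. -/
theorem Core.exists_seven_lift (hc : Core P) {g : P} (h7 : proj P g ^ 7 = 1)
    (hr : IsConj (proj P g) (proj P g ^ 2)) :
    ∃ g₀ : P, proj P g₀ = proj P g ∧ IsConj g₀ (g₀ ^ 2) ∧ g₀ ^ 7 = 1 := by
  obtain ⟨c, hce⟩ := isConj_iff.1 hr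
  obtain ⟨h, rfl⟩ := QuotientGroup.mk'_surjective (Z P) c
  set z := (g ^ 2)⁻¹ * (h * g * h⁻¹) with hz
  have hzZ : z ∈ Z P := proj_eq_one_iff.1 (by
    rw [hz, map_mul, map_inv, map_mul, map_mul, map_inv, map_pow]
    exact (congrArg ((proj P g ^ 2)⁻¹ * ·) hce).trans (inv_mul_cancel _))
  have hzg : ∀ x : P, z * x = x * z := fun x => comm_of_mem_Z hzZ x
  have e : h * g * h⁻¹ = g ^ 2 * z := by rw [hz, mul_inv_cancel_left]
  have hp : proj P (g * z) = proj P g := by rw [map_mul, proj_eq_one_iff.2 hzZ, mul_one]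
  have hconj : h * (g * z) * h⁻¹ = (g * z) ^ 2 := by
    calc h * (g * z) * h⁻¹ = h * g * (z * h⁻¹) := by group
      _ = h * g * h⁻¹ * z := by rw [hzg]; group
      _ = g ^ 2 * (z * z) := by rw [e, mul_assoc]
      _ = (g * z) ^ 2 := by rw [(Commute.symm (hzg g) : Commute g z).mul_pow, pow_two z]
  refine ⟨g * z, hp, isConj_iff.2 ⟨h, hconj⟩, ?_⟩
  have hwZ : (g * z) ^ 7 ∈ Z P := proj_eq_one_iff.1 (by rw [map_pow, hp, h7])
  have h1 : (g * z) ^ 7 * (g * z) ^ 7 = (g * z) ^ 7 := by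
    rw [← pow_two, ← pow_mul, mul_comm 7 2, pow_mul, ← hconj, conj_pow, ← comm_of_mem_Z hwZ h,
      mul_inv_cancel_right]
  exact mul_eq_left.1 h1

/-- Every trace is a cube root of one times the trace of a good lift. -/
theorem Core.exists_decomp (hc : Core P) {Q : ℕ → Prop}
    (hcl : ∀ s : P ⧸ Z P, ((∃ n, Q n ∧ s ^ n = 1) ∧ IsConj s s⁻¹) ∨ (s ^ 7 = 1 ∧ IsConj s (s ^ 2)))
    (g : P) : ∃ (c : F) (g₀ : P), c ^ 3 = 1 ∧ trc g = c * trc g₀ ∧ trc g⁻¹ = c ^ 2 * trc g₀⁻¹ ∧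
      (((∃ n, Q n ∧ g₀ ^ n = 1) ∧ IsConj g₀ g₀⁻¹) ∨ (g₀ ^ 7 = 1 ∧ IsConj g₀ (g₀ ^ 2))) := by
  obtain ⟨g₀, hp, hg₀⟩ : ∃ g₀ : P, proj P g₀ = proj P g ∧
      (((∃ n, Q n ∧ g₀ ^ n = 1) ∧ IsConj g₀ g₀⁻¹) ∨ (g₀ ^ 7 = 1 ∧ IsConj g₀ (g₀ ^ 2))) := by
    rcases hcl (proj P g) with ⟨⟨n, hn, he⟩, hr⟩ | ⟨h7, hr⟩
    · obtain ⟨g₀, h1, h2, h3⟩ := hc.exists_real_lift hr
      exact ⟨g₀, h1, Or.inl ⟨⟨n, hn, h3 n he⟩, h2⟩⟩
    · obtain ⟨g₀, h1, h2, h3⟩ := hc.exists_seven_lift h7 hr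
      exact ⟨g₀, h1, Or.inr ⟨h3, h2⟩⟩
  have hzZ : g * g₀⁻¹ ∈ Z P := proj_eq_one_iff.1 (by rw [map_mul, map_inv, hp, mul_inv_cancel])
  obtain ⟨c, hce⟩ := mem_Z_iff.1 hzZ
  have hc3 : c ^ 3 = 1 := hc.scalar_pow (g * g₀⁻¹).2 hce
  refine ⟨c, g₀, hc3, ?_, ?_, hg₀⟩
  · conv_lhs => rw [← inv_mul_cancel_right g g₀]
    exact trc_mul_Z hce g₀
  · have hinv : mat ((((g * g₀⁻¹) ^ 2 : P)) : GL (Fin 3) F) = c ^ 2 • 1 := by
      show ((((g * g₀⁻¹ : P) ^ 2 : P) : GL (Fin 3) F) : Matrix (Fin 3) (Fin 3) F) = _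
      rw [SubmonoidClass.coe_pow, Units.val_pow_eq_pow_val,
        show (((g * g₀⁻¹ : P) : GL (Fin 3) F) : Matrix (Fin 3) (Fin 3) F) = c • 1 from hce, smul_pow,
        one_pow]
    have e : g⁻¹ = (g * g₀⁻¹) ^ 2 * g₀⁻¹ := by
      have h3 := hc.pow_three hzZ
      rw [pow_succ] at h3
      rw [eq_inv_of_mul_eq_one_left h3, _root_.mul_inv_rev, inv_inv, comm_of_mem_Z ?_ g₀⁻¹]
      · group
      · simpa using inv_mem hzZ
    rw [e]
    exact trc_mul_Z hinv _

theorem pow_frob {g : P} {n : ℕ} (h : g ^ n = 1) (p : ℕ) : g ^ p = g ^ (p % n) := by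
  conv_lhs => rw [← Nat.mod_add_div p n, pow_add, pow_mul, h, one_pow, mul_one]

theorem trc_inv_of_real {g : P} (h : IsConj g g⁻¹) : trc g⁻¹ = trc g := (trc_conj h).symm

/-- A real element with `p ≡ ± 1` modulo its order, or of `p`-power order, has a trace fixed by the
Frobenius automorphism. -/
theorem trc_frob_real (p : ℕ) [Fact p.Prime] [CharP F p] {g : P} (hr : IsConj g g⁻¹) {n : ℕ}
    (hn : g ^ n = 1) (h : p % n = 1 ∨ p % n + 1 = n ∨ ∃ k, n = p ^ k) : trc g ^ p = trc g := by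
  rcases h with h | h | ⟨k, rfl⟩
  · rw [← trc_pow, pow_frob hn, h, pow_one]
  · rw [← trc_pow, pow_frob hn, show g ^ (p % n) = g⁻¹ from
      eq_inv_of_mul_eq_one_left (by rw [← pow_succ, h, hn]), trc_inv_of_real hr]
  · rw [trc_of_pow_prime p hn]
    exact frob_three p

/-- Elements of order seven conjugate to their squares. -/
theorem trc_frob_seven (p : ℕ) [Fact p.Prime] [CharP F p] {g : P} (h7 : g ^ 7 = 1)
    (hr : IsConj g (g ^ 2)) :
    ((p % 7 = 1 ∨ p % 7 = 2 ∨ p % 7 = 4) → trc g ^ p = trc g) ∧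
      ((p % 7 = 3 ∨ p % 7 = 5 ∨ p % 7 = 6) → trc g ^ p = trc g⁻¹) := by
  have h24 : trc (g ^ 4) = trc (g ^ 2) := by
    obtain ⟨c, hc⟩ := isConj_iff.1 hr
    exact (trc_conj (isConj_iff.2 ⟨c, by rw [← conj_pow, hc, ← pow_mul]⟩)).symm
  have h12 := trc_conj hr
  have h6 : g⁻¹ = g ^ 6 := inv_eq_of_mul_eq_one_right (by rw [← pow_succ']; exact h7)
  have hsq : ∀ m, trc (g ^ m) = trc (g ^ (2 * m)) := fun m => by
    obtain ⟨c, hc⟩ := isConj_iff.1 hr
    exact trc_conj (isConj_iff.2 ⟨c, by rw [← conj_pow, hc, ← pow_mul]⟩)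
  constructor
  · intro h
    rw [← trc_pow, pow_frob h7]
    rcases h with h | h | h <;> rw [h]
    · rw [pow_one]
    · exact h12.symm
    · rw [h24, h12]
  · intro h
    rw [← trc_pow, pow_frob h7, h6]
    rcases h with h | h | h <;> rw [h]
    · exact hsq 3
    · rw [hsq 5, pow_frob h7 (2 * 5)]
      exact hsq 3

end CfsgLib.PGLThree
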