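import Cfsg.Agent.PGLThree.TypesTrace
import Cfsg.Agent.Transfer.Abelian

/-!
# Lifting along a projection with scalar kernel
-/

set_option autoImplicit false
set_option linter.unusedSectionVars false
set_option linter.style.haveILetI false

namespace CfsgLib.PGLThree

open Matrix Cfsg.Geo CfsgLib.Aschbacher

variable {F : Type*} [Field F] {P : Subgroup (GL (Fin 3) F)} {Q : Type*} [Group Q] {π : P →* Q}

theorem map_eq_iff_proj (hk : π.ker = Z P) {g h : P} : π g = π h ↔ proj P g = proj P h := by
  rw [MonoidHom.eq_iff, hk, MonoidHom.eq_iff, QuotientGroup.ker_mk']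

theorem mem_Z_of_map (hk : π.ker = Z P) {g : P} (h : π g = 1) : g ∈ Z P := hk ▸ h

/-- Involutions lift uniquely. -/
theorem Core.exists_lift (hc : Core P) (hk : π.ker = Z P) (hπ : Function.Surjective π) {σ : Q}
    (hσ : σ * σ = 1) : ∃ u : P, u * u = 1 ∧ π u = σ := by
  obtain ⟨g, rfl⟩ := hπ σ
  obtain ⟨u, ⟨h1, h2⟩, -⟩ := hc.exists_sq_lift (g := g) (mem_Z_of_map hk (by rw [map_mul, hσ]))
  exact ⟨u, h1, (map_eq_iff_proj hk).2 h2⟩

theorem Core.lift_unique (hc : Core P) (hk : π.ker = Z P) {u v : P} (hu : u * u = 1) (hv : v * v = 1)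
    (h : π u = π v) : u = v := by
  obtain ⟨w, -, huniq⟩ := hc.exists_sq_lift (g := u) (by rw [hu]; exact one_mem _)
  exact (huniq u ⟨hu, rfl⟩).trans (huniq v ⟨hv, ((map_eq_iff_proj hk).1 h).symm⟩).symm

theorem Core.commute_of_map (hc : Core P) (hk : π.ker = Z P) {t g : P} (ht : t * t = 1)
    (h : π g * π t = π t * π g) : g * t = t * g :=
  hc.commute_of_proj ht (by
    rw [← map_mul, ← map_mul] at h ⊢
    exact (map_eq_iff_proj hk).1 h)

/-- A product of two involutions is inverted, so its trace equals that of its inverse. -/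
theorem trace_inv_of_invols {i j : P} (hi : i * i = 1) (hj : j * j = 1) :
    (mat (((i * j : P) : GL (Fin 3) F))⁻¹).trace = (mat ((i * j : P) : GL (Fin 3) F)).trace := by
  have e : (i * j)⁻¹ = i * (i * j) * i⁻¹ := by
    rw [_root_.mul_inv_rev, inv_eq_of_mul_eq_one_right hi, inv_eq_of_mul_eq_one_right hj,
      ← mul_assoc, hi, one_mul]
  rw [← InvMemClass.coe_inv, e]
  exact trace_conj _ _

/-- The order of a product of two involutions is that of its image. -/
theorem Core.pow_eq_one_of_invols (hc : Core P) (hk : π.ker = Z P) {i j : P} (hi : i * i = 1)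
    (hj : j * j = 1) {n : ℕ} (hn : π (i * j) ^ n = 1) : (i * j) ^ n = 1 := by
  have hz : (i * j) ^ n ∈ Z P := mem_Z_of_map hk (by rw [map_pow, hn])
  have e : i * (i * j) * i⁻¹ = (i * j)⁻¹ := by
    rw [_root_.mul_inv_rev, inv_eq_of_mul_eq_one_right hi, inv_eq_of_mul_eq_one_right hj,
      ← mul_assoc, hi, one_mul]
  have h1 : ((i * j) ^ n)⁻¹ = (i * j) ^ n := by
    rw [← inv_pow, ← e, conj_pow, ← comm_of_mem_Z hz i, mul_inv_cancel_right]
  have h3 := hc.pow_three hz
  have h2 : (i * j) ^ n * (i * j) ^ n = 1 := by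
    conv_lhs => arg 1; rw [← h1]
    exact inv_mul_cancel _
  rw [pow_succ, pow_two, h2, one_mul] at h3
  exact h3

/-- The scalars are trivial in characteristic three. -/
theorem Core.Z_eq_bot_of_three (hc : Core P) (h3 : (3 : F) = 0) : Z P = ⊥ := by
  rw [Subgroup.eq_bot_iff_forall]
  intro g hg
  obtain ⟨c, hgc⟩ := mem_Z_iff.1 hg
  have h := hc.scalar_pow g.2 hgc
  have e : (c - 1) ^ 3 = 0 := by linear_combination h + (c - c ^ 2) * h3
  rw [pow_eq_zero_iff (by norm_num), sub_eq_zero] at e
  rw [e, one_smul] at hgc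
  exact Subtype.ext (mat_inj (hgc.trans (by simp [mat])))

/-- If a Sylow subgroup for three of the simple quotient is cyclic, the scalars are trivial. -/
theorem Core.Z_eq_bot_of_cyclic [Finite F] (hc : Core P) (hk : π.ker = Z P)
    (hπ : Function.Surjective π) (hcyc : ∀ T : Sylow 3 Q, IsCyclic T) : Z P = ⊥ := by
  haveI : Fact (Nat.Prime 3) := ⟨Nat.prime_three⟩
  obtain ⟨T⟩ : Nonempty (Sylow 3 P) := inferInstance
  have hZc : Z P ≤ Subgroup.center P := fun z hz =>
    Subgroup.mem_center_iff.2 fun g => (comm_of_mem_Z hz g).symm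
  have hZT : Z P ≤ (T : Subgroup P) := by
    haveI : (Z P).Normal := inferInstance
    exact (IsPGroup.le_sylow_of_normal (fun z => ⟨1, Subtype.ext (by
      simpa using hc.pow_three z.2)⟩) T)
  haveI : IsCyclic ((T : Subgroup P).map π) := by
    have := hcyc (T.mapSurjective hπ)
    rwa [Sylow.coe_mapSurjective] at this
  have habel : IsMulCommutative (T : Subgroup P) := by
    refine MonoidHom.isMulCommutative_of_isCyclic_of_ker_le_center (π.subgroupMap (T : Subgroup P))
      fun w hw => ?_
    have : π (w : P) = 1 := congrArg Subtype.val (MonoidHom.mem_ker.1 hw)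
    exact Subgroup.mem_center_iff.2 fun g =>
      Subtype.ext (comm_of_mem_Z (mem_Z_of_map hk this) g).symm
  have hperf : commutator P = ⊤ := by
    refine Subgroup.map_injective P.subtype_injective ?_
    rw [commutator_def, Subgroup.map_commutator, ← MonoidHom.range_eq_map, P.range_subtype,
      hc.perfect]
  have h := CfsgLib.Transfer.inf_commutator_inf_center_eq_bot (T : Subgroup P) habel
    T.card_coprime_index
  rw [hperf, inf_top_eq] at h
  exact le_bot_iff.1 ((le_inf hZT hZc).trans h.le)

end CfsgLib.PGLThree
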