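import Cfsg.Agent.PGLThree.TypesLift

/-!
# The alternating group of degree seven in dimension three

Only characteristic five is possible.
-/

set_option autoImplicit false
set_option linter.unusedSectionVars false
set_option linter.style.haveILetI false
set_option maxRecDepth 10000

namespace CfsgLib.PGLThree

open Matrix Cfsg.Geo CfsgLib.Aschbacher
open Equiv (swap)

/-- A product of two transpositions as an even permutation of seven points. -/
def sw2 (a b c d : Fin 7) (h : Equiv.Perm.sign (swap a b * swap c d) = 1) :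
    alternatingGroup (Fin 7) := ⟨swap a b * swap c d, Equiv.Perm.mem_alternatingGroup.2 h⟩

def dT1 : alternatingGroup (Fin 7) := sw2 0 1 2 3 (by decide)
def dT2 : alternatingGroup (Fin 7) := sw2 0 2 1 3 (by decide)
def dT3 : alternatingGroup (Fin 7) := sw2 0 3 1 2 (by decide)
/-- `(2 3)(5 6)`, inverting both three-cycles. -/
def dB : alternatingGroup (Fin 7) := sw2 2 3 5 6 (by decide)
/-- The cycle `(2 3 4)`. -/
def dU : alternatingGroup (Fin 7) := sw2 2 3 3 4 (by decide)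
/-- The cycle `(4 5 6)`. -/
def dX : alternatingGroup (Fin 7) := sw2 4 5 5 6 (by decide)
/-- The cycle `(0 2 1)`. -/
def dA : alternatingGroup (Fin 7) := sw2 0 2 2 1 (by decide)

theorem seven_facts :
    dT1 * dT1 = 1 ∧ dT2 * dT2 = 1 ∧ dT3 * dT3 = 1 ∧ dB * dB = 1 ∧ dT1 * dT2 = dT3 ∧
    dT1 * dT2 = dT2 * dT1 ∧ dB * dT1 = dT1 * dB ∧ (dU * dB) * (dU * dB) = 1 ∧
    (dB * dX) * (dB * dX) = 1 ∧ (dT1 * dB) * dU = dU * (dT1 * dB) := by
  decide +kernel

theorem seven_orders :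
    dU ^ 3 = 1 ∧ dU ≠ 1 ∧ dX ≠ 1 ∧ dT1 ≠ 1 ∧ dT2 ≠ 1 ∧ dT3 ≠ 1 ∧ dU * dT1 ≠ 1 ∧
    (dU * dT2) ^ 5 = 1 ∧ dU * dT2 ≠ 1 ∧ (dU * dT3) ^ 5 = 1 ∧ dU * dT3 ≠ 1 ∧
    (dU * dX) ^ 5 = 1 ∧ dU * dX ≠ 1 ∧ (dU * dX⁻¹) ^ 5 = 1 ∧ dU * dX⁻¹ ≠ 1 := by
  decide +kernel

theorem seven_conj :
    dA * dT1 * dA⁻¹ = dT2 ∧ dA * dT2 * dA⁻¹ = dT3 ∧ dA * dT3 * dA⁻¹ = dT1 ∧
    dA * dX * dA⁻¹ = dX ∧ dX * dT1 = dT1 * dX ∧ dX * dT2 = dT2 * dX ∧ dX * dT3 = dT3 * dX := by
  decide +kernel

/-- The centraliser of an involution of `A₇` contains a three-cycle. -/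
theorem exists_three_commute (σ : alternatingGroup (Fin 7)) (h : orderOf σ = 2) :
    ∃ τ : alternatingGroup (Fin 7), orderOf τ = 3 ∧ Commute τ σ := by
  classical
  haveI : Fact (Nat.Prime 2) := ⟨Nat.prime_two⟩
  have h' : orderOf (σ : Equiv.Perm (Fin 7)) = 2 := (Subgroup.orderOf_coe σ).trans h
  obtain ⟨n, hn⟩ := Equiv.Perm.cycleType_prime_order (by rw [h']; exact Nat.prime_two)
  rw [h'] at hn
  have hs : Equiv.Perm.sign (σ : Equiv.Perm (Fin 7)) = 1 := Equiv.Perm.mem_alternatingGroup.1 σ.2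
  have hsum := Equiv.Perm.sum_cycleType (σ : Equiv.Perm (Fin 7))
  rw [hn, Multiset.sum_replicate, smul_eq_mul] at hsum
  have hle : (σ : Equiv.Perm (Fin 7)).support.card ≤ 7 := (Finset.card_le_univ _).trans_eq (Fintype.card_fin 7)
  rw [Equiv.Perm.sign_of_cycleType, hn, Multiset.sum_replicate, Multiset.card_replicate, smul_eq_mul] at hs
  have hn1 : n = 1 := by
    have : n ≤ 2 := by omega
    interval_cases n
    · exact absurd hs (by decide)
    · rfl
    · exact absurd hs (by decide)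
  subst hn1
  have hc : 2 < (σ : Equiv.Perm (Fin 7)).supportᶜ.card := by
    rw [Finset.card_compl, Fintype.card_fin]; omega
  obtain ⟨a, ha, b, hb, c, hc, hab, hac, hbc⟩ := Finset.two_lt_card.1 hc
  simp only [Finset.mem_compl, Equiv.Perm.notMem_support] at ha hb hc
  have h3 : (swap a b * swap a c).IsThreeCycle := Equiv.Perm.isThreeCycle_swap_mul_swap_same hab hac hbc
  refine ⟨⟨_, h3.mem_alternatingGroup⟩, (Subgroup.orderOf_coe _).symm.trans h3.orderOf, Subtype.ext ?_⟩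
  show swap a b * swap a c * (σ : Equiv.Perm (Fin 7)) = σ * (swap a b * swap a c)
  have e1 : ∀ {u v : Fin 7}, (σ : Equiv.Perm (Fin 7)) u = u → (σ : Equiv.Perm (Fin 7)) v = v →
      Commute (swap u v) (σ : Equiv.Perm (Fin 7)) := fun {u v} hu hv => by
    refine (Equiv.Perm.Disjoint.commute fun i => ?_)
    by_cases hi : i = u ∨ i = v
    · rcases hi with rfl | rfl <;> simp [hu, hv]
    · push Not at hi
      exact Or.inl (Equiv.swap_apply_of_ne_of_ne hi.1 hi.2)
  exact ((e1 ha hb).mul_left (e1 ha hc)).eq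

variable {F : Type*} [Field F]

/-- The two traces at the end give characteristic five. -/
theorem five_eq_zero {a b : F} (ha : a * a = a + 1) (hb : b * b = b + 1) (h : 2 * (a * b) = 3) :
    (5 : F) = 0 := by
  by_cases e : a = b
  · subst e
    have h2 : 2 * a = 1 := by linear_combination h - 2 * ha
    linear_combination (-4 : F) * ha + (2 * a - 1) * h2
  · have h1 : a + b = 1 := by
      have : (a - b) * (a + b - 1) = 0 := by linear_combination ha - hb
      exact sub_eq_zero.1 ((mul_eq_zero.1 this).resolve_left (sub_ne_zero.2 e))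
    linear_combination (-1 : F) * h + (2 * a) * h1 - 2 * ha

theorem mat_mul (g h : GL (Fin 3) F) : mat (g * h) = mat g * mat h := Units.val_mul g h

/-- An involution of determinant one is a homology. -/
theorem exists_centre (h2 : (2 : F) ≠ 0) {T : GL (Fin 3) F} (hd : (mat T).det = 1) (hs : T * T = 1)
    (hn : T ≠ 1) : ∃ e f : Fin 3 → F, f ⬝ᵥ e = 1 ∧ mat T + 1 = (2 : F) • vecMulVec e f := by
  obtain ⟨e, f, hfe, g, hg, hge⟩ := CfsgLib.SLThree.exists_hom h2 (M := Subgroup.zpowers T)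
    (Subgroup.mem_zpowers T) (mem_specialLinear_iff.2 hd) hs hn
  refine ⟨e, f, hfe, ?_⟩
  have hgT : g = T ∨ g = 1 := by
    obtain ⟨k, rfl⟩ := Subgroup.mem_zpowers_iff.1 hg
    rcases Int.even_or_odd k with ⟨m, rfl⟩ | ⟨m, rfl⟩
    · exact Or.inr (by rw [_root_.zpow_add, ← (Commute.refl T).mul_zpow, hs, _root_.one_zpow])
    · exact Or.inl (by rw [_root_.zpow_add, _root_.zpow_mul,
        show T ^ (2 : ℤ) = 1 by rw [_root_.zpow_two, hs], _root_.one_zpow, one_mul, _root_.zpow_one])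
  rcases hgT with rfl | rfl
  · rw [show mat g = CfsgLib.SLThree.homMat e f from hge, CfsgLib.SLThree.homMat]
    abel
  · exfalso
    have h' : (2 : F) • vecMulVec e f = (2 : F) • (1 : Matrix (Fin 3) (Fin 3) F) := by
      rw [Units.val_one, CfsgLib.SLThree.homMat] at hge
      calc (2 : F) • vecMulVec e f = 1 + (-1 + (2 : F) • vecMulVec e f) := by abel
        _ = (2 : F) • 1 := by rw [← hge, two_smul]
    have h3 := congrArg Matrix.trace (smul_right_injective _ h2 h')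
    rw [Matrix.trace_vecMulVec, dotProduct_comm, hfe, Matrix.trace_one, Fintype.card_fin] at h3
    exact h2 (by push_cast at h3; linear_combination -h3)

/-- Three commuting involutions give three orthogonal idempotents. -/
theorem frame_sum (h2 : (2 : F) ≠ 0) {T1 T2 T3 : GL (Fin 3) F} (hd1 : (mat T1).det = 1)
    (hs1 : T1 * T1 = 1) (hn1 : T1 ≠ 1) (hd2 : (mat T2).det = 1) (hs2 : T2 * T2 = 1) (hn2 : T2 ≠ 1)
    (hd3 : (mat T3).det = 1) (hs3 : T3 * T3 = 1) (hn3 : T3 ≠ 1) (h12 : T1 * T2 = T3)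
    (h21 : T2 * T1 = T3) : mat T1 + mat T2 + mat T3 = -1 := by
  obtain ⟨e1, f1, hf1, he1⟩ := exists_centre h2 hd1 hs1 hn1
  obtain ⟨e2, f2, hf2, he2⟩ := exists_centre h2 hd2 hs2 hn2
  have h40 : (2 : F) * 2 ≠ 0 := mul_ne_zero h2 h2
  have h4 : ((2 : F) * 2) • (vecMulVec e1 f1 * vecMulVec e2 f2) = mat T1 + mat T2 + mat T3 + 1 := by
    rw [← smul_smul, ← Matrix.mul_smul, ← Matrix.smul_mul, ← he1, ← he2, add_mul, mul_add, mul_add,
      ← mat_mul, h12, one_mul, one_mul, mul_one]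
    abel
  have h4' : ((2 : F) * 2) • (vecMulVec e2 f2 * vecMulVec e1 f1) = mat T1 + mat T2 + mat T3 + 1 := by
    rw [← smul_smul, ← Matrix.mul_smul, ← Matrix.smul_mul, ← he2, ← he1, add_mul, mul_add, mul_add,
      ← mat_mul, h21, one_mul, one_mul, mul_one]
    abel
  have hswap := smul_right_injective _ h40 (h4.trans h4'.symm)
  have htr := congrArg Matrix.trace h4
  rw [Matrix.trace_add, Matrix.trace_add, Matrix.trace_add, trace_of_square hd1 hs1 hn1,
    trace_of_square hd2 hs2 hn2, trace_of_square hd3 hs3 hn3, Matrix.trace_one, Fintype.card_fin,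
    Matrix.trace_smul, show (-1 : F) + -1 + -1 + ((3 : ℕ) : F) = 0 by push_cast; ring, smul_eq_zero,
    or_iff_right h40] at htr
  have hzero : vecMulVec e1 f1 * vecMulVec e2 f2 = 0 := by
    have hsq : (vecMulVec e1 f1 * vecMulVec e2 f2) * (vecMulVec e1 f1 * vecMulVec e2 f2) =
        vecMulVec e1 f1 * vecMulVec e2 f2 := by
      have i1 : vecMulVec e1 f1 * vecMulVec e1 f1 = vecMulVec e1 f1 := by
        rw [vecMulVec_mul_vecMulVec, hf1, one_smul]
      have i2 : vecMulVec e2 f2 * vecMulVec e2 f2 = vecMulVec e2 f2 := by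
        rw [vecMulVec_mul_vecMulVec, hf2, one_smul]
      calc _ = vecMulVec e1 f1 * (vecMulVec e2 f2 * vecMulVec e1 f1) * vecMulVec e2 f2 := by
            simp only [mul_assoc]
        _ = (vecMulVec e1 f1 * vecMulVec e1 f1) * (vecMulVec e2 f2 * vecMulVec e2 f2) := by
            rw [← hswap]; simp only [mul_assoc]
        _ = _ := by rw [i1, i2]
    have hform : vecMulVec e1 f1 * vecMulVec e2 f2 = (f1 ⬝ᵥ e2) • vecMulVec e1 f2 := by
      rw [vecMulVec_mul_vecMulVec, vecMulVec_smul]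
    have ht : (f1 ⬝ᵥ e2) * (f2 ⬝ᵥ e1) = 0 := by
      rw [hform, Matrix.trace_smul, Matrix.trace_vecMulVec, dotProduct_comm e1, smul_eq_mul] at htr
      exact htr
    rw [← hsq, hform, Matrix.smul_mul, Matrix.mul_smul, vecMulVec_mul_vecMulVec, vecMulVec_smul,
      smul_smul, smul_smul, mul_assoc, ht, mul_zero, zero_smul]
  rw [hzero, smul_zero] at h4
  exact eq_neg_of_add_eq_zero_left h4.symm

/-- An element commuting with an involution acts by a scalar on its centre. -/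
theorem scalar_on_centre (h2 : (2 : F) ≠ 0) {T X : GL (Fin 3) F} (hd : (mat T).det = 1)
    (hs : T * T = 1) (hn : T ≠ 1) (hc : X * T = T * X) :
    ∃ d : F, mat X * (mat T + 1) = d • (mat T + 1) := by
  obtain ⟨e, f, hfe, he⟩ := exists_centre h2 hd hs hn
  refine ⟨f ⬝ᵥ (mat X *ᵥ e), ?_⟩
  have hcomm : mat X * (mat T + 1) = (mat T + 1) * mat X := by
    rw [mul_add, add_mul, ← mat_mul, ← mat_mul, hc, one_mul, mul_one]
  rw [he, Matrix.mul_smul, Matrix.smul_mul] at hcomm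
  have hXE := smul_right_injective _ h2 hcomm
  have hXe : mat X *ᵥ e = (f ⬝ᵥ (mat X *ᵥ e)) • e := by
    have := congrArg (fun M : Matrix (Fin 3) (Fin 3) F => M *ᵥ e) hXE
    simpa [← mulVec_mulVec, vecMulVec_mulVec, hfe] using this
  rw [he, Matrix.mul_smul, mul_vecMulVec, smul_comm (f ⬝ᵥ (mat X *ᵥ e)), ← smul_vecMulVec (f ⬝ᵥ (mat X *ᵥ e)), ← hXe]

variable {P : Subgroup (GL (Fin 3) F)}

/-- **The alternating group of degree seven forces characteristic five.** -/
theorem Core.char_of_seven [Finite F] (hc : Core P) {p : ℕ} [Fact p.Prime] [CharP F p]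
    (π : P →* alternatingGroup (Fin 7)) (hπ : Function.Surjective π) (hk : π.ker = Z P)
    (h2 : (2 : F) ≠ 0) : p = 5 := by
  obtain ⟨f1, f2, f3, fB, f12, f21, fB1, fUB, fBX, fV⟩ := seven_facts
  obtain ⟨oU, oU1, oX1, oT1, oT2, oT3, oU11, o52, n52, o53, n53, o5x, n5x, o5y, n5y⟩ := seven_orders
  obtain ⟨cA1, cA2, cA3, cAX, cX1, cX2, cX3⟩ := seven_conj
  obtain ⟨t1, ht1, et1⟩ := hc.exists_lift hk hπ f1
  obtain ⟨t2, ht2, et2⟩ := hc.exists_lift hk hπ f2
  obtain ⟨b, hb, eb⟩ := hc.exists_lift hk hπ fB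
  obtain ⟨a0, ha0, ea0⟩ := hc.exists_lift hk hπ fUB
  obtain ⟨c0, hc0, ec0⟩ := hc.exists_lift hk hπ fBX
  obtain ⟨a, ea⟩ := hπ dA
  have h21 : t1 * t2 = t2 * t1 := hc.commute_of_map hk ht2 (by rw [et1, et2]; exact f21)
  have ht3 : (t1 * t2) * (t1 * t2) = 1 := by
    calc t1 * t2 * (t1 * t2) = t1 * (t2 * t1) * t2 := by group
      _ = (t1 * t1) * (t2 * t2) := by rw [← h21]; group
      _ = 1 := by rw [ht1, ht2, mul_one]
  have et3 : π (t1 * t2) = dT3 := by rw [map_mul, et1, et2, f12]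
  obtain ⟨u, hu⟩ : ∃ u, u = a0 * b := ⟨_, rfl⟩
  obtain ⟨x, hx⟩ : ∃ x, x = b * c0 := ⟨_, rfl⟩
  have eu : π u = dU := by rw [hu, map_mul, ea0, eb, mul_assoc, fB, mul_one]
  have ex : π x = dX := by rw [hx, map_mul, eb, ec0, ← mul_assoc, fB, one_mul]
  -- `t1` inverts `u`
  have hbt : b * t1 = t1 * b := hc.commute_of_map hk ht1 (by rw [eb, et1]; exact fB1)
  have hvv : (t1 * b) * (t1 * b) = 1 := by
    calc t1 * b * (t1 * b) = t1 * (b * t1) * b := by group
      _ = (t1 * t1) * (b * b) := by rw [hbt]; group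
      _ = 1 := by rw [ht1, hb, mul_one]
  have hvu : u * (t1 * b) = (t1 * b) * u :=
    hc.commute_of_map hk hvv (by rw [eu, map_mul, et1, eb]; exact fV.symm)
  have hut : (u * t1) * (u * t1) = 1 := by
    have h1 : b * u * b = u⁻¹ := by
      rw [hu, _root_.mul_inv_rev, inv_eq_of_mul_eq_one_right hb, inv_eq_of_mul_eq_one_right ha0]
      calc b * (a0 * b) * b = b * a0 * (b * b) := by group
        _ = b * a0 := by rw [hb, mul_one]
    have hcm : b * (t1 * b) * b = t1 * b := by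
      calc b * (t1 * b) * b = (b * t1) * (b * b) := by group
        _ = t1 * b := by rw [hb, mul_one, hbt]
    calc u * t1 * (u * t1) = u * ((t1 * b) * (b * u * b) * (b * t1)) := by
          rw [show (t1 * b) * (b * u * b) * (b * t1) = t1 * (b * b) * u * (b * b) * t1 by group, hb]
          group
      _ = u * ((t1 * b) * u⁻¹ * (t1 * b)) := by rw [h1, hbt]
      _ = u * (u⁻¹ * ((t1 * b) * (t1 * b))) := by
          rw [← mul_assoc (u⁻¹), (show Commute u (t1 * b) from hvu).inv_left.eq]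
      _ = 1 := by rw [hvv, mul_one, mul_inv_cancel]
  -- traces
  have hdet : ∀ g : P, (mat (g : GL (Fin 3) F)).det = 1 := fun g => hc.det_eq_one g.2
  have hne : ∀ {g : P}, π g ≠ 1 → (g : GL (Fin 3) F) ≠ 1 := fun {g} h e => h (by
    rw [show g = 1 from Subtype.ext e, map_one])
  have five : ∀ {i j : P} {σ : alternatingGroup (Fin 7)}, i * i = 1 → j * j = 1 → π (i * j) = σ →
      σ ^ 5 = 1 → σ ≠ 1 → (mat ((i * j : P) : GL (Fin 3) F)).trace *
        (mat ((i * j : P) : GL (Fin 3) F)).trace = (mat ((i * j : P) : GL (Fin 3) F)).trace + 1 := by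
    intro i j σ hi hj e h5 h1
    refine trace_of_fifth (hdet _) (trace_inv_of_invols hi hj) ?_ (hne (e ▸ h1))
    have := hc.pow_eq_one_of_invols hk hi hj (n := 5) (by rw [e, h5])
    exact congrArg Subtype.val this
  have hu0 : (mat (u : GL (Fin 3) F)).trace = 0 := by
    rw [hu]
    refine trace_of_cube (hdet _) (trace_inv_of_invols ha0 hb) ?_ (hne (by rw [← hu, eu]; exact oU1))
    exact congrArg Subtype.val (hc.pow_eq_one_of_invols hk ha0 hb (n := 3) (by rw [← hu, eu, oU]))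
  have hT1 : (mat ((u * t1 : P) : GL (Fin 3) F)).trace = -1 :=
    trace_of_square (hdet _) (congrArg Subtype.val hut) (hne (by rw [map_mul, eu, et1]; exact oU11))
  have hT2 := five hut ht3 (σ := dU * dT2) (by
    rw [show u * t1 * (t1 * t2) = u * (t1 * t1) * t2 by group, ht1, mul_one, map_mul, eu, et2]) o52 n52
  rw [show u * t1 * (t1 * t2) = u * t2 by rw [← mul_assoc, mul_assoc u, ht1, mul_one]] at hT2
  have hT3 := five hut ht2 (σ := dU * dT3) (by rw [mul_assoc, map_mul, eu, et3]) o53 n53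
  rw [mul_assoc] at hT3
  have hA := five ha0 hc0 (σ := dU * dX) (by
    rw [show a0 * c0 = u * x by rw [hu, hx, mul_assoc, ← mul_assoc b, hb, one_mul], map_mul, eu, ex]) o5x n5x
  rw [show a0 * c0 = u * x by rw [hu, hx, mul_assoc, ← mul_assoc b, hb, one_mul]] at hA
  have hbcb : b * c0 * b * (b * c0 * b) = 1 := by
    calc b * c0 * b * (b * c0 * b) = b * c0 * (b * b) * c0 * b := by group
      _ = b * (c0 * c0) * b := by rw [hb]; group
      _ = 1 := by rw [hc0, mul_one, hb]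
  have hyx : a0 * (b * c0 * b) = u * x⁻¹ := by
    rw [hu, hx, _root_.mul_inv_rev, inv_eq_of_mul_eq_one_right hb, inv_eq_of_mul_eq_one_right hc0]
    group
  have hB := five ha0 hbcb (σ := dU * dX⁻¹) (by rw [hyx, map_mul, map_inv, eu, ex]) o5y n5y
  rw [hyx] at hB
  -- the frame
  simp only [Subgroup.coe_mul, Subgroup.coe_inv, mat_mul] at hT1 hT2 hT3 hA hB
  have dd : ∀ {t : P}, π t ≠ 1 → t * t = 1 → (mat (t : GL (Fin 3) F)).det = 1 ∧
      (t : GL (Fin 3) F) * (t : GL (Fin 3) F) = 1 ∧ (t : GL (Fin 3) F) ≠ 1 :=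
    fun {t} h ht => ⟨hdet t, congrArg Subtype.val ht, hne h⟩
  obtain ⟨hd1, hs1, hn1⟩ := dd (et1 ▸ oT1) ht1
  obtain ⟨hd2, hs2, hn2⟩ := dd (et2 ▸ oT2) ht2
  obtain ⟨hd3, hs3, hn3⟩ := dd (et3 ▸ oT3) ht3
  have hsum := frame_sum h2 hd1 hs1 hn1 hd2 hs2 hn2 hd3 hs3 hn3
    (Subgroup.coe_mul P t1 t2).symm (congrArg Subtype.val h21.symm)
  rw [Subgroup.coe_mul, mat_mul] at hsum
  have hx1 : x * t1 = t1 * x := hc.commute_of_map hk ht1 (by rw [ex, et1]; exact cX1)
  have hx2 : x * t2 = t2 * x := hc.commute_of_map hk ht2 (by rw [ex, et2]; exact cX2)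
  have hx3 : x * (t1 * t2) = (t1 * t2) * x := hc.commute_of_map hk ht3 (by rw [ex, et3]; exact cX3)
  obtain ⟨d1, hd1x⟩ := scalar_on_centre h2 hd1 hs1 hn1 (congrArg Subtype.val hx1)
  obtain ⟨d2, hd2x⟩ := scalar_on_centre h2 hd2 hs2 hn2 (congrArg Subtype.val hx2)
  obtain ⟨d3, hd3x⟩ := scalar_on_centre h2 hd3 hs3 hn3 (congrArg Subtype.val hx3)
  rw [Subgroup.coe_mul, mat_mul] at hd3x
  -- the scalar
  obtain ⟨w, hw⟩ : ∃ w, w = a * x * a⁻¹ * x⁻¹ := ⟨_, rfl⟩
  have hwZ : w ∈ Z P := mem_Z_of_map hk (by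
    rw [hw, map_mul, map_mul, map_mul, map_inv, map_inv, ea, ex, cAX, mul_inv_cancel])
  obtain ⟨k, hwk⟩ := mem_Z_iff.1 hwZ
  have hk3 : k ^ 3 = 1 := hc.scalar_pow w.2 hwk
  have hconj : ∀ {t t' : P} {d d' : F}, t * t = 1 → t' * t' = 1 → π t' = dA * π t * dA⁻¹ →
      mat (x : GL (Fin 3) F) * (mat (t : GL (Fin 3) F) + 1) = d • (mat (t : GL (Fin 3) F) + 1) →
      mat (x : GL (Fin 3) F) * (mat (t' : GL (Fin 3) F) + 1) = d' • (mat (t' : GL (Fin 3) F) + 1) →
      π t' ≠ 1 → d = k * d' := by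
    intro t t' d d' ht ht' e h h' hn
    have et : a * t * a⁻¹ = t' := hc.lift_unique hk (by
      rw [show a * t * a⁻¹ * (a * t * a⁻¹) = a * (t * t) * a⁻¹ by group, ht, mul_one, mul_inv_cancel])
      ht' (by rw [map_mul, map_mul, map_inv, ea, e])
    have hat : mat (a : GL (Fin 3) F) * (mat (t : GL (Fin 3) F) + 1) * mat (a : GL (Fin 3) F)⁻¹ =
        mat (t' : GL (Fin 3) F) + 1 := by
      rw [← et, Subgroup.coe_mul, Subgroup.coe_mul, Subgroup.coe_inv, mat_mul, mat_mul, mul_add, mul_one,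
        add_mul, mat_mul_inv]
    have hax : mat (a : GL (Fin 3) F) * mat (x : GL (Fin 3) F) * mat (a : GL (Fin 3) F)⁻¹ =
        k • mat (x : GL (Fin 3) F) := by
      have e1 : a * x * a⁻¹ = w * x := by rw [hw]; group
      have := congrArg (fun g : P => mat (g : GL (Fin 3) F)) e1
      simp only [Subgroup.coe_mul, Subgroup.coe_inv, mat_mul] at this
      rw [this, hwk, Matrix.smul_mul, one_mul]
    have key : d • (mat (t' : GL (Fin 3) F) + 1) = (k * d') • (mat (t' : GL (Fin 3) F) + 1) := by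
      rw [mul_smul, ← h', ← Matrix.smul_mul, ← hax, ← hat, ← Matrix.smul_mul, ← Matrix.mul_smul, ← h]
      simp only [mul_assoc]
      rw [← mul_assoc (mat (a : GL (Fin 3) F)⁻¹), mat_inv_mul, one_mul]
    refine smul_left_injective F (fun e0 => ?_) key
    have := congrArg Matrix.trace e0
    rw [Matrix.trace_add, trace_of_square (hdet _) (congrArg Subtype.val ht') (hne hn), Matrix.trace_one,
      Fintype.card_fin, Matrix.trace_zero] at this
    exact h2 (by push_cast at this; linear_combination this)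
  have h12 := hconj ht1 ht2 (by rw [et1, et2, cA1]) hd1x hd2x (et2 ▸ oT2)
  have h23 := hconj ht2 ht3 (by rw [et2, et3, cA2]) hd2x
    (by rw [Subgroup.coe_mul, mat_mul]; exact hd3x) (et3 ▸ oT3)
  have h31 := hconj ht3 ht1 (by rw [et1, et3, cA3])
    (by rw [Subgroup.coe_mul, mat_mul]; exact hd3x) hd1x (et1 ▸ oT1)
  have hk1 : k ≠ 1 := by
    intro e1
    rw [e1, one_mul] at h12 h23
    rw [h12, h23] at hd1x
    rw [h23] at hd2x
    apply oX1
    rw [← ex]
    have hxs : (2 : F) • mat (x : GL (Fin 3) F) = (2 : F) • (d3 • (1 : Matrix (Fin 3) (Fin 3) F)) := by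
      have e2 : (2 : F) • (1 : Matrix (Fin 3) (Fin 3) F) =
          (mat (t1 : GL (Fin 3) F) + 1) + (mat (t2 : GL (Fin 3) F) + 1) +
          (mat (t1 : GL (Fin 3) F) * mat (t2 : GL (Fin 3) F) + 1) := by
        linear_combination (norm := module) -hsum
      rw [smul_comm, e2, smul_add, smul_add, ← hd1x, ← hd2x, ← hd3x, ← mul_add, ← mul_add, ← e2,
        Matrix.mul_smul, mul_one]
    exact (hk ▸ mem_Z_iff.2 ⟨d3, smul_right_injective _ h2 hxs⟩ : x ∈ π.ker)
  have hkq : k * k + k + 1 = 0 := by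
    have : (k - 1) * (k * k + k + 1) = 0 := by linear_combination hk3
    exact (mul_eq_zero.1 this).resolve_left (sub_ne_zero.2 hk1)
  have hd0 : d1 ≠ 0 := by
    intro e0
    rw [e0, zero_smul] at hd1x
    have hmi : mat ((x : GL (Fin 3) F))⁻¹ * (mat (x : GL (Fin 3) F) * (mat (t1 : GL (Fin 3) F) + 1)) = 0 := by
      rw [hd1x, mul_zero]
    rw [← mul_assoc, mat_inv_mul, one_mul] at hmi
    have := congrArg Matrix.trace hmi
    rw [Matrix.trace_add, trace_of_square hd1 hs1 hn1, Matrix.trace_one, Fintype.card_fin, Matrix.trace_zero] at this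
    exact h2 (by push_cast at this; linear_combination this)
  have h4 : (2 : F) • (1 : Matrix (Fin 3) (Fin 3) F) =
      (mat (t1 : GL (Fin 3) F) + 1) + (mat (t2 : GL (Fin 3) F) + 1) +
      (mat (t1 : GL (Fin 3) F) * mat (t2 : GL (Fin 3) F) + 1) := by
    linear_combination (norm := module) -hsum
  -- the traces of `u x` and `u x⁻¹`
  have hk0 : k ≠ 0 := fun e0 => by simp [e0] at hk3
  have e2 : d2 = k * k * d1 := by rw [h12]; linear_combination (-d2) * hk3
  have e3 : d3 = k * d1 := h31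
  have htr : ∀ (M : Matrix (Fin 3) (Fin 3) F) (c1 c2 c3 : F),
      M * (mat (t1 : GL (Fin 3) F) + 1) = c1 • (mat (t1 : GL (Fin 3) F) + 1) →
      M * (mat (t2 : GL (Fin 3) F) + 1) = c2 • (mat (t2 : GL (Fin 3) F) + 1) →
      M * (mat (t1 : GL (Fin 3) F) * mat (t2 : GL (Fin 3) F) + 1) =
        c3 • (mat (t1 : GL (Fin 3) F) * mat (t2 : GL (Fin 3) F) + 1) →
      2 * (mat (u : GL (Fin 3) F) * M).trace =
        c1 * (mat (u : GL (Fin 3) F) * mat (t1 : GL (Fin 3) F)).trace +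
        c2 * (mat (u : GL (Fin 3) F) * mat (t2 : GL (Fin 3) F)).trace +
        c3 * (mat (u : GL (Fin 3) F) * (mat (t1 : GL (Fin 3) F) * mat (t2 : GL (Fin 3) F))).trace := by
    intro M c1 c2 c3 g1 g2 g3
    have e : (2 : F) • M = c1 • (mat (t1 : GL (Fin 3) F) + 1) + c2 • (mat (t2 : GL (Fin 3) F) + 1) +
        c3 • (mat (t1 : GL (Fin 3) F) * mat (t2 : GL (Fin 3) F) + 1) := by
      rw [← g1, ← g2, ← g3, ← mul_add, ← mul_add, ← h4, Matrix.mul_smul, mul_one]
    have := congrArg (fun N => (mat (u : GL (Fin 3) F) * N).trace) e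
    simp only [Matrix.mul_smul, mul_add, mul_one, Matrix.trace_smul, Matrix.trace_add, smul_eq_mul,
      hu0, add_zero] at this
    exact this
  have hinvd : ∀ {T : Matrix (Fin 3) (Fin 3) F} {d : F}, d ≠ 0 →
      mat (x : GL (Fin 3) F) * T = d • T → mat ((x : GL (Fin 3) F))⁻¹ * T = d⁻¹ • T := by
    intro T d hd h
    have := congrArg (fun N => d⁻¹ • (mat ((x : GL (Fin 3) F))⁻¹ * N)) h
    simp only [← mul_assoc, mat_inv_mul, one_mul, Matrix.mul_smul, smul_smul, inv_mul_cancel₀ hd,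
      one_smul] at this
    exact this.symm
  have hX := htr _ _ _ _ hd1x hd2x hd3x
  have hY := htr _ _ _ _ (hinvd hd0 hd1x)
    (hinvd (e2 ▸ mul_ne_zero (mul_ne_zero hk0 hk0) hd0) hd2x) (hinvd (e3 ▸ mul_ne_zero hk0 hd0) hd3x)
  rw [e2, e3, hT1] at hX hY
  have i2 : (k * k * d1)⁻¹ = k * d1⁻¹ := by
    refine inv_eq_of_mul_eq_one_right ?_
    calc k * k * d1 * (k * d1⁻¹) = k ^ 3 * (d1 * d1⁻¹) := by ring
      _ = 1 := by rw [hk3, mul_inv_cancel₀ hd0, one_mul]
  have i3 : (k * d1)⁻¹ = k * k * d1⁻¹ := by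
    refine inv_eq_of_mul_eq_one_right ?_
    calc k * d1 * (k * k * d1⁻¹) = k ^ 3 * (d1 * d1⁻¹) := by ring
      _ = 1 := by rw [hk3, mul_inv_cancel₀ hd0, one_mul]
  rw [i2, i3] at hY
  have hTsum : (mat (u : GL (Fin 3) F) * mat (t2 : GL (Fin 3) F)).trace +
      (mat (u : GL (Fin 3) F) * (mat (t1 : GL (Fin 3) F) * mat (t2 : GL (Fin 3) F))).trace = 1 := by
    have := congrArg (fun N => (mat (u : GL (Fin 3) F) * N).trace) hsum
    simp only [mul_add, Matrix.mul_neg, mul_one, Matrix.trace_add, Matrix.trace_neg, hT1, hu0] at this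
    linear_combination this
  generalize (mat (u : GL (Fin 3) F) * mat (x : GL (Fin 3) F)).trace = A at hA hX
  generalize (mat (u : GL (Fin 3) F) * mat ((x : GL (Fin 3) F))⁻¹).trace = B at hB hY
  generalize (mat (u : GL (Fin 3) F) * mat (t2 : GL (Fin 3) F)).trace = p2 at hT2 hTsum hX hY
  generalize (mat (u : GL (Fin 3) F) * (mat (t1 : GL (Fin 3) F) * mat (t2 : GL (Fin 3) F))).trace = p3
    at hT3 hTsum hX hY
  have hp : p2 * p3 = -1 := by linear_combination (p2) * hTsum - hT2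
  have h6 : (2 * A) * (2 * B) = 6 := by
    have hdd : d1 * d1⁻¹ = 1 := mul_inv_cancel₀ hd0
    rw [hX, hY]
    linear_combination ((-1 + k * k * p2 + k * p3) * (-1 + k * p2 + k * k * p3)) * hdd +
      (p2 * p2 + p3 * p3) * hk3 + (p2 * p3 * (k * k - k + 1) - (p2 + p3)) * hkq +
      (p2 + p3 + 2) * hTsum - 3 * hp
  have h5 : (5 : F) = 0 := five_eq_zero hA hB (by
    refine mul_left_cancel₀ h2 ?_
    linear_combination h6)
  have hd5 : p ∣ 5 := (CharP.cast_eq_zero_iff F p 5).1 (by exact_mod_cast h5)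
  exact (Nat.prime_dvd_prime_iff_eq Fact.out (by norm_num)).1 hd5

end CfsgLib.PGLThree
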