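import Cfsg.Agent.PGLThree.Ctx

/-!
# Traces of inverted elements of small order
-/

set_option autoImplicit false
set_option linter.unusedSectionVars false

namespace CfsgLib.PGLThree

open Matrix Cfsg.Geo CfsgLib.Aschbacher

variable {F : Type*} [Field F]

theorem cayley_three (M : Matrix (Fin 3) (Fin 3) F) :
    M * M * M - M.trace • (M * M) + M.adjugate.trace • M - M.det • 1 = 0 := by
  ext i j
  fin_cases i <;> fin_cases j <;>
    simp [Matrix.mul_apply, Fin.sum_univ_three, Matrix.det_fin_three, Matrix.trace_fin_three,
      Matrix.adjugate_fin_three] <;> ring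

theorem adjugate_mat {g : GL (Fin 3) F} (hd : (mat g).det = 1) : (mat g).adjugate = mat g⁻¹ := by
  have h1 := Matrix.adjugate_mul (mat g)
  rw [hd, one_smul] at h1
  calc (mat g).adjugate = (mat g).adjugate * (mat g * mat g⁻¹) := by rw [mat_mul_inv, mul_one]
    _ = mat g⁻¹ := by rw [← mul_assoc, h1, one_mul]

/-- The relation of degree three satisfied by an inverted element. -/
theorem cubic_of_inverted {g : GL (Fin 3) F} (hd : (mat g).det = 1)
    (hinv : (mat g⁻¹).trace = (mat g).trace) :
    (mat g - 1) * (mat g * mat g - ((mat g).trace - 1) • mat g + 1) = 0 := by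
  have h := cayley_three (mat g)
  rw [adjugate_mat hd, hinv, hd, one_smul] at h
  rw [← h]
  simp only [sub_mul, mul_add, mul_sub, one_mul, mul_one, Matrix.mul_smul, sub_smul, one_smul,
    ← mul_assoc]
  abel

/-- An inverted element of order three has trace zero. -/
theorem trace_of_cube {g : GL (Fin 3) F} (hd : (mat g).det = 1)
    (hinv : (mat g⁻¹).trace = (mat g).trace) (h3 : g ^ 3 = 1) (hne : g ≠ 1) :
    (mat g).trace = 0 := by
  have hc := cubic_of_inverted hd hinv
  by_contra ht
  apply hne
  have h3' : mat g * mat g * mat g = 1 := by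
    have := congrArg mat h3
    simpa [mat, pow_succ, Units.val_mul] using this
  have h : (mat g).trace • ((mat g - 1) * mat g) = 0 := by
    have e : (mat g - 1) * (mat g * mat g + mat g + 1) = 0 := by
      simp only [sub_mul, mul_add, one_mul, mul_one, ← mul_assoc, h3']
      abel
    calc (mat g).trace • ((mat g - 1) * mat g)
        = (mat g - 1) * (mat g * mat g + mat g + 1) -
            (mat g - 1) * (mat g * mat g - ((mat g).trace - 1) • mat g + 1) := by
          rw [← mul_sub, ← Matrix.mul_smul]
          congr 1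
          rw [sub_smul, one_smul]
          abel
      _ = 0 := by rw [e, hc, sub_zero]
  rw [smul_eq_zero, or_iff_right ht] at h
  have h' : mat g - 1 = 0 := by
    calc mat g - 1 = (mat g - 1) * (mat g * mat g⁻¹) := by rw [mat_mul_inv, mul_one]
      _ = 0 := by rw [← mul_assoc, h, zero_mul]
  exact mat_inj ((sub_eq_zero.1 h').trans (by simp [mat]))

/-- An inverted element of order five has trace a root of `X² - X - 1`. -/
theorem trace_of_fifth {g : GL (Fin 3) F} (hd : (mat g).det = 1)
    (hinv : (mat g⁻¹).trace = (mat g).trace) (h5 : g ^ 5 = 1) (hne : g ≠ 1) :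
    (mat g).trace * (mat g).trace = (mat g).trace + 1 := by
  have hc := cubic_of_inverted hd hinv
  obtain ⟨c, hct⟩ : ∃ c, c = (mat g).trace - 1 := ⟨_, rfl⟩
  rw [← hct] at hc
  by_contra hk
  have hk' : c * c + c - 1 ≠ 0 := fun e => hk (by rw [hct] at e; linear_combination e)
  apply hne
  obtain ⟨G, hG⟩ : ∃ G, G = mat g := ⟨_, rfl⟩
  rw [← hG] at hc
  have h5' : G * G * G * G * G = 1 := by
    have := congrArg mat h5
    simpa [hG, mat, pow_succ, Units.val_mul] using this
  have e : (G - 1) * (G * G * G * G + G * G * G + G * G + G + 1) = 0 := by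
    simp only [sub_mul, mul_add, one_mul, mul_one, ← mul_assoc, h5']
    abel
  have hdiv : (c * c + c - 1) • ((G - 1) * (c • G - 1)) =
      (G - 1) * (G * G * G * G + G * G * G + G * G + G + 1) -
        ((G - 1) * (G * G - c • G + 1)) * (G * G + (1 + c) • G + (c + c * c) • 1) := by
    rw [← Matrix.mul_smul, mul_assoc _ _ (G * G + _ + _), ← mul_sub]
    congr 1
    simp only [mul_add, mul_sub, add_mul, sub_mul, smul_mul_assoc, Matrix.mul_smul, one_mul, mul_one,
      ← mul_assoc]
    module
  rw [e, hc, zero_mul, sub_zero, smul_eq_zero, or_iff_right hk'] at hdiv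
  have h : (G - 1) * G * G = 0 := by
    calc (G - 1) * G * G = (G - 1) * (G * G - c • G + 1) + (G - 1) * (c • G - 1) := by
          rw [← mul_add, mul_assoc]
          congr 1
          abel
      _ = 0 := by rw [hc, hdiv, add_zero]
  have h' : G - 1 = 0 := by
    have hu : IsUnit (G * G) := by rw [hG]; exact (g.isUnit).mul g.isUnit
    rw [mul_assoc] at h
    exact hu.mul_left_eq_zero.1 h
  rw [hG] at h'
  exact mat_inj ((sub_eq_zero.1 h').trans (by simp [mat]))

/-- An element of order two has trace minus one. -/
theorem trace_of_square {g : GL (Fin 3) F} (hd : (mat g).det = 1) (h2 : g * g = 1) (hne : g ≠ 1) :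
    (mat g).trace = -1 := by
  have hinv : g⁻¹ = g := inv_eq_of_mul_eq_one_right h2
  have h := cayley_three (mat g)
  have hsq : mat g * mat g = 1 := by
    have := congrArg mat h2
    simpa [mat, Units.val_mul] using this
  rw [adjugate_mat hd, hinv, hd, one_smul, hsq, one_mul] at h
  have h' : ((mat g).trace + 1) • (mat g - 1) = 0 := by
    rw [← h]
    module
  rcases smul_eq_zero.1 h' with e | e
  · exact eq_neg_of_add_eq_zero_left e
  · exact absurd (mat_inj ((sub_eq_zero.1 e).trans (by simp [mat]))) hne

end CfsgLib.PGLThree
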